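import Mathlib
import Cfsg.Agent.Lib.GeomClasses.UnitCentres
import Cfsg.Agent.Lib.GeomClasses.Tensor
import Cfsg.Agent.Lib.TensorWreathMax.Main

/-!
Forms given by Gram matrices, tensor powers of a unitary form, and elements of the special unitary group of a
single factor.
-/

set_option autoImplicit false
set_option linter.unusedSectionVars false
set_option linter.unusedSimpArgs false

namespace CfsgLib.UnitWreathMax

open Matrix Module
open scoped Kronecker
open CfsgLib.GeomClasses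
open CfsgLib.Maximal.TensorPower
open CfsgLib.TensorWreathMax

attribute [-simp] Matrix.coe_units_inv

variable {F : Type*} [Field F]

section gram

variable {ι κ : Type} [Fintype ι] [DecidableEq ι] [Fintype κ] [DecidableEq κ] {σ : F ≃+* F}

/-- The form of a Gram matrix. -/
abbrev fog (σ : F ≃+* F) (G : Matrix ι ι F) : (ι → F) → (ι → F) → F :=
  Cfsg.Geo.formOfGram (σ : F → F) G

theorem fog_eq (G : Matrix ι ι F) (x y : ι → F) : fog σ G x y = x ⬝ᵥ (G *ᵥ fun b => σ (y b)) := by
  simp only [fog, Cfsg.Geo.formOfGram, dotProduct, Matrix.mulVec, Finset.mul_sum, mul_assoc]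

theorem fog_sesq (G : Matrix ι ι F) : IsSesq (σ : F →+* F) (fog σ G) := by
  refine ⟨fun x y v => ?_, fun c x v => ?_, fun v x y => ?_, fun c v x => ?_⟩
  · simp [fog_eq, add_dotProduct]
  · simp [fog_eq, smul_dotProduct]
  · rw [fog_eq, fog_eq, fog_eq, ← dotProduct_add, ← Matrix.mulVec_add]
    congr 2
    funext b
    simp
  · rw [fog_eq, fog_eq, show (fun b => σ ((c • x) b)) = σ c • fun b => σ (x b) from funext fun b => by simp,
      Matrix.mulVec_smul, dotProduct_smul]
    rfl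

theorem fog_single (G : Matrix ι ι F) (a b : ι) : fog σ G (Pi.single a 1) (Pi.single b 1) = G a b := by
  rw [fog_eq, show (fun c => σ ((Pi.single b 1 : ι → F) c)) = Pi.single b 1 from funext fun c => by
    simp [Pi.single_apply, apply_ite σ]]
  simp [single_dotProduct, Matrix.mulVec_single_one]

theorem conj_mulVec (σ : F ≃+* F) (Y : Matrix ι ι F) (y : ι → F) :
    (fun b => σ ((Y *ᵥ y) b)) = Y.map σ *ᵥ fun b => σ (y b) := by
  funext b
  simp [Matrix.mulVec, dotProduct, map_sum, map_mul]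

theorem fog_mulVec (G X Y : Matrix ι ι F) (x y : ι → F) :
    fog σ G (X *ᵥ x) (Y *ᵥ y) = fog σ (Xᵀ * G * Y.map σ) x y := by
  rw [fog_eq, fog_eq, conj_mulVec, ← Matrix.mulVec_mulVec, ← Matrix.mulVec_mulVec,
    Matrix.dotProduct_mulVec x Xᵀ, Matrix.vecMul_transpose]

theorem fog_ext {G G' : Matrix ι ι F} (h : ∀ x y, fog σ G x y = fog σ G' x y) : G = G' :=
  Matrix.ext fun a b => by rw [← fog_single (σ := σ) G, h, fog_single]

/-- A Hermitian invertible matrix. -/
structure Herm (σ : F ≃+* F) (G : Matrix ι ι F) : Prop where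
  herm : ∀ a b, σ (G a b) = G b a
  det : G.det ≠ 0

theorem Herm.conj {G : Matrix ι ι F} (hG : Herm σ G) (hσ : ∀ a, σ (σ a) = a) (x y : ι → F) :
    σ (fog σ G x y) = fog σ G y x := by
  simp only [fog, Cfsg.Geo.formOfGram, map_sum, map_mul, hσ, hG.herm]
  rw [Finset.sum_comm]
  exact Finset.sum_congr rfl fun a _ => Finset.sum_congr rfl fun b _ => by ring

theorem Herm.unitary {G : Matrix ι ι F} (hG : Herm σ G) (hne : σ ≠ RingEquiv.refl F) (hσ : ∀ a, σ (σ a) = a) :
    Cfsg.Geo.IsUnitaryForm σ (fog σ G) where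
  ne_refl := hne
  involutive := hσ
  add_left := (fog_sesq G).add_left
  smul_left := (fog_sesq G).smul_left
  herm v w := (hG.conj hσ w v).symm
  nondegenerate v hv := by
    obtain ⟨i, hi⟩ := Function.ne_iff.1 (show (G *ᵥ fun b => σ (v b)) ≠ 0 from fun h => hv (funext fun b =>
      σ.injective (by
        rw [Pi.zero_apply, map_zero]
        exact congrFun (Matrix.eq_zero_of_mulVec_eq_zero hG.det h) b)))
    have h1 : fog σ G (Pi.single i 1) v ≠ 0 := by
      rw [fog_eq, single_dotProduct, one_mul]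
      exact hi
    exact ⟨⟨_, h1⟩, ⟨Pi.single i 1, fun h0 => h1 (by rw [← hG.conj hσ, h0, map_zero])⟩⟩

theorem eq_fog {f : (ι → F) → (ι → F) → F} (hf : Cfsg.Geo.IsUnitaryForm σ f) (x y : ι → F) :
    f x y = fog σ (Cfsg.Geo.gramMatrix f) x y :=
  Tensor.sesq_expand (Unit.sesq hf) x y

theorem Herm.gram {f : (ι → F) → (ι → F) → F} (hf : Cfsg.Geo.IsUnitaryForm σ f) :
    Herm σ (Cfsg.Geo.gramMatrix f) := by
  refine ⟨fun a b => Unit.conj_form hf _ _, fun h => ?_⟩
  obtain ⟨w, hw, hw0⟩ := Matrix.exists_mulVec_eq_zero_iff.2 h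
  obtain ⟨x, hx⟩ := (hf.nondegenerate (fun b => σ (w b)) (fun h0 => hw (funext fun b => by
    simpa using congrFun h0 b))).1
  refine hx ?_
  rw [eq_fog hf, fog_eq]
  simp only [hf.involutive]
  rw [hw0, dotProduct_zero]

theorem Herm.kron {G : Matrix ι ι F} {H : Matrix κ κ F} (hG : Herm σ G) (hH : Herm σ H) : Herm σ (G ⊗ₖ H) :=
  ⟨fun a b => by simp [Matrix.kroneckerMap_apply, hG.herm, hH.herm], by
    rw [Matrix.det_kronecker]; exact mul_ne_zero (pow_ne_zero _ hG.det) (pow_ne_zero _ hH.det)⟩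

/-- A matrix preserving a form. -/
def Pres (h : (ι → F) → (ι → F) → F) (X : Matrix ι ι F) : Prop := ∀ x y, h (X *ᵥ x) (X *ᵥ y) = h x y

/-- A similitude of a form. -/
def Sim (h : (ι → F) → (ι → F) → F) (X : Matrix ι ι F) : Prop :=
  ∃ c : F, c ≠ 0 ∧ ∀ x y, h (X *ᵥ x) (X *ᵥ y) = c * h x y

/-- A matrix and its adjoint. -/
def Adj (h : (ι → F) → (ι → F) → F) (X X' : Matrix ι ι F) : Prop := ∀ x y, h (X *ᵥ x) y = h x (X' *ᵥ y)

theorem pres_iff {G X : Matrix ι ι F} : Pres (fog σ G) X ↔ Xᵀ * G * X.map σ = G :=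
  ⟨fun h => fog_ext (σ := σ) fun x y => by rw [← fog_mulVec, h],
    fun h x y => by rw [fog_mulVec, h]⟩

theorem adj_iff {G X X' : Matrix ι ι F} : Adj (fog σ G) X X' ↔ Xᵀ * G = G * X'.map σ := by
  have h1 : ∀ x y, fog σ G (X *ᵥ x) y = fog σ (Xᵀ * G) x y := fun x y => by
    have := fog_mulVec (σ := σ) G X 1 x y
    rwa [Matrix.one_mulVec, Matrix.map_one _ (map_zero σ) (map_one σ), mul_one] at this
  have h2 : ∀ x y, fog σ G x (X' *ᵥ y) = fog σ (G * X'.map σ) x y := fun x y => by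
    have := fog_mulVec (σ := σ) G 1 X' x y
    rwa [Matrix.one_mulVec, Matrix.transpose_one, one_mul] at this
  exact ⟨fun h => fog_ext (σ := σ) fun x y => by rw [← h1, ← h2, h],
    fun h x y => by rw [h1, h2, h]⟩

theorem Pres.mul {h : (ι → F) → (ι → F) → F} {X Y : Matrix ι ι F} (hX : Pres h X) (hY : Pres h Y) :
    Pres h (X * Y) := fun x y => by
  rw [← Matrix.mulVec_mulVec, ← Matrix.mulVec_mulVec, hX, hY]

theorem Pres.sim {h : (ι → F) → (ι → F) → F} {X : Matrix ι ι F} (hX : Pres h X) : Sim h X :=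
  ⟨1, one_ne_zero, fun x y => by rw [hX, one_mul]⟩

theorem Sim.mul {h : (ι → F) → (ι → F) → F} {X Y : Matrix ι ι F} (hX : Sim h X) (hY : Sim h Y) :
    Sim h (X * Y) := by
  obtain ⟨c, hc, hX⟩ := hX
  obtain ⟨d, hd, hY⟩ := hY
  exact ⟨c * d, mul_ne_zero hc hd, fun x y => by
    rw [← Matrix.mulVec_mulVec, ← Matrix.mulVec_mulVec, hX, hY, mul_assoc]⟩

theorem Sim.inv {h : (ι → F) → (ι → F) → F} {g : GL ι F} (hg : Sim h (g : Matrix ι ι F)) :
    Sim h ((g⁻¹ : GL ι F) : Matrix ι ι F) := by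
  obtain ⟨c, hc, hg⟩ := hg
  refine ⟨c⁻¹, inv_ne_zero hc, fun x y => ?_⟩
  have := hg (((g⁻¹ : GL ι F) : Matrix ι ι F) *ᵥ x) (((g⁻¹ : GL ι F) : Matrix ι ι F) *ᵥ y)
  rw [gl_mulVec_inv_mulVec, gl_mulVec_inv_mulVec] at this
  rw [this, inv_mul_cancel_left₀ hc]

theorem Pres.inv {h : (ι → F) → (ι → F) → F} {g : GL ι F} (hg : Pres h (g : Matrix ι ι F)) :
    Pres h ((g⁻¹ : GL ι F) : Matrix ι ι F) := fun x y => by
  have := hg (((g⁻¹ : GL ι F) : Matrix ι ι F) *ᵥ x) (((g⁻¹ : GL ι F) : Matrix ι ι F) *ᵥ y)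
  rwa [gl_mulVec_inv_mulVec, gl_mulVec_inv_mulVec, eq_comm] at this

end gram

/-! ### Tensor powers -/

section power

variable {k t : ℕ} {σ : F ≃+* F}

theorem transpose_pm (as : Fin t → Matrix (Fin k) (Fin k) F) : (pm as)ᵀ = pm fun i => (as i)ᵀ := rfl

theorem map_pm (σ : F ≃+* F) (as : Fin t → Matrix (Fin k) (Fin k) F) :
    (pm as).map σ = pm fun i => (as i).map σ := by
  ext x y
  simp [pm, map_prod]

theorem Herm.pm {G : Matrix (Fin k) (Fin k) F} (hG : Herm σ G) :
    Herm σ (CfsgLib.Maximal.TensorPower.pm fun _ : Fin t => G) := by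
  refine ⟨fun a b => by simp [CfsgLib.Maximal.TensorPower.pm, map_prod, hG.herm], fun h => ?_⟩
  have h1 : CfsgLib.Maximal.TensorPower.pm (fun _ : Fin t => G) * CfsgLib.Maximal.TensorPower.pm (fun _ : Fin t => G⁻¹) = 1 := by
    rw [pm_mul, Matrix.mul_nonsing_inv _ (isUnit_iff_ne_zero.2 hG.det)]
    exact pm_one
  have h2 := congrArg Matrix.det h1
  rw [Matrix.det_mul, h, zero_mul, Matrix.det_one] at h2
  exact zero_ne_one h2

/-- The tensor power of a form. -/
def tf (σ : F ≃+* F) (f : (Fin k → F) → (Fin k → F) → F) (t : ℕ) : (Idx k t → F) → (Idx k t → F) → F :=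
  fog σ (pm fun _ : Fin t => Cfsg.Geo.gramMatrix f)

/-- A unitary factor. -/
structure Sp (σ : F ≃+* F) (f : (Fin k → F) → (Fin k → F) → F) : Prop where
  unit : Cfsg.Geo.IsUnitaryForm σ f
  three_le : 3 ≤ k
  small : (∃ s : F, σ s = s ∧ s ≠ 0 ∧ s ≠ 1) ∨ 4 ≤ k

variable {f : (Fin k → F) → (Fin k → F) → F}

namespace Sp

variable (S : Sp σ f)
include S

theorem invol (a : F) : σ (σ a) = a := S.unit.involutive a

theorem herm_gram : Herm σ (Cfsg.Geo.gramMatrix f) := Herm.gram S.unit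

theorem tf_unitary (t : ℕ) : Cfsg.Geo.IsUnitaryForm σ (tf σ f t) :=
  (S.herm_gram.pm).unitary S.unit.ne_refl S.invol

theorem pres_pm {as : Fin t → Matrix (Fin k) (Fin k) F} (h : ∀ i, Pres f (as i)) : Pres (tf σ f t) (pm as) := by
  rw [tf, pres_iff, transpose_pm, map_pm, pm_mul, pm_mul]
  congr 1
  funext i
  refine pres_iff.1 fun x y => ?_
  rw [← eq_fog S.unit, ← eq_fog S.unit, h]

theorem adj_pm {as bs : Fin t → Matrix (Fin k) (Fin k) F} (h : ∀ i, Adj f (as i) (bs i)) :
    Adj (tf σ f t) (pm as) (pm bs) := by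
  rw [tf, adj_iff, transpose_pm, map_pm, pm_mul, pm_mul]
  congr 1
  funext i
  refine adj_iff.1 fun x y => ?_
  rw [← eq_fog S.unit, ← eq_fog S.unit, h]

theorem pres_slot {A : Matrix (Fin k) (Fin k) F} (hA : Pres f A) (i : Fin t) : Pres (tf σ f t) (slot i A) := by
  rw [slot_apply]
  refine S.pres_pm fun l => ?_
  rcases eq_or_ne l i with rfl | hl
  · simpa using hA
  · rw [Function.update_of_ne hl]
    intro x y
    simp

end Sp

/-- The special unitary group of a factor. -/
def su (f : (Fin k → F) → (Fin k → F) → F) : Subgroup (GL (Fin k) F) :=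
  Cfsg.preserving (Units.coeHom (Matrix (Fin k) (Fin k) F)) f ⊓ Cfsg.Geo.specialLinear (Fin k) F

theorem mem_su {A : GL (Fin k) F} :
    A ∈ su f ↔ Pres f (A : Matrix (Fin k) (Fin k) F) ∧ (A : Matrix (Fin k) (Fin k) F).det = 1 :=
  and_congr mem_preserving mem_specialLinear

/-- `x ↦ f(x, a) a`. -/
def pj (f : (Fin k → F) → (Fin k → F) → F) (a : Fin k → F) : Matrix (Fin k) (Fin k) F :=
  vecMulVec a (fVec f a)

namespace Sp

variable (S : Sp σ f)
include S

theorem fdot (a x : Fin k → F) : fVec f a ⬝ᵥ x = f x a := (Unit.sesq S.unit).fVec_dot a x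

theorem fvec_smul (c : F) (a : Fin k → F) : fVec f (c • a) = σ c • fVec f a := (Unit.sesq S.unit).fVec_smul c a

theorem vm_mul (a a' b b' : Fin k → F) :
    vecMulVec a (fVec f a') * vecMulVec b (fVec f b') = f b a' • vecMulVec a (fVec f b') := by
  rw [vecMulVec_mul_vecMulVec, S.fdot, vecMulVec_smul]

theorem pj_mulVec (a x : Fin k → F) : pj f a *ᵥ x = f x a • a := by
  rw [pj, vecMulVec_mulVec, op_smul_eq_smul, S.fdot]

theorem pj_mul_self {a : Fin k → F} (ha : f a a = 0) : pj f a * pj f a = 0 := by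
  rw [pj, S.vm_mul, ha, zero_smul]

theorem pj_mul_eq_zero {a b : Fin k → F} (h : f b a = 0) : pj f a * pj f b = 0 := by
  rw [pj, pj, S.vm_mul, h, zero_smul]

theorem pj_smul (c : F) (a : Fin k → F) : pj f (c • a) = (c * σ c) • pj f a := by
  rw [pj, pj, S.fvec_smul, smul_vecMulVec, vecMulVec_smul, smul_smul]

theorem adj_vm (a b : Fin k → F) : Adj f (vecMulVec a (fVec f b)) (vecMulVec b (fVec f a)) := fun x y => by
  rw [vecMulVec_mulVec, vecMulVec_mulVec, op_smul_eq_smul, op_smul_eq_smul, S.fdot, S.fdot, Unit.smul_left S.unit,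
    Unit.smul_right S.unit, Unit.conj_form S.unit, mul_comm]

theorem pj_adj (a : Fin k → F) : Adj f (pj f a) (pj f a) := S.adj_vm a a

theorem conj_vm {A : GL (Fin k) F} (hA : Pres f (A : Matrix (Fin k) (Fin k) F)) (a b : Fin k → F) :
    (A : Matrix (Fin k) (Fin k) F) * vecMulVec a (fVec f b) * ((A⁻¹ : GL (Fin k) F) : Matrix (Fin k) (Fin k) F) =
      vecMulVec ((A : Matrix (Fin k) (Fin k) F) *ᵥ a) (fVec f ((A : Matrix (Fin k) (Fin k) F) *ᵥ b)) := by
  rw [mul_vecMulVec, vecMulVec_mul]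
  congr 1
  refine GeomClasses.dot_right_cancel fun x => ?_
  rw [← dotProduct_mulVec, S.fdot, S.fdot]
  conv_rhs => rw [← gl_mulVec_inv_mulVec A x, hA]

theorem conj_pj {A : GL (Fin k) F} (hA : Pres f (A : Matrix (Fin k) (Fin k) F)) (a : Fin k → F) :
    (A : Matrix (Fin k) (Fin k) F) * pj f a * ((A⁻¹ : GL (Fin k) F) : Matrix (Fin k) (Fin k) F) =
      pj f ((A : Matrix (Fin k) (Fin k) F) *ᵥ a) :=
  S.conj_vm hA a a

theorem pj_ne_zero {a : Fin k → F} (ha : a ≠ 0) : pj f a ≠ 0 := by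
  intro h
  obtain ⟨x, hx⟩ := (S.unit.nondegenerate a ha).1
  have h1 := S.pj_mulVec a x
  rw [h, Matrix.zero_mulVec] at h1
  exact ha ((smul_eq_zero.1 h1.symm).resolve_left hx)

theorem formTv_val {a : Fin k → F} (ha : f a a = 0) (c : F) :
    (formTv f a c : Matrix (Fin k) (Fin k) F) = 1 + c • pj f a := by
  rw [formTv, tv_val (by rw [smul_dotProduct, S.fdot, ha, smul_zero]), vecMulVec_smul, pj]

theorem formTv_mem {a : Fin k → F} (ha : f a a = 0) {c : F} (hc : c + σ c = 0) : formTv f a c ∈ su f :=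
  mem_su.2 ⟨Unit.formTv_isometry S.unit ha hc, mem_specialLinear.1 (formTv_mem_specialLinear _ _ _)⟩

variable [Fintype F]

theorem root_mem {u w : Fin k → F} (hu : f u u = 0) (huw : f u w = 0) {γ : F} (hγ : γ + σ γ = - f w w) :
    UnitOrth.root f u w γ ∈ su f :=
  mem_su.2 ⟨UnitOrth.root_isometry S.unit hu huw hγ, mem_specialLinear.1 (UnitCentres.root_det S.unit)⟩

theorem exists_gamma (w : Fin k → F) : ∃ γ : F, γ + σ γ = - f w w :=
  Unit.exists_trace S.unit.ne_refl S.unit.involutive (by rw [map_neg, Unit.self_fixed S.unit])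

theorem exists_norm {b : F} (hb : σ b = b) : ∃ x : F, x * σ x = b :=
  Unit.exists_norm S.unit.ne_refl S.unit.involutive hb

theorem exists_one {a : Fin k → F} (ha : a ≠ 0) : ∃ y, f y a = 1 ∧ f a y = 1 := by
  obtain ⟨y, hy⟩ := TensorWreathMax.exists_dot_eq_one' ((Unit.sesq S.unit).fVec_ne_zero S.unit.nondegenerate ha)
  rw [S.fdot] at hy
  exact ⟨y, hy, by rw [← Unit.conj_form S.unit, hy, map_one]⟩

theorem exists_partner {a : Fin k → F} (ha0 : a ≠ 0) (ha : f a a = 0) :
    ∃ b, f b b = 0 ∧ f b a = 1 ∧ f a b = 1 := by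
  obtain ⟨y, hy, -⟩ := S.exists_one ha0
  obtain ⟨c, hc⟩ := Unit.exists_isotropic_add S.unit ha (x := y) (by rw [hy]; exact one_ne_zero)
  have h : f (y + c • a) a = 1 := by rw [Unit.add_left S.unit, Unit.smul_left S.unit, hy, ha, mul_zero, add_zero]
  exact ⟨_, hc, h, by rw [← Unit.conj_form S.unit, h, map_one]⟩

theorem exists_iso : ∃ a, a ≠ 0 ∧ f a a = 0 :=
  Unit.exists_isotropic S.unit (by rw [Fintype.card_fin]; exact le_trans (by norm_num) S.three_le)

theorem exists_aniso_perp {a b : Fin k → F} (ha : f a a = 0) (hb : f b b = 0) (hab : f a b = 1) :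
    ∃ z, f z a = 0 ∧ f z b = 0 ∧ f z z ≠ 0 := by
  classical
  have hba : f b a = 1 := by rw [← Unit.conj_form S.unit, hab, map_one]
  by_contra h
  push Not at h
  let p : (Fin k → F) → (Fin k → F) := fun x => x - f x b • a - f x a • b
  have hp : ∀ x, f (p x) a = 0 ∧ f (p x) b = 0 := fun x => by
    simp [p, Unit.sub_left S.unit, Unit.smul_left S.unit, ha, hb, hab, hba]
  obtain ⟨x, hx⟩ : ∃ x, p x ≠ 0 := by
    by_contra h0
    push Not at h0
    have hle : (⊤ : Submodule F (Fin k → F)) ≤ Submodule.span F (↑({a, b} : Finset (Fin k → F))) := fun x _ => by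
      rw [Finset.coe_pair, Submodule.mem_span_pair]
      have := h0 x
      simp only [p, sub_sub, sub_eq_zero] at this
      exact ⟨_, _, this.symm⟩
    have h1 := Submodule.finrank_mono hle
    have h2 := (finrank_span_finset_le_card (R := F) ({a, b} : Finset (Fin k → F))).trans Finset.card_le_two
    rw [Set.finrank] at h2
    rw [finrank_top, Module.finrank_fintype_fun_eq_card, Fintype.card_fin] at h1
    have := S.three_le
    omega
  obtain ⟨y, hy⟩ := (S.unit.nondegenerate (p x) hx).1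
  obtain ⟨hxa, hxb⟩ := hp x
  obtain ⟨hya, hyb⟩ := hp y
  have hyx : f (p y) (p x) ≠ 0 := by
    rwa [show f (p y) (p x) = f y (p x) by
      simp only [p] at hxa hxb ⊢
      rw [Unit.sub_left S.unit, Unit.sub_left S.unit, Unit.smul_left S.unit, Unit.smul_left S.unit,
        Unit.eq_zero_comm S.unit hxa, Unit.eq_zero_comm S.unit hxb, mul_zero, mul_zero, sub_zero, sub_zero]]
  obtain ⟨e, he⟩ := Unit.exists_trace_ne_zero S.unit.ne_refl
  have h3 := h (p y + (e / f (p x) (p y)) • p x)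
    (by rw [Unit.add_left S.unit, Unit.smul_left S.unit, hya, hxa, mul_zero, add_zero])
    (by rw [Unit.add_left S.unit, Unit.smul_left S.unit, hyb, hxb, mul_zero, add_zero])
  rw [Unit.self_add_smul S.unit, h _ hya hyb, h _ hxa hxb, div_mul_cancel₀ _ (Unit.ne_zero_comm S.unit hyx),
    mul_zero, zero_add, zero_add] at h3
  exact he h3

theorem exists_aniso (a : Fin k → F) (ha : f a a = 0) : ∃ z, f z a = 0 ∧ f z z ≠ 0 := by
  rcases eq_or_ne a 0 with rfl | ha0
  · obtain ⟨e, he0, he⟩ := S.exists_iso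
    obtain ⟨b, hb, -, heb⟩ := S.exists_partner he0 he
    obtain ⟨z, -, -, hz⟩ := S.exists_aniso_perp he hb heb
    exact ⟨z, Unit.zero_right S.unit z, hz⟩
  · obtain ⟨b, hb, -, hab⟩ := S.exists_partner ha0 ha
    obtain ⟨z, hza, -, hz⟩ := S.exists_aniso_perp ha hb hab
    exact ⟨z, hza, hz⟩

/-- An orthogonal pair of isotropic vectors, in dimension at least four. -/
theorem exists_iso_perp (hk : 4 ≤ k) {a : Fin k → F} (ha0 : a ≠ 0) (ha : f a a = 0) :
    ∃ b, f b b = 0 ∧ f b a = 0 ∧ ∀ c : F, b ≠ c • a := by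
  classical
  obtain ⟨a', ha', ha'a, haa'⟩ := S.exists_partner ha0 ha
  have h1 := Unit.finrank_perp S.unit (Submodule.span F (↑({a, a'} : Finset (Fin k → F))))
  have h2 := (finrank_span_finset_le_card (R := F) ({a, a'} : Finset (Fin k → F))).trans Finset.card_le_two
  rw [Set.finrank] at h2
  rw [Fintype.card_fin] at h1
  obtain ⟨b, hb, hb0, hbb⟩ := UnitCentres.exists_iso_any S.unit
    (X := Unit.perp S.unit (Submodule.span F (↑({a, a'} : Finset (Fin k → F))))) (by omega)
  rw [Unit.mem_perp S.unit] at hb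
  refine ⟨b, hbb, hb a (Submodule.subset_span (by simp)), fun c hc => ?_⟩
  have h3 := hb a' (Submodule.subset_span (by simp))
  rw [hc, Unit.smul_left S.unit, haa', mul_one] at h3
  exact hb0 (by rw [hc, h3, zero_smul])

/-- The torus element on a hyperbolic pair, corrected on an anisotropic vector. -/
theorem exists_torus {a : Fin k → F} (ha0 : a ≠ 0) (ha : f a a = 0) {α : F} (hα : α ≠ 0) :
    ∃ A ∈ su f, (A : Matrix (Fin k) (Fin k) F) *ᵥ a = α • a := by
  obtain ⟨b, hb, hba, hab⟩ := S.exists_partner ha0 ha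
  obtain ⟨z, hza, hzb, hz⟩ := S.exists_aniso_perp ha hb hab
  have haz := Unit.eq_zero_comm S.unit hza
  have hbz := Unit.eq_zero_comm S.unit hzb
  have hσα : σ α ≠ 0 := (RingEquiv.map_ne_zero_iff σ).2 hα
  let X₁ := 1 + vecMulVec ((α - 1) • a) (fVec f b)
  let X₂ := 1 + vecMulVec (((σ α)⁻¹ - 1) • b) (fVec f a)
  let X₃ := 1 + vecMulVec (((σ α * α⁻¹ - 1) / f z z) • z) (fVec f z)
  have hd : (X₁ * X₂ * X₃).det = 1 := by
    simp only [X₁, X₂, X₃, Matrix.det_mul, vecMulVec_eq Unit, det_one_add_replicateCol_mul_replicateRow,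
      S.fdot, Unit.smul_left S.unit, hab, hba, smul_eq_mul, mul_one]
    field_simp
    ring
  have hX : ∀ x, (X₁ * X₂ * X₃) *ᵥ x = x + ((α - 1) * f x b) • a + (((σ α)⁻¹ - 1) * f x a) • b +
      ((σ α * α⁻¹ - 1) / f z z * f x z) • z := fun x => by
    simp only [X₁, X₂, X₃, ← Matrix.mulVec_mulVec, Matrix.add_mulVec, Matrix.one_mulVec, vecMulVec_mulVec,
      op_smul_eq_smul, S.fdot, Unit.add_left S.unit, Unit.smul_left S.unit, hza, hzb, hbz, haz, hb, ha, mul_zero,
      add_zero, smul_smul]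
    match_scalars <;> ring
  have hp : Pres f (X₁ * X₂ * X₃) := fun x y => by
    rw [hX, hX]
    simp only [Unit.add_left S.unit, Unit.add_right S.unit, Unit.smul_left S.unit, Unit.smul_right S.unit, hza, hzb,
      hbz, haz, hb, ha, hab, hba, map_mul, map_sub, map_div₀, map_inv₀, map_one, S.invol,
      Unit.self_fixed S.unit, Unit.conj_form S.unit]
    field_simp
    ring
  refine ⟨Matrix.GeneralLinearGroup.mkOfDetNeZero _ (by rw [hd]; exact one_ne_zero), mem_su.2 ⟨hp, hd⟩, ?_⟩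
  show (X₁ * X₂ * X₃) *ᵥ a = _
  rw [hX, hab, ha, haz]
  simp [sub_smul]

/-- The special unitary group of a factor is transitive on non-zero isotropic vectors. -/
theorem exists_su_map {a b : Fin k → F} (ha0 : a ≠ 0) (ha : f a a = 0) (hb0 : b ≠ 0) (hb : f b b = 0) :
    ∃ A ∈ su f, (A : Matrix (Fin k) (Fin k) F) *ᵥ a = b := by
  have hnd : Cfsg.Geo.IsNondegenerateOn f (⊤ : Submodule F (Fin k → F)) := fun x _ hx => by
    obtain ⟨⟨y, hy⟩, ⟨y', hy'⟩⟩ := S.unit.nondegenerate x hx
    exact ⟨⟨y, trivial, hy⟩, ⟨y', trivial, hy'⟩⟩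
  have h2 : 2 ≤ Module.finrank F (⊤ : Submodule F (Fin k → F)) := by
    rw [finrank_top, Module.finrank_fintype_fun_eq_card, Fintype.card_fin]
    exact le_trans (by norm_num) S.three_le
  obtain ⟨c, -, hc, hac, hbc⟩ := UnitCentres.exists_iso_both S.unit hnd h2 (x := a) (x' := b)
    (let ⟨y, hy⟩ := (S.unit.nondegenerate a ha0).2; ⟨y, trivial, hy⟩)
    (let ⟨y, hy⟩ := (S.unit.nondegenerate b hb0).2; ⟨y, trivial, hy⟩)
  set l := f a c / f b c with hl
  have hl0 : l ≠ 0 := div_ne_zero hac hbc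
  obtain ⟨γ, hcw, hγ, hmap⟩ := UnitCentres.exists_root_move S.unit hc ha (v := l • b)
    (by rw [Unit.smul_left S.unit, Unit.smul_right S.unit, hb, mul_zero, mul_zero])
    (by rw [Unit.smul_left S.unit, hl, div_mul_cancel₀ _ hbc]) hac
  obtain ⟨T, hT, hTa⟩ := S.exists_torus ha0 ha (inv_ne_zero hl0)
  refine ⟨_, Subgroup.mul_mem _ (S.root_mem hc hcw hγ) hT, ?_⟩
  rw [gl_mul_mulVec, hTa, Matrix.mulVec_smul, hmap, smul_smul, inv_mul_cancel₀ hl0, one_smul]

/-- An orthonormal basis. -/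
theorem exists_basis : ∃ z : Fin k → Fin k → F, (∀ i j, f (z i) (z j) = if i = j then 1 else 0) ∧
    ∀ x, x = ∑ i, f x (z i) • z i := by
  suffices h : ∀ j ≤ k, ∃ z : Fin j → Fin k → F, ∀ i l, f (z i) (z l) = if i = l then 1 else 0 by
    obtain ⟨z, hz⟩ := h k le_rfl
    have hco : ∀ (c : Fin k → F) l, f (∑ i, c i • z i) (z l) = c l := fun c l => by
      rw [(Unit.sesq S.unit).sum_left]
      simp [Unit.smul_left S.unit, hz]
    have hli : LinearIndependent F z := Fintype.linearIndependent_iff.2 fun c hc l => by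
      rw [← hco c l, hc, Unit.zero_left S.unit]
    refine ⟨z, hz, fun x => ?_⟩
    have htop : Submodule.span F (Set.range z) = ⊤ := Submodule.eq_top_of_finrank_eq (by
      rw [finrank_span_eq_card hli, Module.finrank_fintype_fun_eq_card])
    obtain ⟨c, rfl⟩ := (Submodule.mem_span_range_iff_exists_fun F).1 (htop ▸ Submodule.mem_top (x := x))
    simp only [hco]
  intro j
  induction j with
  | zero => exact fun _ => ⟨fun i => i.elim0, fun i => i.elim0⟩
  | succ j ih =>
    intro hj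
    obtain ⟨z, hz⟩ := ih (by omega)
    have hco : ∀ (c : Fin j → F) l, f (∑ i, c i • z i) (z l) = c l := fun c l => by
      rw [(Unit.sesq S.unit).sum_left]
      simp [Unit.smul_left S.unit, hz]
    have hli : LinearIndependent F z := Fintype.linearIndependent_iff.2 fun c hc l => by
      rw [← hco c l, hc, Unit.zero_left S.unit]
    let P := Unit.perp S.unit (Submodule.span F (Set.range z))
    obtain ⟨w, hw, hww⟩ : ∃ w ∈ P, f w w ≠ 0 := by
      by_contra h
      push Not at h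
      have h1 := Unit.le_perp_of_isotropic S.unit h
      rw [show Unit.perp S.unit P = Submodule.span F (Set.range z) from Unit.perp_perp S.unit _] at h1
      have h2 : P = ⊥ := (Submodule.eq_bot_iff _).2 fun x hx => by
        obtain ⟨c, rfl⟩ := (Submodule.mem_span_range_iff_exists_fun F).1 (h1 hx)
        refine Finset.sum_eq_zero fun l _ => ?_
        rw [← hco c l, (Unit.mem_perp S.unit).1 hx _ (Submodule.subset_span ⟨l, rfl⟩), zero_smul]
      have h3 := Unit.finrank_perp S.unit (Submodule.span F (Set.range z))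
      rw [show Unit.perp S.unit (Submodule.span F (Set.range z)) = ⊥ from h2, finrank_bot, finrank_span_eq_card hli,
        Fintype.card_fin, Fintype.card_fin] at h3
      omega
    obtain ⟨c, hc⟩ := S.exists_norm (b := (f w w)⁻¹) (by rw [map_inv₀, Unit.self_fixed S.unit])
    refine ⟨Fin.cons (c • w) z, fun i l => ?_⟩
    have hwz : ∀ l, f w (z l) = 0 := fun l => (Unit.mem_perp S.unit).1 hw _ (Submodule.subset_span ⟨l, rfl⟩)
    cases i using Fin.cases with
    | zero =>
      cases l using Fin.cases with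
      | zero =>
        rw [Fin.cons_zero, Unit.smul_left S.unit, Unit.smul_right S.unit, if_pos rfl, ← mul_assoc, hc,
          inv_mul_cancel₀ hww]
      | succ l => rw [Fin.cons_zero, Fin.cons_succ, Unit.smul_left S.unit, hwz, mul_zero, if_neg (Fin.succ_ne_zero l).symm]
    | succ i =>
      cases l using Fin.cases with
      | zero =>
        rw [Fin.cons_succ, Fin.cons_zero, Unit.smul_right S.unit, Unit.eq_zero_comm S.unit (hwz i), mul_zero,
          if_neg (Fin.succ_ne_zero i)]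
      | succ l => rw [Fin.cons_succ, Fin.cons_succ, hz]; simp [Fin.succ_inj]

/-- Three distinct scalars of norm `-1`. -/
theorem exists_three : ∃ x y z : F, x ≠ y ∧ x ≠ z ∧ y ≠ z ∧ x * σ x = -1 ∧ y * σ y = -1 ∧ z * σ z = -1 := by
  obtain ⟨x, hx⟩ := S.exists_norm (b := -1) (by simp)
  have hx0 : x ≠ 0 := fun h => by simp [h] at hx
  obtain ⟨ω, hω⟩ := Unit.exists_moved S.unit.ne_refl
  have hω0 : ω ≠ 0 := fun h => by simp [h] at hω
  have hω1 : ω + 1 ≠ 0 := fun h => hω (by rw [eq_neg_of_add_eq_zero_left h]; simp)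
  have hσω : σ ω ≠ 0 := (RingEquiv.map_ne_zero_iff σ).2 hω0
  have hσω1 : σ ω + 1 ≠ 0 := by
    rw [← map_one σ, ← map_add]
    exact (RingEquiv.map_ne_zero_iff σ).2 hω1
  refine ⟨x, x * (ω / σ ω), x * ((ω + 1) / (σ ω + 1)), fun h => hω ?_, fun h => hω ?_, fun h => hω ?_, hx, ?_, ?_⟩
  · have h1 : ω / σ ω = 1 := mul_left_cancel₀ hx0 (by rw [← h, mul_one])
    exact ((div_eq_one_iff_eq hσω).1 h1).symm
  · have h1 : (ω + 1) / (σ ω + 1) = 1 := mul_left_cancel₀ hx0 (by rw [← h, mul_one])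
    have h2 := (div_eq_one_iff_eq hσω1).1 h1
    linear_combination -h2
  · have h2 := (div_eq_div_iff hσω hσω1).1 (mul_left_cancel₀ hx0 h)
    linear_combination -h2
  · rw [map_mul, map_div₀, S.invol, mul_mul_mul_comm, hx]
    field_simp
  · rw [map_mul, map_div₀, map_add, map_add, S.invol, map_one, mul_mul_mul_comm, hx]
    field_simp

/-- A sesquilinear map vanishing on isotropic vectors is a multiple of the form. -/
theorem eq_smul_of_iso {V : Type*} [AddCommGroup V] [Module F V] (B : (Fin k → F) → (Fin k → F) → V)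
    (al : ∀ x x' y, B (x + x') y = B x y + B x' y) (sl : ∀ (c : F) x y, B (c • x) y = c • B x y)
    (ar : ∀ x y y', B x (y + y') = B x y + B x y') (sr : ∀ (c : F) x y, B x (c • y) = σ c • B x y)
    (h : ∀ e, f e e = 0 → B e e = 0) : ∃ C : V, ∀ x y, B x y = f x y • C := by
  obtain ⟨z, hz, hzx⟩ := S.exists_basis
  obtain ⟨l₁, l₂, l₃, h12, h13, h23, hn₁, hn₂, hn₃⟩ := S.exists_three
  have hpair : ∀ l m, l ≠ m → B (z l) (z l) = B (z m) (z m) ∧ B (z l) (z m) = 0 := by
    intro l m hlm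
    have hq : ∀ x : F, x * σ x = -1 →
        - B (z l) (z m) + x • (B (z l) (z l) - B (z m) (z m)) + (x * x) • B (z m) (z l) = 0 := by
      intro x hx
      have h1 := h (z l + x • z m) (by
        rw [Unit.self_add_smul S.unit, hz, hz, hz, if_pos rfl, if_pos rfl, if_neg hlm.symm, hx, mul_zero, map_zero]
        ring)
      rw [al, ar, ar, sl, sl, sr, sr] at h1
      have h2 := congrArg (fun v => x • v) h1
      simp only [smul_add, smul_smul, smul_zero, hx, neg_smul, one_smul, show x * (x * σ x) = -x by rw [hx]; ring,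
        show x * σ x = -1 from hx] at h2
      rw [← h2]
      module
    have e1 := hq _ hn₁
    have e2 := hq _ hn₂
    have e3 := hq _ hn₃
    set P := B (z l) (z l) - B (z m) (z m)
    set Q := B (z m) (z l)
    set R := B (z l) (z m)
    have d2 : (l₁ - l₂) • (P + (l₁ + l₂) • Q) = (0 : V) := by
      rw [← sub_self (0 : V)]
      nth_rewrite 1 [← e1]
      rw [← e2, smul_add, smul_smul, sub_smul l₁ l₂ P, show (l₁ - l₂) * (l₁ + l₂) = l₁ * l₁ - l₂ * l₂ by ring,
        sub_smul]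
      abel
    have d3 : (l₁ - l₃) • (P + (l₁ + l₃) • Q) = (0 : V) := by
      rw [← sub_self (0 : V)]
      nth_rewrite 1 [← e1]
      rw [← e3, smul_add, smul_smul, sub_smul l₁ l₃ P, show (l₁ - l₃) * (l₁ + l₃) = l₁ * l₁ - l₃ * l₃ by ring,
        sub_smul]
      abel
    have d2' := (smul_eq_zero.1 d2).resolve_left (sub_ne_zero.2 h12)
    have d3' := (smul_eq_zero.1 d3).resolve_left (sub_ne_zero.2 h13)
    have hQ : Q = 0 := by
      have : (l₂ - l₃) • Q = 0 := by
        rw [← sub_self (0 : V)]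
        nth_rewrite 1 [← d2']
        rw [← d3', sub_smul, add_smul, add_smul]
        abel
      exact (smul_eq_zero.1 this).resolve_left (sub_ne_zero.2 h23)
    have hP : P = 0 := by simpa [hQ] using d2'
    refine ⟨sub_eq_zero.1 hP, ?_⟩
    simpa [hP, hQ] using e1
  have i₀ : Fin k := ⟨0, lt_of_lt_of_le (by norm_num) S.three_le⟩
  refine ⟨B (z i₀) (z i₀), fun x y => ?_⟩
  have hl : ∀ (c : Fin k → F) v, B (∑ i, c i • z i) v = ∑ i, c i • B (z i) v := fun c v => by
    refine (map_sum (AddMonoidHom.mk' (fun u => B u v) (fun u u' => al u u' v)) (fun i => c i • z i) Finset.univ).trans ?_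
    exact Finset.sum_congr rfl fun i _ => sl _ _ _
  have hr : ∀ (c : Fin k → F) v, B v (∑ i, c i • z i) = ∑ i, σ (c i) • B v (z i) := fun c v => by
    refine (map_sum (AddMonoidHom.mk' (fun u => B v u) (fun u u' => ar v u u')) (fun i => c i • z i) Finset.univ).trans ?_
    exact Finset.sum_congr rfl fun i _ => sr _ _ _
  conv_lhs => rw [hzx x, hzx y, hl]
  conv_rhs => rw [hzx y, (Unit.sesq S.unit).sum_right, Finset.sum_smul]
  refine Finset.sum_congr rfl fun i _ => ?_
  rw [hr, Finset.sum_eq_single i, Unit.smul_right S.unit, ← mul_smul, mul_comm]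
  · congr 1
    by_cases hii : i = i₀
    · rw [hii]
    · exact (hpair i i₀ hii).1
  · intro j _ hji
    rw [(hpair i j hji.symm).2, smul_zero]
  · simp

end Sp

end power

end CfsgLib.UnitWreathMax
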