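import Mathlib
import Cfsg.Agent.Lib.UnitWreathMax.Forms

/-!
Groups of isometries of a product of two unitary spaces containing the special unitary group of the left factor:
the coefficients of root elements, and similitudes fixing an isotropic axis.
-/

set_option autoImplicit false
set_option linter.unusedSectionVars false
set_option linter.unusedSimpArgs false

namespace CfsgLib.UnitWreathMax

open Matrix Module
open scoped Kronecker
open CfsgLib.GeomClasses
open CfsgLib.TensorWreathMax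

attribute [-simp] Matrix.coe_units_inv

variable {F : Type*} [Field F]

theorem fog_smul {ι : Type} [Fintype ι] [DecidableEq ι] (σ : F ≃+* F) (c : F) (G : Matrix ι ι F) (x y : ι → F) :
    fog σ (c • G) x y = c * fog σ G x y := by
  rw [fog_eq, fog_eq, Matrix.smul_mulVec, dotProduct_smul, smul_eq_mul]

theorem simEq_iff {ι : Type} [Fintype ι] [DecidableEq ι] {σ : F ≃+* F} {G X : Matrix ι ι F} {c : F} :
    (∀ x y, fog σ G (X *ᵥ x) (X *ᵥ y) = c * fog σ G x y) ↔ Xᵀ * G * X.map σ = c • G :=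
  ⟨fun h => fog_ext (σ := σ) fun x y => by rw [← fog_mulVec, h, fog_smul],
    fun h x y => by rw [fog_mulVec, h, fog_smul]⟩

variable {k : ℕ} {μ : Type} [Fintype μ] [DecidableEq μ] {σ : F ≃+* F} {f : (Fin k → F) → (Fin k → F) → F}
  {G : Matrix μ μ F}

/-- The product of a form with the form of a Gram matrix. -/
def hp (σ : F ≃+* F) (f : (Fin k → F) → (Fin k → F) → F) (G : Matrix μ μ F) :
    (Fin k × μ → F) → (Fin k × μ → F) → F :=
  fog σ (Cfsg.Geo.gramMatrix f ⊗ₖ G)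

theorem ct_eq_sum (φ : Fin k → F) (z : Fin k × μ → F) : ct φ z = ∑ r, φ r • ct (Pi.single r 1) z := by
  ext x
  simp only [Finset.sum_apply, Pi.smul_apply, ct_single, smul_eq_mul]
  rfl

theorem ct_add_left (φ ψ : Fin k → F) (z : Fin k × μ → F) : ct (φ + ψ) z = ct φ z + ct ψ z := by
  ext x; simp [ct, add_mul, Finset.sum_add_distrib]

theorem ct_smul_left (c : F) (φ : Fin k → F) (z : Fin k × μ → F) : ct (c • φ) z = c • ct φ z := by
  ext x; simp [ct, Finset.mul_sum, mul_assoc]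

theorem pl_dot (a b : Fin k → F) (u v : μ → F) : pl a u ⬝ᵥ pl b v = (a ⬝ᵥ b) * (u ⬝ᵥ v) := by
  simp only [dotProduct, pl, LinearMap.coe_mk, AddHom.coe_mk, Fintype.sum_prod_type, Finset.sum_mul_sum]
  exact Finset.sum_congr rfl fun _ _ => Finset.sum_congr rfl fun _ _ => by ring

/-- A scalar from one of two maps of different degree. -/
theorem scalar_fst {σ : F ≃+* F} (hσ : σ ≠ RingEquiv.refl F) {V : Type*} [AddCommGroup V] [Module F V] {one Z₁ Z₂ : V}
    (h : ∀ l : F, ∃ c : F, l • Z₁ - σ l • Z₂ = c • one) : ∃ c : F, Z₁ = c • one := by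
  obtain ⟨ω, hω⟩ := Unit.exists_moved hσ
  obtain ⟨c₁, h₁⟩ := h 1
  obtain ⟨c₂, h₂⟩ := h ω
  rw [map_one, one_smul, one_smul] at h₁
  have hd : ω - σ ω ≠ 0 := sub_ne_zero.2 (Ne.symm hω)
  refine ⟨(c₂ - σ ω * c₁) / (ω - σ ω), smul_right_injective V hd ?_⟩
  show (ω - σ ω) • Z₁ = (ω - σ ω) • (((c₂ - σ ω * c₁) / (ω - σ ω)) • one)
  rw [smul_smul, mul_div_cancel₀ _ hd, sub_smul c₂, mul_smul, ← h₁, ← h₂]
  module

theorem sub_kron {κ ι : Type} [Fintype κ] [Fintype ι] (A A' : Matrix κ κ F) (B : Matrix ι ι F) :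
    (A - A') ⊗ₖ B = A ⊗ₖ B - A' ⊗ₖ B := by
  ext i j
  simp [sub_mul]

/-- A product of two elements with a small commutator. -/
theorem in_comm {ι : Type} [Fintype ι] [DecidableEq ι] {M : Subgroup (GL ι F)} {X Y : Matrix ι ι F}
    (hX : In M (1 + X)) (hY : In M (1 + Y)) (h1 : (X * Y - Y * X) * X = 0) (h2 : (X * Y - Y * X) * Y = 0) :
    In M (1 + (X * Y - Y * X)) := by
  obtain ⟨g, hg, hgX⟩ := hX
  obtain ⟨h, hh, hhY⟩ := hY
  refine ⟨g * h * (h * g)⁻¹, M.mul_mem (M.mul_mem hg hh) (M.inv_mem (M.mul_mem hh hg)), ?_⟩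
  rw [Units.val_mul, Units.mul_inv_eq_iff_eq_mul, Units.val_mul, Units.val_mul, hgX, hhY]
  set D := X * Y - Y * X with hD
  rw [add_mul (1 : Matrix ι ι F) D, one_mul, ← mul_assoc, mul_add D 1 Y, mul_one, h2, add_zero, mul_add D 1 X, mul_one,
    h1, add_zero, hD]
  simp only [add_mul, mul_add, one_mul, mul_one]
  abel

/-- Isometries of a product containing the special unitary group of the left factor. -/
structure Grp (σ : F ≃+* F) (f : (Fin k → F) → (Fin k → F) → F) (G : Matrix μ μ F)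
    (M : Subgroup (GL (Fin k × μ) F)) : Prop where
  sp : Sp σ f
  herm : Herm σ G
  nonempty : Nonempty μ
  iso : ∀ g ∈ M, Pres (hp σ f G) (g : Matrix (Fin k × μ) (Fin k × μ) F)
  left : ∀ A ∈ su f, In M ((A : Matrix (Fin k) (Fin k) F) ⊗ₖ (1 : Matrix μ μ F))

/-- A coefficient of root elements. -/
def Good (σ : F ≃+* F) (f : (Fin k → F) → (Fin k → F) → F) (M : Subgroup (GL (Fin k × μ) F)) (Y : Matrix μ μ F) :
    Prop :=
  ∀ a, f a a = 0 → ∀ δ : F, δ + σ δ = 0 → In M (1 + δ • (pj f a ⊗ₖ Y))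

/-- Only scalars occur as coefficients. -/
def OnlyScalar (σ : F ≃+* F) (f : (Fin k → F) → (Fin k → F) → F) (M : Subgroup (GL (Fin k × μ) F)) : Prop :=
  ∀ Y : Matrix μ μ F, Good σ f M Y → ∃ c : F, Y = c • 1

theorem pres_hp_kron (hf : Cfsg.Geo.IsUnitaryForm σ f) {A : Matrix (Fin k) (Fin k) F} {B : Matrix μ μ F} {c d : F}
    (hA : ∀ x y, f (A *ᵥ x) (A *ᵥ y) = c * f x y) (hB : ∀ x y, fog σ G (B *ᵥ x) (B *ᵥ y) = d * fog σ G x y) :
    ∀ x y, hp σ f G ((A ⊗ₖ B) *ᵥ x) ((A ⊗ₖ B) *ᵥ y) = c * d * hp σ f G x y := by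
  rw [hp, simEq_iff]
  have h1 := simEq_iff.1 fun x y => by rw [← eq_fog hf, ← eq_fog hf]; exact hA x y
  have h2 := simEq_iff.1 hB
  rw [← Matrix.kroneckerMap_transpose, show (A ⊗ₖ B).map σ = A.map σ ⊗ₖ B.map σ by ext; simp,
    ← Matrix.mul_kronecker_mul, ← Matrix.mul_kronecker_mul, h1, h2, smul_kronecker, kronecker_smul, smul_smul]

namespace Grp

variable {M : Subgroup (GL (Fin k × μ) F)} (S : Grp σ f G M)
include S

theorem hp_pl (a b : Fin k → F) (u v : μ → F) : hp σ f G (pl a u) (pl b v) = f a b * fog σ G u v := by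
  rw [hp, fog_eq, show (fun p => σ (pl b v p)) = pl (fun i => σ (b i)) (fun x => σ (v x)) from funext fun p => by
    simp [pl], kronecker_mulVec_pl, pl_dot, eq_fog S.sp.unit, fog_eq, fog_eq]

theorem unitary : Cfsg.Geo.IsUnitaryForm σ (fog σ G) := S.herm.unitary S.sp.unit.ne_refl S.sp.invol

theorem hp_unitary : Cfsg.Geo.IsUnitaryForm σ (hp σ f G) :=
  (S.sp.herm_gram.kron S.herm).unitary S.sp.unit.ne_refl S.sp.invol

theorem adj (z : Fin k × μ → F) (a : Fin k → F) (u : μ → F) :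
    hp σ f G z (pl a u) = fog σ G (ct (fVec f a) z) u := by
  conv_lhs => rw [eq_sum_pl z, (Unit.sesq S.hp_unitary).sum_left]
  rw [ct_eq_sum (fVec f a) z, (Unit.sesq S.unitary).sum_left]
  refine Finset.sum_congr rfl fun r _ => ?_
  rw [S.hp_pl, Unit.smul_left S.unitary]
  rfl

theorem adj' (a : Fin k → F) (u : μ → F) (z : Fin k × μ → F) :
    hp σ f G (pl a u) z = fog σ G u (ct (fVec f a) z) := by
  rw [← Unit.conj_form S.hp_unitary, S.adj, Unit.conj_form S.unitary]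

theorem eq_zero_of_fog {u : μ → F} (h : ∀ v, fog σ G u v = 0) : u = 0 := by
  by_contra hu
  obtain ⟨v, hv⟩ := (S.unitary.nondegenerate u hu).2
  exact hv (h v)

theorem eq_zero_of_hp {z : Fin k × μ → F} (h : ∀ x, hp σ f G x z = 0) : z = 0 := by
  by_contra hu
  obtain ⟨v, hv⟩ := (S.hp_unitary.nondegenerate z hu).1
  exact hv (h v)

theorem kron_pj_mulVec (a : Fin k → F) (Y : Matrix μ μ F) (z : Fin k × μ → F) :
    (pj f a ⊗ₖ Y) *ᵥ z = pl a (Y *ᵥ ct (fVec f a) z) :=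
  nm_mulVec a (fVec f a) Y z

theorem kron_pj_sq {a : Fin k → F} (ha : f a a = 0) (Y Z : Matrix μ μ F) : (pj f a ⊗ₖ Y) * (pj f a ⊗ₖ Z) = 0 := by
  rw [← Matrix.mul_kronecker_mul, S.sp.pj_mul_self ha, zero_kronecker]

variable [Fintype F]

theorem exists_fvec (φ : Fin k → F) : ∃ c, fVec f c = φ :=
  (Finite.injective_iff_surjective.1 (Unit.fVec_injective S.sp.unit)) φ

theorem eq_pl {a θ : Fin k → F} (hθ : θ ⬝ᵥ a = 1) {x : Fin k × μ → F}
    (h : ∀ c, f c a = 0 → ct (fVec f c) x = 0) : x = pl a (ct θ x) := by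
  have h1 : ∀ r, ct (Pi.single r 1 - a r • θ) x = 0 := fun r => by
    obtain ⟨c, hc⟩ := S.exists_fvec (Pi.single r 1 - a r • θ)
    rw [← hc]
    refine h c (Unit.eq_zero_comm S.sp.unit ?_)
    rw [← S.sp.fdot, hc, sub_dotProduct, smul_dotProduct, single_dotProduct, hθ, smul_eq_mul, mul_one, one_mul,
      sub_self]
  ext ⟨r, y⟩
  have h2 := congrFun (h1 r) y
  rw [show Pi.single r (1 : F) - a r • θ = Pi.single r 1 + (-a r) • θ by rw [neg_smul, sub_eq_add_neg], ct_add_left,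
    ct_smul_left, Pi.add_apply, Pi.smul_apply, ct_single, smul_eq_mul, Pi.zero_apply] at h2
  simp only [pl, LinearMap.coe_mk, AddHom.coe_mk]
  linear_combination h2

/-- One root element gives all of them. -/
theorem good_of_one {a : Fin k → F} (ha0 : a ≠ 0) (ha : f a a = 0) {δ : F} (hδ0 : δ ≠ 0) (hδ : δ + σ δ = 0)
    {Y : Matrix μ μ F} (hY : In M (1 + δ • (pj f a ⊗ₖ Y))) : Good σ f M Y := by
  intro b hb δ' hδ'
  obtain ⟨x, hx⟩ := S.sp.exists_norm (b := δ' / δ) (by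
    rw [map_div₀, eq_neg_of_add_eq_zero_right hδ', eq_neg_of_add_eq_zero_right hδ, neg_div_neg_eq])
  rcases eq_or_ne (x • b) 0 with h0 | h0
  · rcases smul_eq_zero.1 h0 with hx0 | hb0
    · rw [hx0, zero_mul, eq_comm, div_eq_zero_iff] at hx
      rw [hx.resolve_right hδ0, zero_smul, add_zero]
      exact In.one
    · rw [hb0, pj, zero_vecMulVec, zero_kronecker, smul_zero, add_zero]
      exact In.one
  obtain ⟨A, hA, hAa⟩ := S.sp.exists_su_map ha0 ha h0
    (by rw [Unit.smul_left S.sp.unit, Unit.smul_right S.sp.unit, hb, mul_zero, mul_zero])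
  obtain ⟨g, hg, hgA⟩ := S.left A hA
  have h1 := In.conj hg hY
  have hgi : ((g⁻¹ : GL (Fin k × μ) F) : Matrix (Fin k × μ) (Fin k × μ) F) =
      ((A⁻¹ : GL (Fin k) F) : Matrix (Fin k) (Fin k) F) ⊗ₖ (1 : Matrix μ μ F) := by
    refine Units.inv_eq_of_mul_eq_one_right ?_
    rw [hgA, ← Matrix.mul_kronecker_mul, Units.mul_inv, one_mul, one_kronecker_one]
  rw [hgA, hgi, mul_smul_comm, smul_mul_assoc, ← Matrix.mul_kronecker_mul, ← Matrix.mul_kronecker_mul,
    S.sp.conj_pj (mem_su.1 hA).1, hAa, S.sp.pj_smul, hx, one_mul, mul_one, smul_kronecker, smul_smul,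
    mul_div_cancel₀ _ hδ0] at h1
  exact h1

/-- The coefficient of a root element is a scalar. -/
theorem scalar_of_in (hs : OnlyScalar σ f M) {a : Fin k → F} (ha0 : a ≠ 0) (ha : f a a = 0) {Y : Matrix μ μ F}
    (hY : In M (1 + pj f a ⊗ₖ Y)) : ∃ c : F, Y = c • 1 := by
  obtain ⟨δ, hδ0, hδ⟩ := Unit.exists_skew S.sp.unit.ne_refl S.sp.invol
  obtain ⟨c, hc⟩ := hs _ (S.good_of_one ha0 ha hδ0 hδ (Y := δ⁻¹ • Y) (by
    rwa [kronecker_smul, smul_smul, mul_inv_cancel₀ hδ0, one_smul]))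
  exact ⟨δ * c, by rw [mul_smul, ← hc, smul_smul, mul_inv_cancel₀ hδ0, one_smul]⟩

theorem good_add {Y Z : Matrix μ μ F} (hY : Good σ f M Y) (hZ : Good σ f M Z) : Good σ f M (Y + Z) :=
  fun a ha δ hδ => by
    rw [kronecker_add, smul_add]
    exact In.add (by rw [smul_mul_smul_comm, S.kron_pj_sq ha, smul_zero]) (hY a ha δ hδ) (hZ a ha δ hδ)

theorem good_smul {Y : Matrix μ μ F} (hY : Good σ f M Y) {c : F} (hc : σ c = c) : Good σ f M (c • Y) :=
  fun a ha δ hδ => by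
    rw [kronecker_smul, smul_smul]
    exact hY a ha _ (by rw [map_mul, hc, ← add_mul, hδ, zero_mul])

theorem good_sub {Y Z : Matrix μ μ F} (hY : Good σ f M Y) (hZ : Good σ f M Z) : Good σ f M (Y - Z) := by
  rw [sub_eq_add_neg, ← neg_one_smul F Z]
  exact S.good_add hY (S.good_smul hZ (by simp))

theorem good_conj {Y : Matrix μ μ F} (hY : Good σ f M Y) {τ τ' : Matrix μ μ F} (h' : τ * τ' = 1)
    (hτ : In M ((1 : Matrix (Fin k) (Fin k) F) ⊗ₖ τ)) : Good σ f M (τ * Y * τ') := fun a ha δ hδ => by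
  have h1 := (hτ.mul (hY a ha δ hδ)).mul
    (hτ.inv (Y := (1 : Matrix (Fin k) (Fin k) F) ⊗ₖ τ') (by
      rw [← Matrix.mul_kronecker_mul, one_mul, h', one_kronecker_one]))
  rwa [mul_add, mul_one, add_mul, ← Matrix.mul_kronecker_mul, one_mul, h', one_kronecker_one, mul_smul_comm,
    smul_mul_assoc, ← Matrix.mul_kronecker_mul, ← Matrix.mul_kronecker_mul, Matrix.one_mul, Matrix.mul_one] at h1

/-- Coefficients are self-adjoint. -/
theorem good_adj {Y : Matrix μ μ F} (hY : Good σ f M Y) : Adj (fog σ G) Y Y := by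
  obtain ⟨δ, hδ0, hδ⟩ := Unit.exists_skew S.sp.unit.ne_refl S.sp.invol
  obtain ⟨a, ha0, ha⟩ := S.sp.exists_iso
  obtain ⟨b, -, hba, -⟩ := S.sp.exists_partner ha0 ha
  obtain ⟨g, hg, hgX⟩ := hY a ha δ hδ
  intro u v
  have h := S.iso g hg (pl b u) (pl b v)
  rw [hgX, Matrix.add_mulVec, Matrix.add_mulVec, Matrix.one_mulVec, Matrix.one_mulVec, Matrix.smul_mulVec,
    Matrix.smul_mulVec, S.kron_pj_mulVec, S.kron_pj_mulVec, ct_pl, ct_pl, S.sp.fdot, hba, one_smul, one_smul,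
    Unit.add_left S.hp_unitary, Unit.add_right S.hp_unitary, Unit.add_right S.hp_unitary, Unit.smul_left S.hp_unitary,
    Unit.smul_left S.hp_unitary, Unit.smul_right S.hp_unitary, Unit.smul_right S.hp_unitary] at h
  simp only [S.hp_pl, ha, zero_mul, mul_zero, add_zero, hba,
    show f a b = 1 by rw [← Unit.conj_form S.sp.unit, hba, map_one]] at h
  rw [eq_neg_of_add_eq_zero_right hδ] at h
  have h1 : δ * (fog σ G (Y *ᵥ u) v - fog σ G u (Y *ᵥ v)) = 0 := by linear_combination h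
  exact sub_eq_zero.1 ((mul_eq_zero.1 h1).resolve_left hδ0)

end Grp

/-! ### The stabiliser of an axis -/

theorem root_val (hf : Cfsg.Geo.IsUnitaryForm σ f) [Fintype F] {a v : Fin k → F} (ha : f a a = 0) (hav : f a v = 0)
    (γ : F) : (UnitOrth.root f a v γ : Matrix (Fin k) (Fin k) F) =
      1 + (vecMulVec v (fVec f a) - vecMulVec a (fVec f v) + γ • pj f a) := by
  refine Matrix.ext_of_mulVec_single fun i => ?_
  rw [UnitOrth.root_mulVec hf ha hav]
  simp only [Matrix.add_mulVec, Matrix.sub_mulVec, Matrix.one_mulVec, Matrix.smul_mulVec, vecMulVec_mulVec,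
    op_smul_eq_smul, pj, (Unit.sesq hf).fVec_dot, smul_smul, sub_smul]
  abel

namespace Grp

variable {M : Subgroup (GL (Fin k × μ) F)} (S : Grp σ f G M) [Fintype F]
include S

set_option maxHeartbeats 3200000 in
/-- A similitude conjugating the left special unitary group into `M` and fixing an isotropic axis is a tensor. -/
theorem stab (hs : OnlyScalar σ f M) {g : GL (Fin k × μ) F}
    (hsim : Sim (hp σ f G) (g : Matrix (Fin k × μ) (Fin k × μ) F))
    (hg : ∀ A ∈ su f, In M ((g : Matrix (Fin k × μ) (Fin k × μ) F) * ((A : Matrix (Fin k) (Fin k) F) ⊗ₖ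
      (1 : Matrix μ μ F)) * ((g⁻¹ : GL (Fin k × μ) F) : Matrix (Fin k × μ) (Fin k × μ) F)))
    {a : Fin k → F} (ha0 : a ≠ 0) (ha : f a a = 0)
    (hL : ∀ u, ∃ u', (g : Matrix (Fin k × μ) (Fin k × μ) F) *ᵥ pl a u = pl a u') :
    ∃ (A : GL (Fin k) F) (τ : GL μ F), (g : Matrix (Fin k × μ) (Fin k × μ) F) =
      (A : Matrix (Fin k) (Fin k) F) ⊗ₖ (τ : Matrix μ μ F) ∧ Sim (fog σ G) (τ : Matrix μ μ F) := by
  classical
  have hu := S.sp.unit
  set T := (g : Matrix (Fin k × μ) (Fin k × μ) F) with hT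
  set T' := ((g⁻¹ : GL (Fin k × μ) F) : Matrix (Fin k × μ) (Fin k × μ) F) with hT'
  have hTT : ∀ z, T *ᵥ (T' *ᵥ z) = z := fun z => gl_mulVec_inv_mulVec g z
  have hT'T : ∀ z, T' *ᵥ (T *ᵥ z) = z := fun z => gl_inv_mulVec_mulVec g z
  obtain ⟨m, hm0, hm⟩ := hsim
  obtain ⟨b, hb, hba, hab⟩ := S.sp.exists_partner ha0 ha
  obtain ⟨θ, hθ⟩ := TensorWreathMax.exists_dot_eq_one ha0
  obtain ⟨x₀⟩ := S.nonempty
  obtain ⟨δ, hδ0, hδ⟩ := Unit.exists_skew hu.ne_refl S.sp.invol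
  set φ := fVec f a with hφ
  have hφd : ∀ x, φ ⬝ᵥ x = f x a := fun x => S.sp.fdot a x
  -- the two right factors
  let τl : (μ → F) →ₗ[F] (μ → F) := ct θ ∘ₗ Matrix.toLin' T ∘ₗ pl a
  have hτl : ∀ u, T *ᵥ pl a u = pl a (τl u) := fun u => by
    obtain ⟨u', hu'⟩ := hL u
    show _ = pl a (ct θ (T *ᵥ pl a u))
    rw [hu', ct_pl, hθ, one_smul]
  have hτlinj : Function.Injective τl := fun u v h => by
    have h1 := gl_mulVec_injective g (show T *ᵥ pl a u = T *ᵥ pl a v by rw [hτl, hτl, h])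
    simpa [ct_pl, hθ] using congrArg (ct θ) h1
  let τe := LinearEquiv.ofBijective τl ⟨hτlinj, LinearMap.injective_iff_surjective.1 hτlinj⟩
  have hT'pl : ∀ u, T' *ᵥ pl a u = pl a (τe.symm u) := fun u => by
    conv_lhs => rw [← τe.apply_symm_apply u]
    show T' *ᵥ pl a (τl (τe.symm u)) = _
    rw [← hτl, hT'T]
  have hK : ∀ x, ct φ x = 0 → ct φ (T *ᵥ x) = 0 := fun x hx => S.eq_zero_of_fog fun v => by
    rw [hφ, ← S.adj, ← τe.apply_symm_apply v]
    show hp σ f G (T *ᵥ x) (pl a (τl (τe.symm v))) = 0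
    rw [← hτl, hm, S.adj, ← hφ, hx, Unit.zero_left S.unitary, mul_zero]
  let τ₂ : (μ → F) →ₗ[F] (μ → F) := ct φ ∘ₗ Matrix.toLin' T ∘ₗ pl b
  have hτ₂ : ∀ z, ct φ (T *ᵥ z) = τ₂ (ct φ z) := fun z => by
    have h0 : ct φ (z - pl b (ct φ z)) = 0 := by rw [map_sub, ct_pl, S.sp.fdot, hba, one_smul, sub_self]
    have h1 := hK _ h0
    rw [Matrix.mulVec_sub, map_sub, sub_eq_zero] at h1
    exact h1
  have hτ₂surj : Function.Surjective τ₂ := fun u => ⟨ct φ (T' *ᵥ pl b u), by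
    rw [← hτ₂, hTT, ct_pl, S.sp.fdot, hba, one_smul]⟩
  let e₂ := LinearEquiv.ofBijective τ₂ ⟨LinearMap.injective_iff_surjective.2 hτ₂surj, hτ₂surj⟩
  have hT'φ : ∀ z, ct φ (T' *ᵥ z) = e₂.symm (ct φ z) := fun z => by
    rw [LinearEquiv.eq_symm_apply]
    show τ₂ _ = _
    rw [← hτ₂, hTT]
  -- the two restrictions agree
  obtain ⟨s, hs'⟩ : ∃ s : F, ∀ u, τl (e₂.symm u) = s • u := by
    have h1 := hg _ (S.sp.formTv_mem ha hδ)
    rw [S.sp.formTv_val ha, add_kronecker, one_kronecker_one, mul_add, mul_one, add_mul, hT, hT', Units.mul_inv,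
      ← hT, ← hT', smul_kronecker, mul_smul_comm, smul_mul_assoc] at h1
    have e : T * (pj f a ⊗ₖ (1 : Matrix μ μ F)) * T' =
        pj f a ⊗ₖ LinearMap.toMatrix' (τl ∘ₗ (e₂.symm : (μ → F) →ₗ[F] (μ → F))) := by
      refine Matrix.ext_of_mulVec_single fun i => ?_
      rw [← Matrix.mulVec_mulVec, ← Matrix.mulVec_mulVec, S.kron_pj_mulVec, Matrix.one_mulVec, S.kron_pj_mulVec,
        hτl, hT'φ, LinearMap.toMatrix'_mulVec]
      rfl
    rw [e] at h1
    obtain ⟨c, hc⟩ := hs _ (S.good_of_one ha0 ha hδ0 hδ h1)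
    refine ⟨c, fun u => ?_⟩
    have h2 := congrArg (fun Y : Matrix μ μ F => Y *ᵥ u) hc
    simp only [LinearMap.toMatrix'_mulVec, Matrix.smul_mulVec, Matrix.one_mulVec] at h2
    exact h2
  have hτs : ∀ w, τl w = s • τ₂ w := fun w => by
    rw [← hs']
    exact congrArg τl (e₂.symm_apply_apply w).symm
  -- conjugates of short root elements
  let nv : (Fin k → F) → F → Matrix (Fin k × μ) (Fin k × μ) F := fun v γ =>
    (vecMulVec v φ - vecMulVec a (fVec f v) + γ • pj f a) ⊗ₖ (1 : Matrix μ μ F)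
  have hnv : ∀ v γ z, nv v γ *ᵥ z = pl v (ct φ z) - pl a (ct (fVec f v) z) + γ • pl a (ct φ z) := fun v γ z => by
    have e : nv v γ = nm v φ 1 - nm a (fVec f v) 1 + γ • (pj f a ⊗ₖ (1 : Matrix μ μ F)) := by
      simp only [nv, nm]
      ext ⟨i, x⟩ ⟨j, y⟩
      simp [sub_mul, add_mul, mul_assoc]
    rw [e, Matrix.add_mulVec, Matrix.sub_mulVec, Matrix.smul_mulVec, S.kron_pj_mulVec, nm_mulVec, nm_mulVec,
      Matrix.one_mulVec, Matrix.one_mulVec]
  have hR : ∀ v, f v a = 0 → ∀ γ : F, γ + σ γ = - f v v → In M (1 + nv v γ) ∧ In M (1 + T * nv v γ * T') := by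
    intro v hv γ hγ
    have hav := Unit.eq_zero_comm hu hv
    have hA := S.sp.root_mem ha hav hγ
    have e : (UnitOrth.root f a v γ : Matrix (Fin k) (Fin k) F) ⊗ₖ (1 : Matrix μ μ F) = 1 + nv v γ := by
      rw [root_val hu ha hav, add_kronecker, one_kronecker_one]
    refine ⟨e ▸ S.left _ hA, ?_⟩
    have h1 := hg _ hA
    rwa [e, mul_add, mul_one, add_mul, hT, hT', Units.mul_inv] at h1
  have hGv : ∀ v γ z, (T * nv v γ * T') *ᵥ z =
      T *ᵥ pl v (e₂.symm (ct φ z)) - pl a (τl (ct (fVec f v) (T' *ᵥ z))) + (γ * s) • pl a (ct φ z) := by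
    intro v γ z
    rw [← Matrix.mulVec_mulVec, ← Matrix.mulVec_mulVec, hnv, Matrix.mulVec_add, Matrix.mulVec_sub,
      Matrix.mulVec_smul, hτl, hτl, hT'φ, hs', map_smul, smul_smul]
  have hctG : ∀ v γ, f v a = 0 → ∀ z, ct φ ((T * nv v γ * T') *ᵥ z) = 0 := by
    intro v γ hv z
    rw [hGv, map_add, map_sub, map_smul, ct_pl, ct_pl, hτ₂, ct_pl, S.sp.fdot, S.sp.fdot, ha, hv]
    simp
  have hva : ∀ v, f v a = 0 → ∀ u, ct (fVec f v) (T' *ᵥ pl a u) = 0 := fun v hv u => by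
    rw [hT'pl, ct_pl, S.sp.fdot, Unit.eq_zero_comm hu hv, zero_smul]
  -- the contractions of the image of a vector orthogonal to the axis
  have hΦ : ∀ c v, f c a = 0 → f v a = 0 → ∃ d : F, ∀ w, ct (fVec f c) (T *ᵥ pl v w) = d • τ₂ w := by
    intro c v hc hv
    let Φ : (Fin k → F) → Matrix μ μ F := fun v => LinearMap.toMatrix'
      (ct (fVec f c) ∘ₗ Matrix.toLin' T ∘ₗ pl v ∘ₗ (e₂.symm : (μ → F) →ₗ[F] (μ → F)))
    let Ψ : (Fin k → F) → Matrix μ μ F := fun v => LinearMap.toMatrix'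
      (τl ∘ₗ ct (fVec f v) ∘ₗ Matrix.toLin' T' ∘ₗ pl c)
    obtain ⟨γ', hγ'⟩ := S.sp.exists_gamma c
    have h1 : ∀ l : F, ∃ d : F, l • Φ v - σ l • Ψ v = d • 1 := by
      intro l
      have hlv : f (l • v) a = 0 := by rw [Unit.smul_left hu, hv, mul_zero]
      obtain ⟨γ, hγ⟩ := S.sp.exists_gamma (l • v)
      set X := T * nv (l • v) γ * T'
      set Y := nv c γ'
      have hY0 : ∀ z, ct φ (Y *ᵥ z) = 0 := fun z => by
        rw [hnv, map_add, map_sub, map_smul, ct_pl, ct_pl, ct_pl, S.sp.fdot, S.sp.fdot, ha, hc]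
        simp
      have hXY : ∀ z, (X * Y - Y * X) *ᵥ z = pl a ((l • Φ v - σ l • Ψ v) *ᵥ ct φ z) := by
        intro z
        rw [Matrix.sub_mulVec, ← Matrix.mulVec_mulVec z X Y, ← Matrix.mulVec_mulVec z Y X, hGv (l • v) γ (Y *ᵥ z), hY0,
          hnv c γ' (X *ᵥ z), hctG _ _ hlv, hnv c γ' z]
        simp only [map_zero, Matrix.mulVec_zero, smul_zero, zero_sub, add_zero, Matrix.mulVec_add, Matrix.mulVec_sub,
          Matrix.mulVec_smul, map_add, map_sub, map_smul, hva _ hlv, sub_zero]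
        rw [hGv (l • v) γ z]
        simp only [map_add, map_sub, map_smul, ct_pl, S.sp.fdot, Unit.eq_zero_comm hu hc, zero_smul, smul_zero,
          sub_zero, add_zero, Matrix.sub_mulVec, Matrix.smul_mulVec, Φ, Ψ, LinearMap.toMatrix'_mulVec,
          LinearMap.coe_comp, Function.comp_apply, LinearEquiv.coe_coe, Matrix.toLin'_apply, pl_smul_left,
          Matrix.mulVec_smul, S.sp.fvec_smul, ct_smul_left]
        abel
      have h2 := in_comm (hR _ hlv γ hγ).2 (hR _ hc γ' hγ').1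
        (Matrix.ext_of_mulVec_single fun i => by
          rw [← Matrix.mulVec_mulVec, hXY, hctG _ _ hlv, Matrix.mulVec_zero, map_zero, Matrix.zero_mulVec])
        (Matrix.ext_of_mulVec_single fun i => by
          rw [← Matrix.mulVec_mulVec, hXY, hY0, Matrix.mulVec_zero, map_zero, Matrix.zero_mulVec])
      rw [show X * Y - Y * X = pj f a ⊗ₖ (l • Φ v - σ l • Ψ v) from Matrix.ext_of_mulVec_single fun i => by
        rw [hXY, S.kron_pj_mulVec]] at h2
      exact S.scalar_of_in hs ha0 ha h2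
    obtain ⟨d, hd⟩ := scalar_fst hu.ne_refl h1
    refine ⟨d, fun w => ?_⟩
    have h3 := congrArg (fun Y : Matrix μ μ F => Y *ᵥ τ₂ w) hd
    simp only [Φ, LinearMap.toMatrix'_mulVec, Matrix.smul_mulVec, Matrix.one_mulVec, LinearMap.coe_comp,
      Function.comp_apply, LinearEquiv.coe_coe, Matrix.toLin'_apply] at h3
    rwa [show e₂.symm (τ₂ w) = w from e₂.symm_apply_apply w] at h3
  have hu₀ : ∃ w, τ₂ w ≠ 0 := by
    obtain ⟨w, hw⟩ := hτ₂surj (Pi.single x₀ 1)
    exact ⟨w, by rw [hw]; simp⟩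
  have himg : ∀ v, f v a = 0 → ∃ v₁, f v₁ a = 0 ∧ ∀ w, T *ᵥ pl v w = pl v₁ (τ₂ w) := by
    intro v hv
    have hr : ∀ r, ∃ d : F, ∀ w, ct (Pi.single r 1 - a r • θ) (T *ᵥ pl v w) = d • τ₂ w := fun r => by
      obtain ⟨c, hc⟩ := S.exists_fvec (Pi.single r 1 - a r • θ)
      rw [← hc]
      refine hΦ c v (Unit.eq_zero_comm hu ?_) hv
      rw [← S.sp.fdot, hc, sub_dotProduct, smul_dotProduct, single_dotProduct, hθ, smul_eq_mul, mul_one, one_mul,
        sub_self]
    choose v'' hv'' using hr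
    have hdec : ∀ w, T *ᵥ pl v w = pl v'' (τ₂ w) + pl a (ct θ (T *ᵥ pl v w)) := fun w => by
      ext ⟨r, y⟩
      have h1 := congrFun (hv'' r w) y
      rw [show Pi.single r (1 : F) - a r • θ = Pi.single r 1 + (-a r) • θ by rw [neg_smul, sub_eq_add_neg],
        ct_add_left, ct_smul_left, Pi.add_apply, Pi.smul_apply, ct_single] at h1
      simp only [Pi.add_apply, pl, LinearMap.coe_mk, AddHom.coe_mk, Pi.smul_apply, smul_eq_mul] at h1 ⊢
      linear_combination h1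
    have hv''a : f v'' a = 0 := by
      obtain ⟨w, hw⟩ := hu₀
      have h1 := congrArg (ct φ) (hdec w)
      rw [hτ₂, ct_pl, map_add, ct_pl, ct_pl, S.sp.fdot, S.sp.fdot, S.sp.fdot, hv, ha, zero_smul, zero_smul, add_zero,
        map_zero, eq_comm, smul_eq_zero] at h1
      exact h1.resolve_right hw
    let Z₁ : (Fin k → F) → Matrix μ μ F := fun v => LinearMap.toMatrix'
      (ct θ ∘ₗ Matrix.toLin' T ∘ₗ pl v ∘ₗ (e₂.symm : (μ → F) →ₗ[F] (μ → F)))
    let Z₂ : (Fin k → F) → Matrix μ μ F := fun v => LinearMap.toMatrix'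
      (τl ∘ₗ ct (fVec f v) ∘ₗ Matrix.toLin' T' ∘ₗ pl b)
    have h1 : ∀ l : F, ∃ d : F, l • Z₁ v - σ l • Z₂ v = d • 1 := by
      intro l
      have hlv : f (l • v) a = 0 := by rw [Unit.smul_left hu, hv, mul_zero]
      have hlv'' : f (l • v'') a = 0 := by rw [Unit.smul_left hu, hv''a, mul_zero]
      obtain ⟨γ, hγ⟩ := S.sp.exists_gamma (l • v)
      obtain ⟨γ'', hγ''⟩ := S.sp.exists_gamma (l • v'')
      set X := T * nv (l • v) γ * T' with hX
      set Y := nv (l • v'') γ'' with hY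
      obtain ⟨gy, hgy, hgyY⟩ := (hR _ hlv'' γ'' hγ'').1
      obtain ⟨gx, hgx, hgxX⟩ := (hR _ hlv γ hγ).2
      have hXY : ∀ z, (X - Y) *ᵥ z = pl a (l • ct θ (T *ᵥ pl v (e₂.symm (ct φ z))) -
          τl (ct (fVec f (l • v)) (T' *ᵥ z)) + (γ * s) • ct φ z + ct (fVec f (l • v'')) z - γ'' • ct φ z) := by
        intro z
        conv_lhs => rw [Matrix.sub_mulVec, hX, hY, hGv, hnv, pl_smul_left, Matrix.mulVec_smul, hdec,
          show τ₂ (e₂.symm (ct φ z)) = ct φ z from e₂.apply_symm_apply _, pl_smul_left]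
        simp only [map_sub, map_add, map_smul]
        module
      set D := (gx * gy⁻¹ : GL (Fin k × μ) F) with hD
      have hD' : (D : Matrix (Fin k × μ) (Fin k × μ) F) - 1 =
          (X - Y) * ((gy⁻¹ : GL (Fin k × μ) F) : Matrix (Fin k × μ) (Fin k × μ) F) := by
        rw [hD, Units.val_mul, ← Units.mul_inv gy, ← sub_mul, hgxX, hgyY, add_sub_add_left_eq_sub]
      set D' := (D : Matrix (Fin k × μ) (Fin k × μ) F) - 1 with hD'def
      have hrange : ∀ z, D' *ᵥ z = pl a (ct θ (D' *ᵥ z)) := fun z => by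
        rw [hD', ← Matrix.mulVec_mulVec, hXY, ct_pl, hθ, one_smul]
      have hDker : ∀ z, ct φ z = 0 → D' *ᵥ z = 0 := by
        intro z hz
        refine S.eq_zero_of_hp fun x => ?_
        have h2 := S.iso D (M.mul_mem hgx (M.inv_mem hgy)) x z
        rw [show (D : Matrix (Fin k × μ) (Fin k × μ) F) = 1 + D' by rw [hD'def]; abel, Matrix.add_mulVec,
          Matrix.add_mulVec, Matrix.one_mulVec, Matrix.one_mulVec, Unit.add_left S.hp_unitary,
          Unit.add_right S.hp_unitary, Unit.add_right S.hp_unitary] at h2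
        have h3 : hp σ f G (D' *ᵥ x) z = 0 := by
          rw [hrange x, S.adj', ← hφ, hz, Unit.zero_right S.unitary]
        have h4 : hp σ f G (D' *ᵥ x) (D' *ᵥ z) = 0 := by
          rw [hrange x, hrange z, S.hp_pl, ha, zero_mul]
        rw [h3, h4] at h2
        linear_combination h2
      let Y₀ : Matrix μ μ F := LinearMap.toMatrix' (ct θ ∘ₗ Matrix.toLin' D' ∘ₗ pl b)
      have hDe : D' = pj f a ⊗ₖ Y₀ := Matrix.ext_of_mulVec_single fun i => by
        set z : Fin k × μ → F := Pi.single i 1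
        rw [S.kron_pj_mulVec, LinearMap.toMatrix'_mulVec, ← hφ]
        show D' *ᵥ z = pl a (ct θ (D' *ᵥ pl b (ct φ z)))
        rw [← hrange, ← sub_eq_zero, ← Matrix.mulVec_sub]
        exact hDker _ (by rw [map_sub, ct_pl, S.sp.fdot, hba, one_smul, sub_self])
      obtain ⟨c₀, hc₀⟩ := S.scalar_of_in hs ha0 ha (Y := Y₀)
        ⟨D, M.mul_mem hgx (M.inv_mem hgy), by rw [← hDe, hD'def]; abel⟩
      refine ⟨c₀ - γ * s - σ l * f b v'' + γ'', Matrix.ext_of_mulVec_single fun i => ?_⟩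
      set u : μ → F := Pi.single i 1
      have e : (X - Y) *ᵥ pl b u = D' *ᵥ ((gy : Matrix (Fin k × μ) (Fin k × μ) F) *ᵥ pl b u) := by
        rw [hD', ← Matrix.mulVec_mulVec, gl_inv_mulVec_mulVec]
      rw [hXY, hDe, S.kron_pj_mulVec, hc₀, hgyY, Matrix.add_mulVec, Matrix.one_mulVec, hnv, ← hφ] at e
      simp only [map_add, map_sub, map_smul, ct_pl, S.sp.fdot, hφd, hba, hlv'', ha, one_smul, zero_smul, smul_zero,
        sub_zero, add_zero, Matrix.smul_mulVec, Matrix.one_mulVec] at e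
      have e' := congrArg (ct θ) e
      simp only [map_add, map_sub, map_smul, ct_pl, hθ, one_smul, Unit.smul_right hu, S.sp.fvec_smul, ct_smul_left]
        at e'
      simp only [Matrix.sub_mulVec, Matrix.smul_mulVec, Matrix.one_mulVec, Z₁, Z₂, LinearMap.toMatrix'_mulVec,
        LinearMap.coe_comp, Function.comp_apply, LinearEquiv.coe_coe, Matrix.toLin'_apply]
      simp only [add_smul, sub_smul]
      rw [← e']
      module
    obtain ⟨d, hd⟩ := scalar_fst hu.ne_refl h1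
    refine ⟨v'' + d • a, by rw [Unit.add_left hu, Unit.smul_left hu, hv''a, ha, mul_zero, add_zero], fun w => ?_⟩
    have h3 := congrArg (fun Y : Matrix μ μ F => Y *ᵥ τ₂ w) hd
    simp only [Z₁, LinearMap.toMatrix'_mulVec, Matrix.smul_mulVec, Matrix.one_mulVec, LinearMap.coe_comp,
      Function.comp_apply, LinearEquiv.coe_coe, Matrix.toLin'_apply] at h3
    rw [show e₂.symm (τ₂ w) = w from e₂.symm_apply_apply w] at h3
    rw [hdec w, h3, map_smul, pl_add_left, pl_smul_left]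
  -- the right factor is a similitude
  obtain ⟨z, hza, hzz⟩ := S.sp.exists_aniso a ha
  obtain ⟨z₁, -, hz₁⟩ := himg z hza
  have hz₁f : ∀ u v, f z₁ z₁ * fog σ G (τ₂ u) (τ₂ v) = m * (f z z * fog σ G u v) := fun u v => by
    rw [← S.hp_pl, ← hz₁, ← hz₁, hm, S.hp_pl]
  obtain ⟨u₀, hu₀'⟩ : ∃ u : μ → F, u ≠ 0 := ⟨Pi.single x₀ 1, by simp⟩
  obtain ⟨u₁', hu₁'⟩ : ∃ v, fog σ G u₀ v = 1 := by
    obtain ⟨y, hy⟩ := (S.unitary.nondegenerate u₀ hu₀').2
    refine ⟨σ (fog σ G u₀ y)⁻¹ • y, ?_⟩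
    rw [Unit.smul_right S.unitary, S.sp.invol, inv_mul_cancel₀ hy]
  have hz₁0 : f z₁ z₁ ≠ 0 := fun h => by
    have h1 := hz₁f u₀ u₁'
    rw [h, zero_mul, hu₁', mul_one] at h1
    exact mul_ne_zero hm0 hzz h1.symm
  set ν := m * f z z / f z₁ z₁ with hν
  have hν0 : ν ≠ 0 := div_ne_zero (mul_ne_zero hm0 hzz) hz₁0
  have hτsim : ∀ u v, fog σ G (τ₂ u) (τ₂ v) = ν * fog σ G u v := fun u v => by
    rw [hν, div_mul_eq_mul_div, eq_div_iff hz₁0, mul_comm, hz₁f]
    ring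
  set s₂ := m / ν with hs₂
  have hs₂0 : s₂ ≠ 0 := div_ne_zero hm0 hν0
  -- the left factor
  let A₁ : (Fin k → F) →ₗ[F] (Fin k → F) := LinearMap.pi fun r =>
    ν⁻¹ • ((dotProductBilin F F (fVec (fog σ G) (τ₂ u₁'))) ∘ₗ ct (Pi.single r 1) ∘ₗ Matrix.toLin' T ∘ₗ
      ({ toFun := fun x => pl x u₀
         map_add' := fun x y => pl_add_left x y u₀
         map_smul' := fun c x => pl_smul_left c x u₀ } : (Fin k → F) →ₗ[F] (Fin k × μ → F)))
  have hA₁r : ∀ x r, A₁ x r = ν⁻¹ * fog σ G (ct (Pi.single r 1) (T *ᵥ pl x u₀)) (τ₂ u₁') := fun x r => by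
    rw [← (Unit.sesq S.unitary).fVec_dot]; rfl
  have hA₁v : ∀ v, f v a = 0 → ∀ w, T *ᵥ pl v w = pl (A₁ v) (τ₂ w) := by
    intro v hv w
    obtain ⟨v₁, -, hv₁⟩ := himg v hv
    have : A₁ v = v₁ := funext fun r => by
      rw [hA₁r, hv₁, ct_pl, single_dotProduct, one_mul, Unit.smul_left S.unitary, hτsim, hu₁', mul_one,
        mul_comm (v₁ r), inv_mul_cancel_left₀ hν0]
    rw [this, hv₁]
  have hA₁f : ∀ x v, f v a = 0 → f (A₁ x) (A₁ v) = s₂ * f x v := by
    intro x v hv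
    have h1 : hp σ f G (T *ᵥ pl x u₀) (T *ᵥ pl v u₁') = m * f x v := by rw [hm, S.hp_pl, hu₁', mul_one]
    rw [hA₁v v hv, S.adj, ct_eq_sum, (Unit.sesq S.unitary).sum_left] at h1
    rw [← S.sp.fdot, hs₂, div_mul_eq_mul_div, ← h1, eq_div_iff hν0, dotProduct, Finset.sum_mul]
    refine Finset.sum_congr rfl fun r _ => ?_
    rw [hA₁r, Unit.smul_left S.unitary]
    field_simp
  have hs₂σ : σ s₂ = s₂ := by
    refine mul_right_cancel₀ hzz ?_
    conv_lhs => rw [← Unit.self_fixed hu z, ← map_mul, ← hA₁f z z hza, Unit.self_fixed hu]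
    rw [hA₁f z z hza]
  obtain ⟨γ₀, hγ₀⟩ := Unit.exists_trace hu.ne_refl S.sp.invol (b := - f (A₁ b) (A₁ b))
    (by rw [map_neg, Unit.self_fixed hu])
  let A : (Fin k → F) →ₗ[F] (Fin k → F) := A₁ + (γ₀ / s₂) • ((dotProductBilin F F φ).smulRight (A₁ a))
  have hA : ∀ x, A x = A₁ x + (γ₀ / s₂ * f x a) • A₁ a := fun x => by
    rw [← S.sp.fdot, mul_smul]; rfl
  have hAv : ∀ v, f v a = 0 → A v = A₁ v := fun v hv => by rw [hA, hv, mul_zero, zero_smul, add_zero]
  have hAf : ∀ x v, f v a = 0 → f (A x) (A v) = s₂ * f x v := fun x v hv => by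
    rw [hAv v hv, hA, Unit.add_left hu, Unit.smul_left hu, hA₁f x v hv, hA₁f a v hv, Unit.eq_zero_comm hu hv,
      mul_zero, mul_zero, add_zero]
  have hAb : f (A b) (A b) = 0 := by
    have h1 : f (A₁ b) (A₁ a) = s₂ := by rw [hA₁f b a ha, hba, mul_one]
    rw [hA, hba, mul_one, Unit.self_add_smul hu, hA₁f a a ha, ha, mul_zero, mul_zero, add_zero,
      ← Unit.conj_form hu (A₁ b) (A₁ a), h1, hs₂σ, div_mul_cancel₀ _ hs₂0, hγ₀, add_neg_cancel]
  have hAA : ∀ x y, f (A x) (A y) = s₂ * f x y := by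
    intro x y
    have hd : ∀ y, f (y - f y a • b) a = 0 := fun y => by
      rw [Unit.sub_left hu, Unit.smul_left hu, hba, mul_one, sub_self]
    have key : f (A x) (A b) = s₂ * f x b := by
      conv_lhs => rw [show x = (x - f x a • b) + f x a • b by abel, map_add, map_smul, Unit.add_left hu,
        Unit.smul_left hu, hAb, mul_zero, add_zero, ← Unit.conj_form hu, hAf b _ (hd x), map_mul, hs₂σ,
        Unit.conj_form hu, Unit.sub_left hu, Unit.smul_left hu, hb, mul_zero, sub_zero]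
    conv_lhs => rw [show y = (y - f y a • b) + f y a • b by abel, map_add, map_smul, Unit.add_right hu,
      Unit.smul_right hu, hAf x _ (hd y), key, Unit.sub_right hu, Unit.smul_right hu]
    ring
  have hAinj : ∀ x, A x = 0 → x = 0 := fun x hx => by
    by_contra h
    obtain ⟨y, hy⟩ := (hu.nondegenerate x h).2
    have h1 := hAA x y
    rw [hx, Unit.zero_left hu] at h1
    exact mul_ne_zero hs₂0 hy h1.symm
  let Au : GL (Fin k) F := Matrix.GeneralLinearGroup.mkOfDetNeZero (LinearMap.toMatrix' A) fun h => by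
    obtain ⟨w, hw, hw0⟩ := Matrix.exists_mulVec_eq_zero_iff.2 h
    exact hw (hAinj w (by rwa [LinearMap.toMatrix'_mulVec] at hw0))
  have hAu : ∀ x, (Au : Matrix (Fin k) (Fin k) F) *ᵥ x = A x := fun x => LinearMap.toMatrix'_mulVec _ _
  let τu : GL μ F := Matrix.GeneralLinearGroup.mkOfDetNeZero (LinearMap.toMatrix' τ₂) fun h => by
    obtain ⟨w, hw, hw0⟩ := Matrix.exists_mulVec_eq_zero_iff.2 h
    rw [LinearMap.toMatrix'_mulVec] at hw0
    exact hw (e₂.injective (hw0.trans (map_zero e₂).symm))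
  have hτu : ∀ x, (τu : Matrix μ μ F) *ᵥ x = τ₂ x := fun x => LinearMap.toMatrix'_mulVec _ _
  set AT := (Au : Matrix (Fin k) (Fin k) F) ⊗ₖ (τu : Matrix μ μ F) with hAT
  set AT' := ((Au⁻¹ : GL (Fin k) F) : Matrix (Fin k) (Fin k) F) ⊗ₖ ((τu⁻¹ : GL μ F) : Matrix μ μ F) with hAT'
  have hATT : AT * AT' = 1 := by
    rw [hAT, hAT', ← Matrix.mul_kronecker_mul, Units.mul_inv, Units.mul_inv, one_kronecker_one]
  have hAT'T : AT' * AT = 1 := by
    rw [hAT, hAT', ← Matrix.mul_kronecker_mul, Units.inv_mul, Units.inv_mul, one_kronecker_one]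
  have hagree : ∀ x, ct φ x = 0 → T *ᵥ x = AT *ᵥ x := by
    intro x hx
    have e : x = ∑ r, pl (Pi.single r 1 - f (Pi.single r 1) a • b) (ct (Pi.single r 1) x) := by
      simp only [pl_sub_left, pl_smul_left, Finset.sum_sub_distrib, ← eq_sum_pl x]
      have h1 : ∑ r, f (Pi.single r 1) a • pl b (ct (Pi.single r 1) x) = pl b (ct φ x) := by
        rw [ct_eq_sum φ x, map_sum]
        simp only [map_smul]
        rfl
      rw [h1, hx, map_zero, sub_zero]
    rw [e, Matrix.mulVec_sum, Matrix.mulVec_sum]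
    refine Finset.sum_congr rfl fun r _ => ?_
    have hv : f (Pi.single r 1 - f (Pi.single r 1) a • b) a = 0 := by
      rw [Unit.sub_left hu, Unit.smul_left hu, hba, mul_one, sub_self]
    rw [hA₁v _ hv, hAT, kronecker_mulVec_pl, hAu, hτu, hAv _ hv]
  -- the remaining transvection
  set T₃ := T * AT' with hT₃
  have hfix : ∀ x, ct φ x = 0 → T₃ *ᵥ x = x := by
    intro x hx
    have h0 : ct φ (T' *ᵥ x) = 0 := by rw [hT'φ, hx, map_zero]
    have h1 := hagree _ h0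
    rw [hTT] at h1
    rw [hT₃, ← Matrix.mulVec_mulVec]
    conv_lhs => rw [h1, Matrix.mulVec_mulVec _ AT' AT, hAT'T, Matrix.one_mulVec]
    exact hTT x
  have hT₃f : ∀ x y, hp σ f G (T₃ *ᵥ x) (T₃ *ᵥ y) = hp σ f G x y := by
    intro x y
    have h1 := pres_hp_kron hu (G := G) (A := (Au : Matrix (Fin k) (Fin k) F)) (B := (τu : Matrix μ μ F))
      (fun p r => by rw [hAu, hAu, hAA]) (fun p r => by rw [hτu, hτu, hτsim]) (AT' *ᵥ x) (AT' *ᵥ y)
    rw [← hAT, Matrix.mulVec_mulVec, Matrix.mulVec_mulVec, hATT, Matrix.one_mulVec, Matrix.one_mulVec,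
      hs₂, div_mul_cancel₀ _ hν0] at h1
    rw [hT₃, ← Matrix.mulVec_mulVec, ← Matrix.mulVec_mulVec, hm, h1]
  have hrange₃ : ∀ x, (T₃ - 1) *ᵥ x = pl a (ct θ ((T₃ - 1) *ᵥ x)) := by
    intro x
    refine S.eq_pl hθ fun c hc => S.eq_zero_of_fog fun u => ?_
    rw [← S.adj, Matrix.sub_mulVec, Matrix.one_mulVec, Unit.sub_left S.hp_unitary, sub_eq_zero]
    conv_lhs => rw [← hfix (pl c u) (by rw [hφ, ct_pl, S.sp.fdot, hc, zero_smul]), hT₃f]
  let C : Matrix μ μ F := LinearMap.toMatrix' (ct θ ∘ₗ Matrix.toLin' (T₃ - 1) ∘ₗ pl b)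
  have hC : T₃ = 1 + pj f a ⊗ₖ C := by
    rw [eq_comm, ← eq_sub_iff_add_eq']
    refine Matrix.ext_of_mulVec_single fun i => ?_
    set x : Fin k × μ → F := Pi.single i 1
    rw [S.kron_pj_mulVec, LinearMap.toMatrix'_mulVec, ← hφ]
    show pl a (ct θ ((T₃ - 1) *ᵥ pl b (ct φ x))) = _
    rw [← hrange₃, eq_comm, ← sub_eq_zero, ← Matrix.mulVec_sub, Matrix.sub_mulVec, Matrix.one_mulVec, sub_eq_zero]
    exact hfix _ (by rw [map_sub, ct_pl, S.sp.fdot, hba, one_smul, sub_self])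
  set X := pj f a ⊗ₖ C with hX
  have hXX : X * X = 0 := S.kron_pj_sq ha C C
  have hTX : T = (1 + X) * AT := by rw [← hC, hT₃, mul_assoc, hAT'T, mul_one]
  have hT'X : T' = AT' * (1 - X) := by
    rw [hT']
    refine Units.inv_eq_of_mul_eq_one_right ?_
    rw [← hT, hTX, mul_assoc (1 + X), ← mul_assoc AT, hATT, one_mul]
    noncomm_ring [hXX]
  have hconj : ∀ B ∈ su f, In M (1 + X - ((B : Matrix (Fin k) (Fin k) F) * pj f a *
      ((B⁻¹ : GL (Fin k) F) : Matrix (Fin k) (Fin k) F)) ⊗ₖ C -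
      X * (((B : Matrix (Fin k) (Fin k) F) * pj f a * ((B⁻¹ : GL (Fin k) F) : Matrix (Fin k) (Fin k) F)) ⊗ₖ C)) := by
    intro B hB
    have hmem : Au⁻¹ * B * Au ∈ su f := by
      refine mem_su.2 ⟨fun x y => ?_, ?_⟩
      · have hA' : ∀ p r, f (((Au⁻¹ : GL (Fin k) F) : Matrix (Fin k) (Fin k) F) *ᵥ p)
            (((Au⁻¹ : GL (Fin k) F) : Matrix (Fin k) (Fin k) F) *ᵥ r) = s₂⁻¹ * f p r := fun p r => by
          conv_rhs => rw [← gl_mulVec_inv_mulVec Au p, ← gl_mulVec_inv_mulVec Au r, hAu, hAu, hAA]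
          rw [inv_mul_cancel_left₀ hs₂0]
        rw [gl_mul_mulVec, gl_mul_mulVec, gl_mul_mulVec, gl_mul_mulVec, hA', (mem_su.1 hB).1, hAu, hAu, hAA,
          inv_mul_cancel_left₀ hs₂0]
      · rw [Units.val_mul, Units.val_mul, Matrix.det_mul, Matrix.det_mul, (mem_su.1 hB).2, mul_one,
          ← Matrix.det_mul, Units.inv_mul, Matrix.det_one]
    have h1 := hg _ hmem
    obtain ⟨gB, hgB, hgBe⟩ := S.left B hB
    have h2 : In M ((((B⁻¹ : GL (Fin k) F)) : Matrix (Fin k) (Fin k) F) ⊗ₖ (1 : Matrix μ μ F)) :=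
      S.left _ ((su f).inv_mem hB)
    have h3 := h1.mul h2
    convert h3 using 1
    have e1 : AT * (((Au⁻¹ * B * Au : GL (Fin k) F) : Matrix (Fin k) (Fin k) F) ⊗ₖ (1 : Matrix μ μ F)) * AT' =
        (B : Matrix (Fin k) (Fin k) F) ⊗ₖ (1 : Matrix μ μ F) := by
      rw [hAT, hAT', ← Matrix.mul_kronecker_mul, ← Matrix.mul_kronecker_mul, mul_one, Units.mul_inv, ← Units.val_mul,
        ← Units.val_mul, show Au * (Au⁻¹ * B * Au) * Au⁻¹ = B by group]
    have e2 : (B : Matrix (Fin k) (Fin k) F) ⊗ₖ (1 : Matrix μ μ F) * (1 - X) *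
        (((B⁻¹ : GL (Fin k) F) : Matrix (Fin k) (Fin k) F) ⊗ₖ (1 : Matrix μ μ F)) =
        1 - ((B : Matrix (Fin k) (Fin k) F) * pj f a * ((B⁻¹ : GL (Fin k) F) : Matrix (Fin k) (Fin k) F)) ⊗ₖ C := by
      rw [mul_sub, mul_one, sub_mul, hX, ← Matrix.mul_kronecker_mul, ← Matrix.mul_kronecker_mul,
        ← Matrix.mul_kronecker_mul, Units.mul_inv, one_mul, mul_one, one_kronecker_one, one_mul]
    rw [hTX, hT'X, show (1 + X) * AT * (((Au⁻¹ * B * Au : GL (Fin k) F) : Matrix (Fin k) (Fin k) F) ⊗ₖ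
        (1 : Matrix μ μ F)) * (AT' * (1 - X)) * (((B⁻¹ : GL (Fin k) F) : Matrix (Fin k) (Fin k) F) ⊗ₖ
          (1 : Matrix μ μ F)) = (1 + X) * ((AT * (((Au⁻¹ * B * Au : GL (Fin k) F) : Matrix (Fin k) (Fin k) F) ⊗ₖ
            (1 : Matrix μ μ F)) * AT') * (1 - X) * (((B⁻¹ : GL (Fin k) F) : Matrix (Fin k) (Fin k) F) ⊗ₖ
              (1 : Matrix μ μ F))) by simp only [mul_assoc], e1, e2, mul_sub, mul_one, add_mul, one_mul]
    abel
  obtain ⟨c, hc⟩ : ∃ c : F, C = c • 1 := by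
    rcases S.sp.small with ⟨r, hr, hr0, hr1⟩ | h4
    · obtain ⟨α, hα⟩ := S.sp.exists_norm hr
      have hα0 : α ≠ 0 := fun h => hr0 (by rw [← hα, h, zero_mul])
      obtain ⟨B, hB, hBa⟩ := S.sp.exists_torus ha0 ha hα0
      have h1 := hconj B hB
      rw [S.sp.conj_pj (mem_su.1 hB).1, hBa, S.sp.pj_smul, hα, smul_kronecker, mul_smul_comm, ← hX, hXX, smul_zero,
        sub_zero, show 1 + X - r • X = 1 + (1 - r) • X by rw [sub_smul, one_smul]; abel, hX,
        ← kronecker_smul] at h1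
      obtain ⟨c, hc⟩ := S.scalar_of_in hs ha0 ha h1
      exact ⟨(1 - r)⁻¹ * c, by
        rw [mul_smul, ← hc, smul_smul, inv_mul_cancel₀ (sub_ne_zero.2 (Ne.symm hr1)), one_smul]⟩
    · by_cases hsm : ∃ r : F, σ r = r ∧ r ≠ 0 ∧ r ≠ 1
      · obtain ⟨r, hr, hr0, hr1⟩ := hsm
        obtain ⟨α, hα⟩ := S.sp.exists_norm hr
        have hα0 : α ≠ 0 := fun h => hr0 (by rw [← hα, h, zero_mul])
        obtain ⟨B, hB, hBa⟩ := S.sp.exists_torus ha0 ha hα0
        have h1 := hconj B hB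
        rw [S.sp.conj_pj (mem_su.1 hB).1, hBa, S.sp.pj_smul, hα, smul_kronecker, mul_smul_comm, ← hX, hXX, smul_zero,
          sub_zero, show 1 + X - r • X = 1 + (1 - r) • X by rw [sub_smul, one_smul]; abel, hX,
          ← kronecker_smul] at h1
        obtain ⟨c, hc⟩ := S.scalar_of_in hs ha0 ha h1
        exact ⟨(1 - r)⁻¹ * c, by
          rw [mul_smul, ← hc, smul_smul, inv_mul_cancel₀ (sub_ne_zero.2 (Ne.symm hr1)), one_smul]⟩
      push Not at hsm
      have h2 : (2 : F) = 0 := by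
        by_contra h2
        have := hsm 2 (map_ofNat σ 2) h2
        exact one_ne_zero (α := F) (by linear_combination this)
      obtain ⟨a', ha', ha'a, hind⟩ := S.sp.exists_iso_perp h4 ha0 ha
      obtain ⟨ω, hω⟩ := Unit.exists_moved hu.ne_refl
      have hN : ∀ l : F, l ≠ 0 → l * σ l = 1 := fun l hl =>
        hsm _ (by rw [map_mul, S.sp.invol, mul_comm]) (mul_ne_zero hl ((RingEquiv.map_ne_zero_iff σ).2 hl))
      have haa' := Unit.eq_zero_comm hu ha'a
      have hE : ∀ l : F, In M (1 + (pj f a - pj f (a' + l • a)) ⊗ₖ C) := by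
        intro l
        have hi : f (a' + l • a) (a' + l • a) = 0 := by
          rw [Unit.self_add_smul hu, ha', ha, haa', mul_zero, mul_zero, map_zero]; ring
        have hne : a' + l • a ≠ 0 := fun h => hind (-l) (by rw [neg_smul, eq_neg_of_add_eq_zero_left h])
        obtain ⟨B, hB, hBa⟩ := S.sp.exists_su_map ha0 ha hne hi
        have h1 := hconj B hB
        rw [S.sp.conj_pj (mem_su.1 hB).1, hBa, hX, ← Matrix.mul_kronecker_mul,
          S.sp.pj_mul_eq_zero (by rw [Unit.add_left hu, Unit.smul_left hu, ha'a, ha, mul_zero, add_zero]),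
          zero_kronecker, sub_zero] at h1
        rwa [sub_kron, add_sub]
      have horth : ∀ l l' : F, (pj f a - pj f (a' + l • a)) * (pj f a - pj f (a' + l' • a)) = 0 := fun l l' => by
        have o1 : ∀ r : F, f (a' + r • a) a = 0 := fun r => by
          rw [Unit.add_left hu, Unit.smul_left hu, ha'a, ha, mul_zero, add_zero]
        have o2 : f (a' + l' • a) (a' + l • a) = 0 := by
          rw [Unit.add_left hu, Unit.add_right hu, Unit.add_right hu, Unit.smul_left hu, Unit.smul_left hu,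
            Unit.smul_right hu, Unit.smul_right hu, ha', ha, ha'a, haa']
          ring
        simp only [sub_mul, mul_sub]
        rw [S.sp.pj_mul_self ha, S.sp.pj_mul_eq_zero (o1 l'), S.sp.pj_mul_eq_zero (Unit.eq_zero_comm hu (o1 l)),
          S.sp.pj_mul_eq_zero o2]
        simp
      have hsum := ((hE 0).mul (hE 1)).mul ((hE ω).mul (hE (1 + ω)))
      have hz : ∀ l l', ((pj f a - pj f (a' + l • a)) ⊗ₖ C) * ((pj f a - pj f (a' + l' • a)) ⊗ₖ C) = 0 := fun l l' => by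
        rw [← Matrix.mul_kronecker_mul, horth, zero_kronecker]
      simp only [mul_add, add_mul, one_mul, mul_one, hz, zero_mul, add_zero] at hsum
      refine S.scalar_of_in hs ha0 ha (Y := C) ?_
      convert hsum using 1
      have hω0 : ω ≠ 0 := fun h => hω (by rw [h, map_zero])
      have hω1 : (1 : F) + ω ≠ 0 := fun h => hω (by rw [eq_neg_of_add_eq_zero_right h, map_neg, map_one])
      have hpj : ∀ l : F, pj f (a' + l • a) = pj f a' + σ l • vecMulVec a' φ + l • vecMulVec a (fVec f a') +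
          (l * σ l) • pj f a := fun l => by
        simp only [pj, hφ, (Unit.sesq hu).fVec_add, S.sp.fvec_smul, vecMulVec_add, add_vecMulVec, smul_vecMulVec,
          vecMulVec_smul, smul_smul]
        module
      have key : pj f a = (pj f a - pj f (a' + (0 : F) • a)) + (pj f a - pj f (a' + (1 : F) • a)) +
          ((pj f a - pj f (a' + ω • a)) + (pj f a - pj f (a' + (1 + ω) • a))) := by
        rw [hpj, hpj, hpj, hpj, hN 1 one_ne_zero, hN ω hω0, hN _ hω1]
        ext i j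
        simp only [Matrix.add_apply, Matrix.sub_apply, Matrix.smul_apply, smul_eq_mul, map_add, map_one, map_zero]
        linear_combination (2 * pj f a' i j + (1 + σ ω) * vecMulVec a' φ i j +
          (1 + ω) * vecMulVec a (fVec f a') i j) * h2
      conv_lhs => rw [key]
      simp only [add_kronecker]
      abel
  let N : Matrix (Fin k) (Fin k) F := 1 + c • pj f a
  have hNdet : N.det = 1 := by
    rw [show N = 1 + vecMulVec a (c • fVec f a) by simp [N, pj, vecMulVec_smul], vecMulVec_eq Unit,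
      det_one_add_replicateCol_mul_replicateRow, smul_dotProduct, S.sp.fdot, ha, smul_zero, add_zero]
  refine ⟨Matrix.GeneralLinearGroup.mkOfDetNeZero N (by rw [hNdet]; exact one_ne_zero) * Au, τu, ?_,
    ⟨ν, hν0, fun x y => by rw [hτu, hτu, hτsim]⟩⟩
  rw [Units.val_mul]
  show T = (N * (Au : Matrix (Fin k) (Fin k) F)) ⊗ₖ (τu : Matrix μ μ F)
  rw [hTX, hX, hc, hAT, kronecker_smul, ← smul_kronecker]
  simp only [N]
  rw [add_mul, add_mul, one_mul, one_mul, add_kronecker, ← Matrix.mul_kronecker_mul, one_mul]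

end Grp

end CfsgLib.UnitWreathMax
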