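import Mathlib
import Cfsg.Agent.Lib.UnitWreathMax.Product
import Cfsg.Agent.Lib.TensorWreathMax.Apply

/-!
Groups of isometries of a tensor power containing the special unitary groups of the factors: only scalars are
coefficients of root elements, unless all products of root elements occur.
-/

set_option autoImplicit false
set_option linter.unusedSectionVars false
set_option linter.unusedSimpArgs false

namespace CfsgLib.UnitWreathMax

open Matrix Module
open scoped Kronecker
open CfsgLib.GeomClasses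
open CfsgLib.Maximal.TensorPower
open CfsgLib.TensorWreathMax (In Idx split rx rx_pm rx_slot_same rx_slot_succAbove Ms in_ms_rx permM pS pS_congr
  pS_mul pS_eq_zero pS_insert slot_comm_pS pl ct ct_pl tvec rx_mulVec_tvec slot_eq_zero Gam in_gam)

attribute [-simp] Matrix.coe_units_inv

variable {F : Type*} [Field F] {k t : ℕ} {σ : F ≃+* F} {f : (Fin k → F) → (Fin k → F) → F}

/-- The Gram matrix of a tensor power. -/
def Gm (f : (Fin k → F) → (Fin k → F) → F) (t : ℕ) : Matrix (Idx k t) (Idx k t) F :=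
  pm fun _ : Fin t => Cfsg.Geo.gramMatrix f

theorem tf_tvec (i : Fin (t + 1)) (x y : Idx k (t + 1) → F) :
    hp σ f (Gm f t) (tvec i x) (tvec i y) = tf σ f (t + 1) x y := by
  have e : Cfsg.Geo.gramMatrix f ⊗ₖ Gm f t = rx i (pm fun _ : Fin (t + 1) => Cfsg.Geo.gramMatrix f) := by
    rw [rx_pm]; rfl
  rw [hp, tf, e, fog_eq, fog_eq,
    show (fun b => σ (tvec i y b)) = tvec i (fun b => σ (y b)) from rfl, rx_mulVec_tvec]
  simp only [dotProduct]
  exact Equiv.sum_comp (split i).symm fun p => x p *
    ((pm fun _ : Fin (t + 1) => Cfsg.Geo.gramMatrix f) *ᵥ fun b => σ (y b)) p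

/-- All products of root nilpotents over a set of factors. -/
def RootsOn (σ : F ≃+* F) (f : (Fin k → F) → (Fin k → F) → F) (M : Subgroup (GL (Idx k t) F))
    (S : Finset (Fin t)) : Prop :=
  ∀ a : Fin t → Fin k → F, (∀ j ∈ S, f (a j) (a j) = 0) → ∀ δ : F, δ + σ δ = 0 →
    In M (1 + δ • pS S fun j => pj f (a j))

/-- The special unitary groups of the factors, and the permutations of at least three factors up to scalars. -/
structure Full (σ : F ≃+* F) (f : (Fin k → F) → (Fin k → F) → F) (M : Subgroup (GL (Idx k t) F)) : Prop where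
  sp : Sp σ f
  iso : ∀ g ∈ M, Pres (tf σ f t) (g : Matrix (Idx k t) (Idx k t) F)
  su_mem : ∀ i : Fin t, ∀ A ∈ su f, In M (CfsgLib.Maximal.TensorPower.slot i (A : Matrix (Fin k) (Fin k) F))
  perm : 3 ≤ t → ∀ j l : Fin t, j ≠ l → ∃ c : F, σ c * c = 1 ∧ In M (c • permM (Equiv.swap j l))

theorem slot_mul_inv (j : Fin t) (A : GL (Fin k) F) :
    (CfsgLib.Maximal.TensorPower.slot j (A : Matrix (Fin k) (Fin k) F)) *
      CfsgLib.Maximal.TensorPower.slot j ((A⁻¹ : GL (Fin k) F) : Matrix (Fin k) (Fin k) F) = 1 := by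
  rw [slot_mul, Units.mul_inv, slot_one]

theorem Full.grp {M : Subgroup (GL (Idx k (t + 1)) F)} (hF : Full σ f M) (i : Fin (t + 1)) :
    Grp σ f (Gm f t) (Ms i M) where
  sp := hF.sp
  herm := hF.sp.herm_gram.pm
  nonempty := ⟨fun _ => ⟨0, lt_of_lt_of_le (by norm_num) hF.sp.three_le⟩⟩
  iso g hg := by
    set g' := Cfsg.Geo.glReindex (F := F) (split i).symm g
    have hg' : g' ∈ M := hg
    have e : (g : Matrix (Fin k × Idx k t) (Fin k × Idx k t) F) = rx i (g' : Matrix (Idx k (t + 1)) (Idx k (t + 1)) F) := by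
      ext x y
      simp [g', Cfsg.Geo.glReindex]
    intro x y
    obtain ⟨x, rfl⟩ := (tvec i).surjective x
    obtain ⟨y, rfl⟩ := (tvec i).surjective y
    rw [e, rx_mulVec_tvec, rx_mulVec_tvec, tf_tvec, tf_tvec, hF.iso g' hg']
  left A hA := by
    have h := in_ms_rx (i := i).2 (hF.su_mem i A hA)
    rwa [rx_slot_same] at h

theorem pm_ne_zero {as : Fin t → Matrix (Fin k) (Fin k) F} (h : ∀ i, as i ≠ 0) : pm as ≠ 0 := by
  intro h0
  have : ∀ i, ∃ a b, as i a b ≠ 0 := fun i => by
    by_contra hc
    push Not at hc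
    exact h i (Matrix.ext fun a b => by rw [hc, Matrix.zero_apply])
  choose a b hab using this
  have h1 := congrFun (congrFun h0 a) b
  exact Finset.prod_ne_zero_iff.2 (fun i _ => hab i) h1

theorem pS_single (j : Fin t) (X : Fin t → Matrix (Fin k) (Fin k) F) : pS {j} X = slot j (X j) := by
  rw [slot_apply, pS]
  congr 1
  funext l
  rcases eq_or_ne l j with rfl | hl
  · simp
  · simp [hl]

theorem pS_mul_slot_eq_zero {S : Finset (Fin t)} {j : Fin t} (hj : j ∈ S) {X : Fin t → Matrix (Fin k) (Fin k) F}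
    {Q : Matrix (Fin k) (Fin k) F} (h : X j * Q = 0) : pS S X * slot j Q = 0 := by
  rw [slot_apply, pS, pm_mul]
  exact CfsgLib.TensorWreathMax.pm_eq_zero_of (j := j) (by simp [hj, h])

/-! ### Components in one factor -/

theorem vm_sum_right {ι : Type*} (s : Finset ι) (a : Fin k → F) (φ : ι → Fin k → F) :
    vecMulVec a (∑ i ∈ s, φ i) = ∑ i ∈ s, vecMulVec a (φ i) := by
  ext p q
  simp [Matrix.sum_apply, Matrix.vecMulVec_apply, Finset.mul_sum]

theorem vm_sum_left {ι : Type*} (s : Finset ι) (a : ι → Fin k → F) (φ : Fin k → F) :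
    vecMulVec (∑ i ∈ s, a i) φ = ∑ i ∈ s, vecMulVec (a i) φ := by
  ext p q
  simp [Matrix.sum_apply, Matrix.vecMulVec_apply, Finset.sum_mul]

/-- The component of `Y` in the factor `j`. -/
def cmp (j : Fin t) (Y : Matrix (Idx k t) (Idx k t) F) (x φ : Fin k → F) : Matrix (Idx k t) (Idx k t) F :=
  ∑ r, slot j (vecMulVec (Pi.single r (1 : F)) φ) * Y * slot j (vecMulVec x (Pi.single r 1))

section cmp

variable (j : Fin t) (Y : Matrix (Idx k t) (Idx k t) F)

theorem slot_mul_cmp (a ψ x φ : Fin k → F) :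
    slot j (vecMulVec a ψ) * cmp j Y x φ = slot j (vecMulVec a φ) * Y * slot j (vecMulVec x ψ) := by
  conv_rhs => rw [show ψ = ∑ r, ψ r • (Pi.single r 1 : Fin k → F) from pi_eq_sum_univ' ψ]
  rw [cmp, Finset.mul_sum]
  simp only [vm_sum_right, vecMulVec_smul, map_sum, map_smul, Finset.mul_sum, mul_smul_comm]
  refine Finset.sum_congr rfl fun r _ => ?_
  rw [← mul_assoc, ← mul_assoc, slot_mul, vecMulVec_mul_vecMulVec, dotProduct_single, mul_one, vecMulVec_smul,
    map_smul, smul_mul_assoc, smul_mul_assoc]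

theorem cmp_mul_slot (a ψ x φ : Fin k → F) :
    cmp j Y x φ * slot j (vecMulVec a ψ) = slot j (vecMulVec a φ) * Y * slot j (vecMulVec x ψ) := by
  conv_rhs => rw [show a = ∑ r, a r • (Pi.single r 1 : Fin k → F) from pi_eq_sum_univ' a]
  rw [cmp, Finset.sum_mul]
  simp only [vm_sum_left, smul_vecMulVec, map_sum, map_smul, Finset.sum_mul, smul_mul_assoc]
  refine Finset.sum_congr rfl fun r _ => ?_
  rw [mul_assoc, slot_mul, vecMulVec_mul_vecMulVec, single_dotProduct, one_mul, vecMulVec_smul, map_smul,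
    mul_smul_comm]

theorem cmp_comm (x φ : Fin k → F) (X : Matrix (Fin k) (Fin k) F) :
    cmp j Y x φ * slot j X = slot j X * cmp j Y x φ := by
  induction X using Matrix.induction_on' with
  | h_zero => simp
  | h_add p q hp hq => rw [map_add, mul_add, add_mul, hp, hq]
  | h_std_basis a b c =>
    rw [show Matrix.single a b c = c • Matrix.single a b (1 : F) by simp [Matrix.smul_single],
      Matrix.single_eq_single_vecMulVec_single, map_smul, mul_smul_comm, smul_mul_assoc, cmp_mul_slot, slot_mul_cmp]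

theorem cmp_add_left (x x' φ : Fin k → F) : cmp j Y (x + x') φ = cmp j Y x φ + cmp j Y x' φ := by
  simp only [cmp, add_vecMulVec, map_add, mul_add, Finset.sum_add_distrib]

theorem cmp_smul_left (c : F) (x φ : Fin k → F) : cmp j Y (c • x) φ = c • cmp j Y x φ := by
  simp only [cmp, smul_vecMulVec, map_smul, mul_smul_comm, Finset.smul_sum]

theorem cmp_add_right (x φ φ' : Fin k → F) : cmp j Y x (φ + φ') = cmp j Y x φ + cmp j Y x φ' := by
  simp only [cmp, vecMulVec_add, map_add, add_mul, Finset.sum_add_distrib]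

theorem cmp_smul_right (c : F) (x φ : Fin k → F) : cmp j Y x (c • φ) = c • cmp j Y x φ := by
  simp only [cmp, vecMulVec_smul, map_smul, smul_mul_assoc, Finset.smul_sum]

theorem cmp_transfer (x φ : Fin k → F) {l : Fin t} (hl : l ≠ j) (Q : Matrix (Fin k) (Fin k) F) :
    (Y * slot l Q = slot l Q * Y → cmp j Y x φ * slot l Q = slot l Q * cmp j Y x φ) ∧
      (Y * slot l Q = 0 → cmp j Y x φ * slot l Q = 0) := by
  have e : ∀ r, slot j (vecMulVec (Pi.single r (1 : F)) φ) * Y * slot j (vecMulVec x (Pi.single r 1)) * slot l Q =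
      slot j (vecMulVec (Pi.single r (1 : F)) φ) * (Y * slot l Q) * slot j (vecMulVec x (Pi.single r 1)) := fun r => by
    rw [mul_assoc _ _ (slot l Q), slot_comm hl.symm]
    simp only [mul_assoc]
  refine ⟨fun h => ?_, fun h => ?_⟩
  · rw [cmp, Finset.sum_mul, Finset.mul_sum]
    refine Finset.sum_congr rfl fun r _ => ?_
    rw [e, h, ← mul_assoc _ (slot l Q) Y, slot_comm hl.symm]
    simp only [mul_assoc]
  · rw [cmp, Finset.sum_mul]
    exact Finset.sum_eq_zero fun r _ => by rw [e, h, mul_zero, zero_mul]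

end cmp

/-- An element which does not commute with a factor has a non-zero component on a root. -/
theorem exists_step [Fintype F] (S : Sp σ f) (j : Fin t) {P : Matrix (Idx k t) (Idx k t) F → Prop}
    (hsub : ∀ {X Y}, P X → P Y → P (X - Y)) (hsmul : ∀ {X} {c : F}, σ c = c → P X → P (c • X))
    (hconj : ∀ {X}, ∀ A ∈ su f, P X → P (slot j (A : Matrix (Fin k) (Fin k) F) * X *
      slot j ((A⁻¹ : GL (Fin k) F) : Matrix (Fin k) (Fin k) F)))
    {Y : Matrix (Idx k t) (Idx k t) F} (hY : P Y) (hnc : ¬ ∀ X, Y * slot j X = slot j X * Y) :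
    ∃ (e : Fin k → F) (C : Matrix (Idx k t) (Idx k t) F), e ≠ 0 ∧ f e e = 0 ∧ C ≠ 0 ∧ P (slot j (pj f e) * C) ∧
      (∀ X, C * slot j X = slot j X * C) ∧ ∀ l ≠ j, ∀ Q, (Y * slot l Q = slot l Q * Y → C * slot l Q = slot l Q * C) ∧
        (Y * slot l Q = 0 → C * slot l Q = 0) := by
  classical
  -- some isotropic vector has a non-zero component
  obtain ⟨e, he, hC⟩ : ∃ e, f e e = 0 ∧ cmp j Y e (fVec f e) ≠ 0 := by
    by_contra hcon
    push Not at hcon
    obtain ⟨C₀, hC₀⟩ := S.eq_smul_of_iso (fun x y => cmp j Y x (fVec f y))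
      (fun x x' y => cmp_add_left j Y x x' _) (fun c x y => cmp_smul_left j Y c x _)
      (fun x y y' => by rw [(Unit.sesq S.unit).fVec_add, cmp_add_right])
      (fun c x y => by rw [S.fvec_smul, cmp_smul_right]) hcon
    obtain ⟨z, hz, hzx⟩ := S.exists_basis
    have h1 : ∑ l, slot (t := t) j (pj f (z l)) = 1 := by
      rw [← map_sum, show ∑ l, pj f (z l) = 1 from Matrix.ext_of_mulVec_single fun r => by
        rw [Matrix.sum_mulVec, Matrix.one_mulVec]
        simp only [S.pj_mulVec]
        exact (hzx _).symm, slot_one]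
    have hY0 : Y = C₀ := by
      calc Y = (∑ l, slot j (pj f (z l))) * Y * ∑ m, slot j (pj f (z m)) := by rw [h1, one_mul, mul_one]
        _ = ∑ l, slot j (pj f (z l)) * C₀ := by
          rw [Finset.sum_mul, Finset.sum_mul]
          refine Finset.sum_congr rfl fun l _ => ?_
          rw [Finset.mul_sum, Finset.sum_eq_single l]
          · rw [pj, ← slot_mul_cmp, hC₀, hz, if_pos rfl, one_smul]
          · intro m _ hm
            rw [pj, pj, ← slot_mul_cmp, hC₀, hz, if_neg hm, zero_smul, mul_zero]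
          · simp
        _ = C₀ := by rw [← Finset.sum_mul, h1, one_mul]
    have i₀ : Fin k := ⟨0, lt_of_lt_of_le (by norm_num) S.three_le⟩
    have h2 := hC₀ (z i₀) (z i₀)
    rw [hz, if_pos rfl, one_smul] at h2
    refine hnc fun X => ?_
    rw [hY0, ← h2, cmp_comm]
  have he0 : e ≠ 0 := fun h => hC (by
    rw [h]
    simp only [cmp, zero_vecMulVec, map_zero, mul_zero, Finset.sum_const_zero])
  have hconj' : ∀ {a : Fin k → F}, f a a = 0 → ∀ {δ : F}, δ + σ δ = 0 → ∀ {X}, P X →
      P ((1 + δ • slot j (pj f a)) * X * (1 - δ • slot j (pj f a))) := by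
    intro a ha δ hδ X hX
    have h := hconj _ (S.formTv_mem ha hδ) hX
    have e1 : slot (t := t) j (formTv f a δ : Matrix (Fin k) (Fin k) F) = 1 + δ • slot j (pj f a) := by
      rw [S.formTv_val ha, map_add, slot_one, map_smul]
    have e2 : slot (t := t) j (((formTv f a δ)⁻¹ : GL (Fin k) F) : Matrix (Fin k) (Fin k) F) =
        1 - δ • slot j (pj f a) := by
      refine left_inv_eq_right_inv (a := slot (t := t) j (formTv f a δ : Matrix (Fin k) (Fin k) F))
        (by rw [slot_mul, Units.inv_mul, slot_one]) ?_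
      rw [e1, add_mul, one_mul, mul_sub, mul_one, smul_mul_smul_comm, slot_mul, S.pj_mul_self ha, map_zero, smul_zero,
        sub_zero, sub_add_cancel]
    rwa [e1, e2] at h
  set X₁ := slot (t := t) j (pj f e) with hX₁
  have hXX : X₁ * X₁ = 0 := by rw [hX₁, slot_mul, S.pj_mul_self he, map_zero]
  rcases em (∃ s : F, σ s = s ∧ s ≠ 0 ∧ s ≠ 1) with ⟨s, hs, hs0, hs1⟩ | hsm
  · obtain ⟨δ, hδ0, hδ⟩ := Unit.exists_skew S.unit.ne_refl S.invol
    have h1 := hsub (hconj' he (show s * δ + σ (s * δ) = 0 by rw [map_mul, hs, ← mul_add, hδ, mul_zero]) hY) hY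
    have h2 := hsmul hs (hsub (hconj' he hδ hY) hY)
    have h3 := hsub h1 h2
    have e1 : (1 + (s * δ) • X₁) * Y * (1 - (s * δ) • X₁) - Y - s • ((1 + δ • X₁) * Y * (1 - δ • X₁) - Y) =
        (-((s * s - s) * δ * δ)) • (X₁ * Y * X₁) := by
      simp only [add_mul, mul_sub, one_mul, mul_one, smul_mul_assoc, mul_smul_comm, smul_smul, smul_sub, smul_add,
        mul_assoc]
      module
    rw [← hX₁, e1, hX₁, pj, ← slot_mul_cmp, ← mul_smul_comm] at h3
    refine ⟨e, _, he0, he, smul_ne_zero (neg_ne_zero.2 (mul_ne_zero (mul_ne_zero ?_ hδ0) hδ0)) hC, h3,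
      fun X => by rw [smul_mul_assoc, mul_smul_comm, cmp_comm], fun l hl Q => ⟨fun h => ?_, fun h => ?_⟩⟩
    · intro h0
      have : s * (s - 1) = 0 := by linear_combination h0
      exact (mul_eq_zero.1 this).elim hs0 fun h => hs1 (sub_eq_zero.1 h)
    · rw [smul_mul_assoc, mul_smul_comm, (cmp_transfer j Y e _ hl Q).1 h]
    · rw [smul_mul_assoc, (cmp_transfer j Y e _ hl Q).2 h, smul_zero]
  have h4 : 4 ≤ k := S.small.resolve_left hsm
  push Not at hsm
  have h2 : (2 : F) = 0 := by
    by_contra h2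
    have := hsm 2 (map_ofNat σ 2) h2
    exact one_ne_zero (α := F) (by linear_combination this)
  have hδ1 : (1 : F) + σ 1 = 0 := by rw [map_one, ← h2]; norm_num
  by_contra hcon
  have key : ∀ e', f e' e' = 0 → f e' e = 0 → (∀ c : F, e' ≠ c • e) → cmp j Y e' (fVec f e) = 0 := by
    intro e' he' he'e hind
    have hee' := Unit.eq_zero_comm S.unit he'e
    set X₂ := slot (t := t) j (pj f e') with hX₂
    have h12 : X₁ * X₂ = 0 := by rw [hX₁, hX₂, slot_mul, S.pj_mul_eq_zero he'e, map_zero]
    have hA := hconj' he hδ1 hY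
    have hB := hconj' he' hδ1 hY
    have hAB := hconj' he hδ1 (hconj' he' hδ1 hY)
    simp only [one_smul, ← hX₁, ← hX₂] at hA hB hAB
    have hΦ : P (X₁ * Y * X₂ + X₂ * Y * X₁) := by
      have h := hsmul (c := -1) (by simp) (hsub (hsub (hsub hAB hY) (hsub hA hY)) (hsub hB hY))
      have h21 : X₂ * X₁ = 0 := by rw [hX₁, hX₂, slot_mul, S.pj_mul_eq_zero hee', map_zero]
      convert h using 1
      rw [show (1 + X₁) * ((1 + X₂) * Y * (1 - X₂)) * (1 - X₁) = ((1 + X₁) * (1 + X₂)) * Y * ((1 - X₂) * (1 - X₁)) by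
        simp only [mul_assoc], show (1 + X₁) * (1 + X₂) = 1 + (X₁ + X₂) by
          rw [add_mul, one_mul, mul_add, mul_one, h12, add_zero]; abel,
        show (1 - X₂) * (1 - X₁) = 1 - (X₁ + X₂) by rw [sub_mul, one_mul, mul_sub, mul_one, h21, sub_zero]; abel,
        neg_one_smul]
      simp only [add_mul, mul_add, mul_sub, one_mul, mul_one]
      abel
    set C₁₂ := cmp j Y e' (fVec f e)
    set C₂₁ := cmp j Y e (fVec f e')
    rw [hX₁, hX₂, pj, pj, ← slot_mul_cmp, ← slot_mul_cmp] at hΦ
    have hl : ∀ l : F, σ l • C₁₂ + l • C₂₁ = 0 := by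
      intro l
      obtain ⟨θ, hθe, hθe'⟩ := CfsgLib.TensorWreathMax.exists_perp_eq_one (x := fVec f e) (y := fVec f e')
        (fun c hc => hind (σ c) (Unit.fVec_injective S.unit (by rw [hc, S.fvec_smul, S.invol])))
      rw [dotProduct_comm, S.fdot] at hθe hθe'
      set w := (-σ l) • θ with hw
      have hew : f e w = 0 := Unit.eq_zero_comm S.unit (by rw [hw, Unit.smul_left S.unit, hθe, mul_zero])
      have he'w : f e' w = -l := by
        rw [hw, Unit.smul_right S.unit, map_neg, S.invol, ← Unit.conj_form S.unit, hθe', map_one, mul_one]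
      obtain ⟨γ, hγ⟩ := S.exists_gamma w
      have hA := S.root_mem he hew hγ
      set A := UnitOrth.root f e w γ
      have hAe : (A : Matrix (Fin k) (Fin k) F) *ᵥ e = e := by
        rw [UnitOrth.root_mulVec S.unit he hew, he, hew]; simp
      have hAe' : (A : Matrix (Fin k) (Fin k) F) *ᵥ e' = e' + l • e := by
        rw [UnitOrth.root_mulVec S.unit he hew, he'e, he'w]; simp
      have h := hsub (hconj A hA hΦ) hΦ
      have hc : ∀ (a b : Fin k → F) (C : Matrix (Idx k t) (Idx k t) F), (∀ X, C * slot j X = slot j X * C) →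
          slot j (A : Matrix (Fin k) (Fin k) F) * (slot j (vecMulVec a (fVec f b)) * C) *
            slot j ((A⁻¹ : GL (Fin k) F) : Matrix (Fin k) (Fin k) F) =
          slot j (vecMulVec ((A : Matrix (Fin k) (Fin k) F) *ᵥ a) (fVec f ((A : Matrix (Fin k) (Fin k) F) *ᵥ b))) * C := by
        intro a b C hC
        rw [mul_assoc, mul_assoc, hC, ← mul_assoc, ← mul_assoc, slot_mul, slot_mul, S.conj_vm (mem_su.1 hA).1]
      rw [mul_add, add_mul, hc _ _ _ (cmp_comm j Y _ _), hc _ _ _ (cmp_comm j Y _ _), hAe, hAe'] at h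
      have e1 : slot (t := t) j (vecMulVec e (fVec f (e' + l • e))) * C₁₂ +
          slot j (vecMulVec (e' + l • e) (fVec f e)) * C₂₁ -
          (slot j (vecMulVec e (fVec f e')) * C₁₂ + slot j (vecMulVec e' (fVec f e)) * C₂₁) =
          slot j (pj f e) * (σ l • C₁₂ + l • C₂₁) := by
        simp only [(Unit.sesq S.unit).fVec_add, S.fvec_smul, vecMulVec_add, add_vecMulVec, vecMulVec_smul, smul_vecMulVec,
          map_add, map_smul, add_mul, smul_mul_assoc, mul_add, mul_smul_comm, pj]
        abel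
      rw [e1] at h
      by_contra hne
      refine hcon ⟨e, _, he0, he, hne, h, fun X => ?_, fun m hm Q => ⟨fun hQ => ?_, fun hQ => ?_⟩⟩
      · simp only [add_mul, mul_add, smul_mul_assoc, mul_smul_comm, C₁₂, C₂₁, cmp_comm]
      · simp only [add_mul, mul_add, smul_mul_assoc, mul_smul_comm, C₁₂, C₂₁, (cmp_transfer j Y e' _ hm Q).1 hQ,
          (cmp_transfer j Y e _ hm Q).1 hQ]
      · simp only [add_mul, smul_mul_assoc, C₁₂, C₂₁, (cmp_transfer j Y e' _ hm Q).2 hQ,
          (cmp_transfer j Y e _ hm Q).2 hQ, smul_zero, add_zero]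
    obtain ⟨c, hc⟩ := scalar_fst S.unit.ne_refl (one := (0 : Matrix (Idx k t) (Idx k t) F)) (Z₁ := C₂₁) (Z₂ := -C₁₂)
      fun l => ⟨0, by rw [smul_zero, smul_neg, sub_neg_eq_add, add_comm, hl]⟩
    have h1 := hl 1
    rw [map_one, one_smul, one_smul, hc, smul_zero, add_zero] at h1
    exact h1
  obtain ⟨e', he', he'e, hind⟩ := S.exists_iso_perp h4 he0 he
  have hee' := Unit.eq_zero_comm S.unit he'e
  have h1 := key e' he' he'e hind
  have h3 := key (e' + e) (by rw [Unit.add_left S.unit, Unit.add_right S.unit, Unit.add_right S.unit, he', he, he'e, hee']; ring)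
    (by rw [Unit.add_left S.unit, he'e, he, add_zero])
    (fun c hc => hind (c - 1) (by rw [sub_smul, one_smul, ← hc, add_sub_cancel_right]))
  rw [cmp_add_left, h1, zero_add] at h3
  exact hC h3

/-! ### Products of root elements -/

theorem pS_update {S : Finset (Fin t)} {j : Fin t} (hj : j ∈ S) (A A' : Matrix (Fin k) (Fin k) F)
    (h : A * A' = 1) (X : Fin t → Matrix (Fin k) (Fin k) F) :
    slot j A * pS S X * slot j A' = pS S (Function.update X j (A * X j * A')) := by
  rw [slot_apply, slot_apply, pS, pm_mul, pm_mul, pS]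
  congr 1
  funext l
  rcases eq_or_ne l j with rfl | hl
  · simp [hj]
  · simp [hl]

variable [Fintype F]

/-- One product of root elements gives all of them. -/
theorem Full.rootsOn_of_one {M : Subgroup (GL (Idx k t) F)} (hF : Full σ f M) {S : Finset (Fin t)} (hS : S.Nonempty)
    {a : Fin t → Fin k → F} (ha : ∀ j ∈ S, a j ≠ 0 ∧ f (a j) (a j) = 0) {δ : F} (hδ0 : δ ≠ 0) (hδ : δ + σ δ = 0)
    (h : In M (1 + δ • pS S fun j => pj f (a j))) : RootsOn σ f M S := by
  classical
  have hSp := hF.sp
  have step : ∀ U : Finset (Fin t), ∀ a' : Fin t → Fin k → F, (∀ j ∈ S, j ∉ U → a' j = a j) →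
      (∀ j ∈ S, f (a' j) (a' j) = 0) → In M (1 + δ • pS S fun j => pj f (a' j)) := by
    intro U
    induction U using Finset.induction with
    | empty =>
      intro a' he _
      rwa [pS_congr fun j hj => by rw [he j hj (Finset.notMem_empty j)]]
    | @insert l U _ ih =>
      intro a' he h'
      by_cases hl : l ∈ S
      swap
      · exact ih a' (fun j hj hjU => he j hj (by
          simp only [Finset.mem_insert, not_or]; exact ⟨fun h => hl (h ▸ hj), hjU⟩)) h'
      by_cases h0 : a' l = 0
      · rw [pS_eq_zero hl (by rw [h0, pj, zero_vecMulVec]), smul_zero, add_zero]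
        exact In.one
      have h1 := ih (Function.update a' l (a l))
        (fun j hj hjU => by
          rcases eq_or_ne j l with rfl | hjl
          · simp
          · simpa [hjl] using he j hj (by simp [hjl, hjU]))
        (fun j hj => by
          rcases eq_or_ne j l with rfl | hjl
          · simpa using (ha j hj).2
          · simpa [hjl] using h' j hj)
      obtain ⟨A, hA, hAa⟩ := hSp.exists_su_map (ha l hl).1 (ha l hl).2 h0 (h' l hl)
      obtain ⟨g, hg, hgA⟩ := hF.su_mem l A hA
      have h2 := In.conj hg h1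
      have hgi : ((g⁻¹ : GL (Idx k t) F) : Matrix (Idx k t) (Idx k t) F) =
          slot l ((A⁻¹ : GL (Fin k) F) : Matrix (Fin k) (Fin k) F) :=
        Units.inv_eq_of_mul_eq_one_right (by rw [hgA, slot_mul_inv])
      rw [hgA, hgi, mul_smul_comm, smul_mul_assoc, pS_update hl _ _ (Units.mul_inv A)] at h2
      convert h2 using 3
      refine pS_congr fun j _ => ?_
      rcases eq_or_ne j l with rfl | hjl
      · rw [Function.update_self, Function.update_self, hSp.conj_pj (mem_su.1 hA).1, hAa]
      · simp [hjl]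
  intro b hb δ' hδ'
  obtain ⟨x, hx⟩ := hSp.exists_norm (b := δ' / δ) (by
    rw [map_div₀, eq_neg_of_add_eq_zero_right hδ', eq_neg_of_add_eq_zero_right hδ, neg_div_neg_eq])
  obtain ⟨j₀, hj₀⟩ := hS
  have h1 := step Finset.univ (Function.update b j₀ (x • b j₀)) (fun j _ hj => absurd (Finset.mem_univ j) hj)
    (fun j hj => by
      rcases eq_or_ne j j₀ with rfl | hjj
      · rw [Function.update_self, Unit.smul_left hSp.unit, Unit.smul_right hSp.unit, hb _ hj, mul_zero, mul_zero]
      · simpa [hjj] using hb j hj)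
  convert h1 using 2
  have e : pS S (fun j => pj f (Function.update b j₀ (x • b j₀) j)) = (x * σ x) • pS S fun j => pj f (b j) := by
    rw [show pS S (fun j => pj f (Function.update b j₀ (x • b j₀) j)) =
      pm (fun j => (if j = j₀ then x * σ x else 1) • if j ∈ S then pj f (b j) else 1) from by
        rw [pS]
        congr 1
        funext j
        rcases eq_or_ne j j₀ with rfl | hjj
        · simp [hj₀, hSp.pj_smul]
        · simp [hjj], CfsgLib.TensorWreathMax.pm_smul]
    simp [pS]
  rw [e, hx, smul_smul, mul_div_cancel₀ _ hδ0]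

theorem Full.rootsOn_swap {M : Subgroup (GL (Idx k t) F)} (hF : Full σ f M) (ht : 3 ≤ t) {S : Finset (Fin t)}
    (hS : RootsOn σ f M S) (j l : Fin t) : RootsOn σ f M (S.image (Equiv.swap j l)) := by
  classical
  rcases eq_or_ne j l with rfl | hjl
  · simpa using hS
  intro a h δ hδ
  obtain ⟨c, hc, hp⟩ := hF.perm ht j l hjl
  have hc0 : c ≠ 0 := fun h0 => by simp [h0] at hc
  have hσ : Equiv.swap j l * Equiv.swap j l = 1 := Equiv.swap_mul_self _ _
  have h1 := hS (fun p => a (Equiv.swap j l p)) (fun p hp => h _ (Finset.mem_image_of_mem _ hp)) δ hδ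
  have hpi : In M (c⁻¹ • permM (Equiv.swap j l)) :=
    hp.inv (by rw [smul_mul_smul_comm, CfsgLib.TensorWreathMax.permM_mul_self hσ, mul_inv_cancel₀ hc0, one_smul])
  have h2 := (hp.mul h1).mul hpi
  rw [mul_add, mul_one, add_mul, smul_mul_smul_comm, CfsgLib.TensorWreathMax.permM_mul_self hσ, mul_inv_cancel₀ hc0,
    one_smul, mul_smul_comm, smul_mul_assoc, smul_mul_assoc, smul_smul, inv_mul_cancel₀ hc0, one_smul, mul_smul_comm,
    smul_mul_assoc, pS,
    CfsgLib.TensorWreathMax.permM_conj_pm hσ] at h2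
  convert h2 using 3
  rw [pS]
  congr 1
  funext p
  have e : Equiv.swap j l p ∈ S ↔ p ∈ S.image (Equiv.swap j l) := by
    simp only [Finset.mem_image]
    exact ⟨fun hl => ⟨_, hl, by simp⟩, fun ⟨x, hx, hxl⟩ => by rw [← hxl]; simpa using hx⟩
  simp only [e, Equiv.swap_apply_self]

/-- Iterated components lead to products of root elements. -/
theorem Full.exists_rootsOn {M : Subgroup (GL (Idx k (t + 1)) F)} (hF : Full σ f M) (i : Fin (t + 1))
    (T₀ : Finset (Fin t)) {Q : Matrix (Fin k) (Fin k) F} (hQ : Q ≠ 0) :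
    ∀ (S : Finset (Fin t)) (e : Fin t → Fin k → F) (C : Matrix (Idx k t) (Idx k t) F),
      (∀ j ∈ S, e j ≠ 0 ∧ f (e j) (e j) = 0) →
      Good σ f (Ms i M) (pS S (fun j => pj f (e j)) * C) → (∀ j ∈ S, ∀ X, C * slot j X = slot j X * C) → C ≠ 0 →
      (∀ l ∈ T₀, l ∈ S ∨ C * slot l Q = 0) →
      ∃ S' : Finset (Fin t), S ⊆ S' ∧ T₀ ⊆ S' ∧ ((∀ c : F, C ≠ c • 1) → S'.Nonempty) ∧
        RootsOn σ f M (insert i (S'.map i.succAboveEmb)) := by
  classical
  have hk := hF.sp.three_le
  have G := hF.grp i
  suffices key : ∀ d, ∀ S : Finset (Fin t), t - S.card = d → ∀ (e : Fin t → Fin k → F) (C : Matrix (Idx k t) (Idx k t) F),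
      (∀ j ∈ S, e j ≠ 0 ∧ f (e j) (e j) = 0) →
      Good σ f (Ms i M) (pS S (fun j => pj f (e j)) * C) → (∀ j ∈ S, ∀ X, C * slot j X = slot j X * C) → C ≠ 0 →
      (∀ l ∈ T₀, l ∈ S ∨ C * slot l Q = 0) →
      ∃ S' : Finset (Fin t), S ⊆ S' ∧ T₀ ⊆ S' ∧ ((∀ c : F, C ≠ c • 1) → S'.Nonempty) ∧
        RootsOn σ f M (insert i (S'.map i.succAboveEmb)) from fun S => key _ S rfl
  intro d
  induction d using Nat.strong_induction_on with
  | _ d ih =>
    intro S hd e C he hG hC hC0 hT
    by_cases hsc : ∃ c : F, C = c • 1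
    · obtain ⟨c, rfl⟩ := hsc
      have hc0 : c ≠ 0 := fun h => hC0 (by rw [h, zero_smul])
      refine ⟨S, Finset.Subset.refl _, fun l hl => (hT l hl).elim id fun h => absurd ?_ hQ, fun h => absurd rfl (h c), ?_⟩
      · rw [smul_mul_assoc, one_mul, smul_eq_zero] at h
        exact slot_eq_zero hk (h.resolve_left hc0)
      rw [mul_smul_comm, mul_one] at hG
      set P := pS S fun j => pj f (e j) with hP
      have hP0 : P ≠ 0 := pm_ne_zero fun j => by
        split_ifs with hj
        · exact hF.sp.pj_ne_zero (he j hj).1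
        · exact fun h => by
            have := congrFun (congrFun h ⟨0, by omega⟩) ⟨0, by omega⟩
            simp at this
      have hcσ : σ c = c := by
        have h1 : Adj (fog σ (Gm f t)) (c • P) (c • P) := G.good_adj hG
        have h2 : Adj (fog σ (Gm f t)) P P := hF.sp.adj_pm fun j => by
          split_ifs
          · exact hF.sp.pj_adj _
          · intro x y; simp
        by_contra hne
        refine hP0 (Matrix.ext_of_mulVec_single fun r => ?_)
        rw [Matrix.zero_mulVec]
        refine G.eq_zero_of_fog fun v => ?_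
        have h3 := h1 (Pi.single r 1) v
        rw [Matrix.smul_mulVec, Matrix.smul_mulVec, Unit.smul_left G.unitary, Unit.smul_right G.unitary, ← h2] at h3
        exact (mul_eq_zero.1 (by linear_combination h3 :
          (c - σ c) * fog σ (Gm f t) (P *ᵥ Pi.single r 1) v = 0)).resolve_left (sub_ne_zero.2 (Ne.symm hne))
      obtain ⟨δ, hδ0, hδ⟩ := Unit.exists_skew hF.sp.unit.ne_refl hF.sp.invol
      obtain ⟨a, ha0, ha⟩ := hF.sp.exists_iso
      refine hF.rootsOn_of_one (Finset.insert_nonempty _ _) (a := i.insertNth a e) (δ := δ * c) (fun l hl => ?_)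
        (mul_ne_zero hδ0 hc0) (by rw [map_mul, hcσ, ← add_mul, hδ, zero_mul]) ?_
      · rcases Fin.eq_self_or_eq_succAbove i l with rfl | ⟨l, rfl⟩
        · simpa using ⟨ha0, ha⟩
        · have hlS : l ∈ S := by simpa [Fin.succAbove_ne] using hl
          simpa using he l hlS
      · rw [← in_ms_rx (i := i), map_add, map_one, map_smul, pS, rx_pm]
        convert hG a ha δ hδ using 2
        rw [kronecker_smul, smul_smul]
        congr 2
        · simp
        · rw [hP, pS]
          congr 1
          funext l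
          simp only [Fin.removeNth, Finset.mem_insert, Fin.succAbove_ne, false_or, Finset.mem_map,
            Fin.coe_succAboveEmb, Fin.succAbove_right_inj, exists_eq_right, Fin.insertNth_apply_succAbove]
    push Not at hsc
    obtain ⟨j, hj⟩ : ∃ j, ¬ ∀ X, C * slot j X = slot j X * C := by
      by_contra h
      push Not at h
      obtain ⟨c, hc⟩ := CfsgLib.TensorWreathMax.eq_smul_one_of_commute_all hk (commute_all (Z := C) h)
      exact hsc c hc
    have hjS : j ∉ S := fun h => hj (hC j h)
    let P : Matrix (Idx k t) (Idx k t) F → Prop := fun X => Good σ f (Ms i M) (pS S (fun l => pj f (e l)) * X)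
    obtain ⟨v, C', hv0, hv, hC'0, hP', hC'j, htr⟩ := exists_step hF.sp j (P := P)
      (fun {X Y} hX hY => by show Good σ f _ _; rw [mul_sub]; exact G.good_sub hX hY)
      (fun {X c} hc hX => by show Good σ f _ _; rw [mul_smul_comm]; exact G.good_smul hX hc)
      (fun {X} A hA hX => by
        show Good σ f _ _
        have hin : In (Ms i M) ((1 : Matrix (Fin k) (Fin k) F) ⊗ₖ slot j (A : Matrix (Fin k) (Fin k) F)) := by
          have h1 := in_ms_rx (i := i).2 (hF.su_mem (i.succAbove j) A hA)
          rwa [rx_slot_succAbove] at h1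
        have h2 := G.good_conj hX (slot_mul_inv j A) hin
        rwa [← mul_assoc, slot_comm_pS hjS, mul_assoc (pS S _), mul_assoc (pS S _)] at h2)
      hG hj
    have hcard : (insert j S).card = S.card + 1 := Finset.card_insert_of_notMem hjS
    have hle : (insert j S).card ≤ t := by simpa using Finset.card_le_univ (insert j S)
    obtain ⟨S', hS', hT', -, hR⟩ := ih _ (by omega) (insert j S) rfl (Function.update e j v) C'
      (fun l hl => by
        rcases Finset.mem_insert.1 hl with rfl | hl
        · simpa using ⟨hv0, hv⟩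
        · simpa [show l ≠ j from fun h => hjS (h ▸ hl)] using he l hl)
      (by
        have h1 : Good σ f (Ms i M) (pS S (fun l => pj f (e l)) * (slot j (pj f v) * C')) := hP'
        rw [← mul_assoc, pS_insert hjS (fun l => pj f (e l))] at h1
        rw [pS_congr (Y := fun l => pj f (Function.update e j v l)) fun l _ => by
          rcases eq_or_ne l j with rfl | hl
          · simp
          · simp [hl]] at h1
        exact h1)
      (fun l hl X => by
        rcases Finset.mem_insert.1 hl with rfl | hl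
        · exact hC'j X
        · exact (htr l (fun h => hjS (h ▸ hl)) X).1 (hC l hl X))
      hC'0
      (fun l hl => by
        rcases eq_or_ne l j with rfl | hlj
        · exact Or.inl (Finset.mem_insert_self _ _)
        · exact (hT l hl).imp (fun h => Finset.mem_insert_of_mem h) fun h => (htr l hlj Q).2 h)
    exact ⟨S', (Finset.subset_insert j S).trans hS', hT', fun _ => ⟨j, hS' (Finset.mem_insert_self j S)⟩, hR⟩

/-- Two factors lead to all of them. -/
theorem Full.rootsOn_univ : ∀ {M : Subgroup (GL (Idx k t) F)}, Full σ f M → ∀ S : Finset (Fin t),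
    (2 ≤ S.card ∨ S = Finset.univ) → RootsOn σ f M S → RootsOn σ f M Finset.univ := by
  classical
  cases t with
  | zero => exact fun _ S _ h => by rwa [show (Finset.univ : Finset (Fin 0)) = S from Subsingleton.elim _ _]
  | succ t =>
  intro M hF
  suffices key : ∀ d, ∀ S : Finset (Fin (t + 1)), t + 1 - S.card = d → (2 ≤ S.card ∨ S = Finset.univ) →
      RootsOn σ f M S → RootsOn σ f M Finset.univ from fun S => key _ S rfl
  intro d
  induction d using Nat.strong_induction_on with
  | _ d ih =>
    intro S hd h2 hS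
    by_cases hu : S = Finset.univ
    · rwa [← hu]
    have h2' : 2 ≤ S.card := h2.resolve_right hu
    obtain ⟨n, hn⟩ : ∃ n, n ∉ S := by
      by_contra h; push Not at h; exact hu (Finset.eq_univ_of_forall h)
    obtain ⟨j, hj, l, hl, hjl⟩ := Finset.one_lt_card.1 h2'
    have hcard : (insert n S).card = S.card + 1 := Finset.card_insert_of_notMem hn
    have hle : (insert n S).card ≤ t + 1 := by simpa using Finset.card_le_univ (insert n S)
    have hT := hF.rootsOn_swap (by omega) hS j n
    have hjn : j ≠ n := fun h => hn (h ▸ hj)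
    obtain ⟨n', rfl⟩ := Fin.exists_succAbove_eq hjn.symm
    let S₀ : Finset (Fin t) := Finset.univ.filter fun p => j.succAbove p ∈ S
    have hn₀ : n' ∉ S₀ := by simpa [S₀] using hn
    obtain ⟨l', rfl⟩ := Fin.exists_succAbove_eq hjl.symm
    have hl₀ : l' ∈ S₀ := by simp [S₀, hl]
    have hSp := hF.sp
    obtain ⟨a, ha0, ha⟩ := hSp.exists_iso
    obtain ⟨b, hb, hba, hab⟩ := hSp.exists_partner ha0 ha
    have hb0 : b ≠ 0 := fun h => one_ne_zero (α := F) (by rw [← hba, h, Unit.zero_left hSp.unit])
    obtain ⟨c, hca, hcb, hcc⟩ := hSp.exists_aniso_perp ha hb hab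
    obtain ⟨δ, hδ0, hδ⟩ := Unit.exists_skew hSp.unit.ne_refl hSp.invol
    set A := δ • pS S (fun _ => pj f a) with hAdef
    set B := δ • pS (S.image (Equiv.swap j (j.succAbove n'))) (fun _ => pj f b) with hBdef
    have hW1 : pj f a * pj f b = vecMulVec a (fVec f b) := by rw [pj, pj, hSp.vm_mul, hba, one_smul]
    have hW2 : pj f b * pj f a = vecMulVec b (fVec f a) := by rw [pj, pj, hSp.vm_mul, hab, one_smul]
    have hrA : rx j A = δ • (pj f a ⊗ₖ pS S₀ fun _ => pj f a) := by
      rw [hAdef, map_smul, pS, rx_pm]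
      simp only [hj, if_true, Fin.removeNth, pS, S₀, Finset.mem_filter, Finset.mem_univ, true_and]
      rfl
    have hrB : rx j B = δ • ((1 : Matrix (Fin k) (Fin k) F) ⊗ₖ ((pS S₀ fun _ => pj f b) * slot n' (pj f b))) := by
      rw [hBdef, map_smul, pS_insert hn₀, pS, rx_pm, pS]
      congr 2
      · rw [if_neg]
        simp only [Finset.mem_image, not_exists, not_and]
        intro x hx hxj
        rw [Equiv.swap_apply_eq_iff, Equiv.swap_apply_left] at hxj
        exact hn (hxj ▸ hx)
      · congr 1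
        funext p
        have e : j.succAbove p ∈ S.image (Equiv.swap j (j.succAbove n')) ↔ p ∈ insert n' S₀ := by
          simp only [Finset.mem_image, Finset.mem_insert, S₀, Finset.mem_filter, Finset.mem_univ, true_and]
          constructor
          · rintro ⟨x, hx, hxp⟩
            rw [Equiv.swap_apply_eq_iff] at hxp
            rcases eq_or_ne p n' with rfl | hp
            · exact Or.inl rfl
            · rw [Equiv.swap_apply_of_ne_of_ne (Fin.succAbove_ne j p) (by simpa using hp)] at hxp
              exact Or.inr (hxp ▸ hx)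
          · rintro (rfl | hp)
            · exact ⟨j, hj, by simp⟩
            · refine ⟨j.succAbove p, hp, Equiv.swap_apply_of_ne_of_ne (Fin.succAbove_ne j p) ?_⟩
              intro h
              exact hn (h ▸ hp)
        simp only [Fin.removeNth, e]
        rcases eq_or_ne p n' with rfl | hp
        · simp
        · simp [hp]
    set C := δ • ((pS S₀ fun _ => vecMulVec a (fVec f b)) - pS S₀ fun _ => vecMulVec b (fVec f a)) with hCdef
    have hcomm : (slot n' (pj f b)) * pS S₀ (fun _ => pj f a) = pS S₀ (fun _ => pj f a) * slot n' (pj f b) :=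
      slot_comm_pS hn₀ _ _
    have hrD : rx j (A * B - B * A) = δ • (pj f a ⊗ₖ (pS {n'} (fun _ => pj f b) * C)) := by
      rw [map_sub, map_mul, map_mul, hrA, hrB, smul_mul_smul_comm, smul_mul_smul_comm, ← Matrix.mul_kronecker_mul,
        ← Matrix.mul_kronecker_mul, mul_one, one_mul, ← mul_assoc, pS_mul, mul_assoc _ (slot n' _) (pS S₀ _), hcomm,
        ← mul_assoc (pS S₀ fun _ => pj f b), pS_mul, pS_single, hCdef, mul_smul_comm, mul_sub,
        slot_comm_pS hn₀, slot_comm_pS hn₀]
      simp only [hW1, hW2]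
      rw [kronecker_smul, smul_smul, ← smul_sub]
      congr 1
      ext ⟨p, x⟩ ⟨q, y⟩
      simp [mul_sub]
    have hAB : In M (1 + (A * B - B * A)) := by
      have hA2 : A * A = 0 := by
        rw [hAdef, smul_mul_smul_comm, pS_mul, pS_eq_zero hj (hSp.pj_mul_self ha), smul_zero]
      have hB2 : B * B = 0 := by
        rw [hBdef, smul_mul_smul_comm, pS_mul, pS_eq_zero (j := j.succAbove n')
          (Finset.mem_image.2 ⟨j, hj, Equiv.swap_apply_left _ _⟩) (hSp.pj_mul_self hb), smul_zero]
      have hABA : A * B * A = 0 := by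
        apply (rx j).injective
        rw [map_mul, map_mul, hrA, hrB, map_zero, smul_mul_smul_comm, ← Matrix.mul_kronecker_mul, smul_mul_smul_comm,
          ← Matrix.mul_kronecker_mul, mul_one, hSp.pj_mul_self ha, zero_kronecker, smul_zero]
      have hBAB : B * A * B = 0 := by
        apply (rx j).injective
        rw [map_mul, map_mul, hrA, hrB, map_zero, smul_mul_smul_comm, ← Matrix.mul_kronecker_mul, smul_mul_smul_comm,
          ← Matrix.mul_kronecker_mul]
        refine smul_eq_zero_of_right _ ?_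
        rw [mul_assoc (pS S₀ fun _ => pj f b) (slot n' _) (pS S₀ _), hcomm, ← mul_assoc, ← mul_assoc,
          mul_assoc (_ * pS S₀ fun _ => pj f a) (slot n' _) (pS S₀ _), slot_comm_pS hn₀, ← mul_assoc,
          mul_assoc _ (slot n' _) (slot n' _), slot_mul, hSp.pj_mul_self hb, map_zero, mul_zero, kronecker_zero]
      refine in_comm (X := A) (Y := B) (hS _ (fun _ _ => ha) δ hδ) (hT _ (fun _ _ => hb) δ hδ) ?_ ?_
      · rw [sub_mul, hABA, mul_assoc, hA2, mul_zero, sub_zero]
      · rw [sub_mul, hBAB, mul_assoc, hB2, mul_zero, sub_zero]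
    have hg : Good σ f (Ms j M) (pS {n'} (fun _ => pj f b) * C) := by
      have h1 := in_ms_rx (i := j).2 hAB
      rw [map_add, map_one, hrD] at h1
      exact (hF.grp j).good_of_one ha0 ha hδ0 hδ h1
    have hQ0 : vecMulVec c c ≠ 0 := fun h => by
      obtain ⟨r, hr⟩ := Function.ne_iff.1 (show c ≠ 0 from fun h0 => hcc (by rw [h0, Unit.zero_left hSp.unit]))
      have h1 := congrFun (congrFun h r) r
      exact mul_ne_zero hr hr h1
    obtain ⟨S', hS'1, hS'2, -, hR⟩ := hF.exists_rootsOn j S₀ hQ0 {n'} (fun _ => b) C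
      (fun _ _ => ⟨hb0, hb⟩) hg
      (fun p hp X => by
        rw [Finset.mem_singleton.1 hp, hCdef, smul_mul_assoc, mul_smul_comm, sub_mul, mul_sub, slot_comm_pS hn₀,
          slot_comm_pS hn₀])
      (fun h0 => by
        have h1 := congrArg (· * pS S₀ fun _ => pj f a) h0
        rw [hCdef, smul_mul_assoc, sub_mul, pS_mul, pS_mul, zero_mul,
          show (fun _ : Fin t => vecMulVec a (fVec f b) * pj f a) = fun _ => pj f a from funext fun _ => by
            rw [pj, hSp.vm_mul, hab, one_smul],
          pS_eq_zero (X := fun _ : Fin t => vecMulVec b (fVec f a) * pj f a) hl₀ (by rw [pj, hSp.vm_mul, ha, zero_smul]),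
          sub_zero, smul_eq_zero] at h1
        refine pm_ne_zero (fun p => ?_) (h1.resolve_left hδ0)
        split_ifs with hp
        · exact hSp.pj_ne_zero ha0
        · exact fun h => by
            have := congrFun (congrFun h ⟨0, lt_of_lt_of_le (by norm_num) hSp.three_le⟩)
              ⟨0, lt_of_lt_of_le (by norm_num) hSp.three_le⟩
            simp at this)
      (fun p hp => Or.inr (by
        rw [hCdef, smul_mul_assoc, sub_mul,
          pS_mul_slot_eq_zero hp (by rw [vecMulVec_mul_vecMulVec, hSp.fdot, hcb, zero_smul, vecMulVec_zero]),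
          pS_mul_slot_eq_zero hp (by rw [vecMulVec_mul_vecMulVec, hSp.fdot, hca, zero_smul, vecMulVec_zero]),
          sub_zero, smul_zero]))
    have hsub : insert (j.succAbove n') S ⊆ insert j (S'.map j.succAboveEmb) := by
      intro p hp
      rcases Fin.eq_self_or_eq_succAbove j p with rfl | ⟨p, rfl⟩
      · exact Finset.mem_insert_self _ _
      refine Finset.mem_insert_of_mem (Finset.mem_map.2 ⟨p, ?_, rfl⟩)
      rcases Finset.mem_insert.1 hp with h | h
      · exact hS'1 (by simpa using h)
      · exact hS'2 (by simp [S₀, h])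
    have hcle := Finset.card_le_card hsub
    exact ih _ (by omega) _ rfl (Or.inl (by omega)) hR

/-- Only scalars are coefficients, unless all products of root elements occur. -/
theorem Full.onlyScalar {M : Subgroup (GL (Idx k (t + 1)) F)} (hF : Full σ f M)
    (hP : ¬ RootsOn σ f M Finset.univ) (i : Fin (t + 1)) : OnlyScalar σ f (Ms i M) := by
  classical
  intro Y hY
  by_contra hcon
  push Not at hcon
  obtain ⟨S', -, -, hne, hR⟩ := hF.exists_rootsOn i ∅ (Q := 1)
    (fun h => by
      have := congrFun (congrFun h ⟨0, lt_of_lt_of_le (by norm_num) hF.sp.three_le⟩)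
        ⟨0, lt_of_lt_of_le (by norm_num) hF.sp.three_le⟩
      simp at this)
    ∅ (fun _ => 0) Y (by simp) (by
      rwa [show pS (∅ : Finset (Fin t)) (fun _ => pj f (0 : Fin k → F)) = 1 by
        simp only [pS, Finset.notMem_empty, if_false]; exact pm_one, one_mul])
    (by simp) (fun h => hcon 0 (by simpa using h)) (by simp)
  refine hP (hF.rootsOn_univ _ (Or.inl ?_) hR)
  rw [Finset.card_insert_of_notMem (by simp [Fin.succAbove_ne]), Finset.card_map]
  have := Finset.card_pos.2 (hne hcon)
  omega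

/-! ### The right factor -/

theorem Full.gam {M : Subgroup (GL (Idx k (t + 1)) F)} (hF : Full σ f M) (i : Fin (t + 1)) :
    Full σ f (Gam i M) := by
  have hk := hF.sp.three_le
  refine ⟨hF.sp, fun g hg => ?_, fun j A hA => in_gam hk ?_, fun ht j l hjl => ?_⟩
  · intro u v
    have G := hF.grp i
    obtain ⟨a, ha0, ha⟩ := hF.sp.exists_iso
    obtain ⟨b, hb, hba, hab⟩ := hF.sp.exists_partner ha0 ha
    have h : hp σ f (Gm f t)
        (((1 : Matrix (Fin k) (Fin k) F) ⊗ₖ (g : Matrix (Idx k t) (Idx k t) F)) *ᵥ pl a u)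
        (((1 : Matrix (Fin k) (Fin k) F) ⊗ₖ (g : Matrix (Idx k t) (Idx k t) F)) *ᵥ pl b v) =
        hp σ f (Gm f t) (pl a u) (pl b v) := G.iso _ hg _ _
    rw [CfsgLib.TensorWreathMax.kronecker_mulVec_pl, CfsgLib.TensorWreathMax.kronecker_mulVec_pl,
      Matrix.one_mulVec, Matrix.one_mulVec, G.hp_pl, G.hp_pl, hab, one_mul, one_mul] at h
    exact h
  · have h1 := in_ms_rx (i := i).2 (hF.su_mem (i.succAbove j) A hA)
    rwa [rx_slot_succAbove] at h1
  · obtain ⟨c, hc, hp⟩ := hF.perm (by omega) (i.succAbove j) (i.succAbove l) (by simpa using hjl)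
    refine ⟨c, hc, in_gam hk ?_⟩
    have h1 := in_ms_rx (i := i).2 hp
    rwa [map_smul, CfsgLib.TensorWreathMax.rx_permM_swap, ← kronecker_smul] at h1

theorem Full.gam_proper (ht : 2 ≤ t) {M : Subgroup (GL (Idx k (t + 1)) F)} (hF : Full σ f M)
    (hP : ¬ RootsOn σ f M Finset.univ) (i : Fin (t + 1)) : ¬ RootsOn σ f (Gam i M) Finset.univ := by
  classical
  intro hR
  refine hP (hF.rootsOn_univ (Finset.univ.map i.succAboveEmb) (Or.inl (by simp; omega)) ?_)
  intro a ha δ hδ
  obtain ⟨g, hg, hgX⟩ := hR (fun p => a (i.succAbove p)) (fun p _ => ha _ (by simp)) δ hδ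
  rw [← in_ms_rx (i := i)]
  refine ⟨_, hg, ?_⟩
  show (1 : Matrix (Fin k) (Fin k) F) ⊗ₖ (g : Matrix (Idx k t) (Idx k t) F) = _
  rw [hgX, map_add, map_one, map_smul, kronecker_add, one_kronecker_one, kronecker_smul]
  simp only [pS, rx_pm]
  congr 3
  · simp [Fin.succAbove_ne]
  · congr 1
    funext p
    simp [Fin.removeNth]

end CfsgLib.UnitWreathMax
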