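import Mathlib
import Cfsg.Agent.Lib.UnitWreathMax.Scalar

/-!
All products of root elements of the factors generate all transvections of the tensor power.
-/

set_option autoImplicit false
set_option linter.unusedSectionVars false
set_option linter.unusedSimpArgs false

namespace CfsgLib.UnitWreathMax

open Matrix Module
open scoped Kronecker
open CfsgLib.GeomClasses
open CfsgLib.Maximal.TensorPower
open CfsgLib.TensorWreathMax (In Idx split rx rx_pm Ms in_ms_rx pS pl ct ct_pl eq_sum_pl tvec rx_mulVec_tvec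
  pl_add_left pl_smul_left pl_sub_left)

attribute [-simp] Matrix.coe_units_inv

variable {F : Type*} [Field F] {σ : F ≃+* F}

section general

variable {ι : Type} [Fintype ι] [DecidableEq ι] {h : (ι → F) → (ι → F) → F}

theorem adj_mul {X X' Y Y' : Matrix ι ι F} (h1 : Adj h X X') (h2 : Adj h Y Y') : Adj h (X * Y) (Y' * X') := fun x y => by
  rw [← Matrix.mulVec_mulVec, h1, h2, Matrix.mulVec_mulVec]

/-- The Hermitian parts of a span. -/
theorem herm_span (hh : Cfsg.Geo.IsUnitaryForm σ h) {P : Matrix ι ι F → Prop} (h0 : P 0)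
    (hadd : ∀ {X Y}, P X → P Y → P (X + Y)) {s : Set (Matrix ι ι F)}
    (hgen : ∀ Z ∈ s, ∃ Z', Adj h Z Z' ∧ ∀ θ : F, P (θ • Z + σ θ • Z')) {Z : Matrix ι ι F}
    (hZ : Z ∈ Submodule.span F s) : ∃ Z', Adj h Z Z' ∧ ∀ θ : F, P (θ • Z + σ θ • Z') := by
  induction hZ using Submodule.span_induction with
  | mem x hx => exact hgen x hx
  | zero => exact ⟨0, fun x y => by simp [Unit.zero_left hh, Unit.zero_right hh], fun θ => by simpa using h0⟩
  | add x y _ _ hx hy =>
    obtain ⟨x', hx', hxP⟩ := hx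
    obtain ⟨y', hy', hyP⟩ := hy
    refine ⟨x' + y', fun u v => by
      rw [Matrix.add_mulVec, Matrix.add_mulVec, Unit.add_left hh, Unit.add_right hh, hx', hy'], fun θ => ?_⟩
    convert hadd (hxP θ) (hyP θ) using 1
    module
  | smul c x _ hx =>
    obtain ⟨x', hx', hxP⟩ := hx
    refine ⟨σ c • x', fun u v => by
      rw [Matrix.smul_mulVec, Matrix.smul_mulVec, Unit.smul_left hh, Unit.smul_right hh, hh.involutive, hx'], fun θ => ?_⟩
    convert hxP (θ * c) using 1
    rw [map_mul, smul_smul, smul_smul]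

theorem conj_vm_form (hh : Cfsg.Geo.IsUnitaryForm σ h) {g : GL ι F} (hg : Pres h (g : Matrix ι ι F)) (v : ι → F) :
    (g : Matrix ι ι F) * vecMulVec v (fVec h v) * ((g⁻¹ : GL ι F) : Matrix ι ι F) =
      vecMulVec ((g : Matrix ι ι F) *ᵥ v) (fVec h ((g : Matrix ι ι F) *ᵥ v)) := by
  rw [mul_vecMulVec, vecMulVec_mul]
  congr 1
  refine GeomClasses.dot_right_cancel fun x => ?_
  rw [← dotProduct_mulVec, (Unit.sesq hh).fVec_dot, (Unit.sesq hh).fVec_dot]
  conv_rhs => rw [← gl_mulVec_inv_mulVec g x, hg]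

variable [Fintype F]

theorem adj_unique (hh : Cfsg.Geo.IsUnitaryForm σ h) {X Y Y' : Matrix ι ι F} (h1 : Adj h X Y) (h2 : Adj h X Y') :
    Y = Y' := by
  refine Matrix.ext_of_mulVec_single fun i => Unit.fVec_injective hh (GeomClasses.dot_right_cancel fun x => ?_)
  rw [(Unit.sesq hh).fVec_dot, (Unit.sesq hh).fVec_dot, ← h1, h2]

theorem exists_iso_in (hh : Cfsg.Geo.IsUnitaryForm σ h) {X : Submodule F (ι → F)} (h2 : 2 ≤ Module.finrank F X) :
    ∃ v ∈ X, v ≠ 0 ∧ h v v = 0 := by
  obtain ⟨a, ha, ha0⟩ := Submodule.exists_mem_ne_zero_of_ne_bot (p := X) fun h => by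
    rw [h, finrank_bot] at h2; omega
  by_cases haa : h a a = 0
  · exact ⟨a, ha, ha0, haa⟩
  obtain ⟨x, hx, hxa⟩ : ∃ x ∈ X, x ∉ Submodule.span F {a} := by
    by_contra hc
    push Not at hc
    have h1 := Submodule.finrank_mono (show X ≤ Submodule.span F {a} from hc)
    rw [finrank_span_singleton ha0] at h1
    omega
  set b := x - (h x a / h a a) • a with hb
  have hba : h b a = 0 := by rw [hb, Unit.sub_left hh, Unit.smul_left hh, div_mul_cancel₀ _ haa, sub_self]
  have hb0 : b ≠ 0 := fun h' => hxa (Submodule.mem_span_singleton.2 ⟨_, (sub_eq_zero.1 h').symm⟩)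
  have hbX : b ∈ X := X.sub_mem hx (X.smul_mem _ ha)
  by_cases hbb : h b b = 0
  · exact ⟨b, hbX, hb0, hbb⟩
  obtain ⟨t, ht⟩ := Unit.exists_norm hh.ne_refl hh.involutive
    (show σ (- h a a / h b b) = - h a a / h b b by rw [map_div₀, map_neg, Unit.self_fixed hh, Unit.self_fixed hh])
  refine ⟨a + t • b, X.add_mem ha (X.smul_mem _ hbX), fun h' => ?_, ?_⟩
  · have := congrArg (fun z => h z a) h'
    simp only [Unit.add_left hh, Unit.smul_left hh, Unit.zero_left hh, hba, mul_zero, add_zero] at this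
    exact haa this
  · rw [Unit.self_add_smul hh, ht, hba, mul_zero, map_zero, div_mul_cancel₀ _ hbb]
    ring

end general

variable [Fintype F] {k t : ℕ} {f : (Fin k → F) → (Fin k → F) → F}

/-- Anything annihilating all isotropic projections annihilates the short root coefficients. -/
theorem Sp.vm_mem (S : Sp σ f) {W : Submodule F (Matrix (Fin k) (Fin k) F)} (hW : ∀ c, f c c = 0 → pj f c ∈ W)
    {a w : Fin k → F} (hwa : f w a = 0) : vecMulVec w (fVec f a) ∈ W := by
  by_contra hn
  obtain ⟨φ, hφn, hφW⟩ := Submodule.exists_dual_map_eq_bot_of_notMem hn inferInstance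
  have hker : ∀ X ∈ W, φ X = 0 := fun X hX => by
    rw [← Submodule.mem_bot F, ← hφW]
    exact Submodule.mem_map_of_mem hX
  obtain ⟨C, hC⟩ := S.eq_smul_of_iso (fun x y => φ (vecMulVec x (fVec f y)))
    (fun x x' y => by rw [add_vecMulVec, map_add]) (fun c x y => by rw [smul_vecMulVec, map_smul])
    (fun x y y' => by rw [(Unit.sesq S.unit).fVec_add, vecMulVec_add, map_add])
    (fun c x y => by rw [S.fvec_smul, vecMulVec_smul, map_smul]) (fun c hc => hker _ (hW c hc))
  exact hφn (by rw [hC, hwa, zero_smul])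

theorem Sp.span_mul_pj (S : Sp σ f) :
    Submodule.span F {X | ∃ a b, f a a = 0 ∧ f b b = 0 ∧ X = pj f a * pj f b} = ⊤ := by
  set W := Submodule.span F {X | ∃ a b, f a a = 0 ∧ f b b = 0 ∧ X = pj f a * pj f b}
  have hab : ∀ a b, f a a = 0 → f b b = 0 → f b a ≠ 0 → vecMulVec a (fVec f b) ∈ W := fun a b ha hb hba => by
    have h := W.smul_mem (f b a)⁻¹ (Submodule.subset_span ⟨a, b, ha, hb, rfl⟩)
    rwa [pj, pj, S.vm_mul, smul_smul, inv_mul_cancel₀ hba, one_smul] at h
  have ha : ∀ a, f a a = 0 → ∀ x, vecMulVec a (fVec f x) ∈ W := by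
    intro a ha x
    rcases eq_or_ne a 0 with rfl | ha0
    · rw [zero_vecMulVec]; exact W.zero_mem
    obtain ⟨c, hc, hca, hac⟩ := S.exists_partner ha0 ha
    have hsub : ∀ {y z}, vecMulVec a (fVec f y) ∈ W → vecMulVec a (fVec f z) ∈ W →
        vecMulVec a (fVec f (y - z)) ∈ W := fun {y z} hy hz => by
      have e : fVec f (y - z) = fVec f y - fVec f z := eq_sub_of_add_eq (by
        rw [← (Unit.sesq S.unit).fVec_add, sub_add_cancel])
      rw [e, vecMulVec_sub]
      exact W.sub_mem hy hz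
    have hc' := hab a c ha hc (by rw [hca]; exact one_ne_zero)
    obtain ⟨ε, hε0, hε⟩ := Unit.exists_skew S.unit.ne_refl S.invol
    have haa : vecMulVec a (fVec f a) ∈ W := by
      have h1 := hsub (hab a (c + ε • a) ha (by
        rw [Unit.self_add_smul S.unit, hc, ha, hac, mul_one, mul_zero, zero_add, zero_add, hε])
        (by rw [Unit.add_left S.unit, Unit.smul_left S.unit, hca, ha, mul_zero, add_zero]; exact one_ne_zero)) hc'
      rw [add_sub_cancel_left, S.fvec_smul, vecMulVec_smul] at h1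
      have h2 := W.smul_mem (σ ε)⁻¹ h1
      rwa [smul_smul, inv_mul_cancel₀ ((RingEquiv.map_ne_zero_iff σ).2 hε0), one_smul] at h2
    have key : ∀ y, f y a ≠ 0 → vecMulVec a (fVec f y) ∈ W := fun y hy => by
      obtain ⟨l, hl⟩ := Unit.exists_isotropic_add S.unit ha hy
      have h1 := hsub (hab a _ ha hl (by rwa [Unit.add_left S.unit, Unit.smul_left S.unit, ha, mul_zero, add_zero]))
        (show vecMulVec a (fVec f (l • a)) ∈ W by rw [S.fvec_smul, vecMulVec_smul]; exact W.smul_mem _ haa)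
      rwa [add_sub_cancel_right] at h1
    by_cases hx : f x a = 0
    · have h1 := hsub (key (x + c) (by rw [Unit.add_left S.unit, hx, hca, zero_add]; exact one_ne_zero)) hc'
      rwa [add_sub_cancel_right] at h1
    · exact key x hx
  refine eq_top_iff.2 fun X _ => ?_
  induction X using Matrix.induction_on' with
  | h_zero => exact W.zero_mem
  | h_add p q hp hq => exact W.add_mem (hp trivial) (hq trivial)
  | h_std_basis i j c =>
    rw [show Matrix.single i j c = c • Matrix.single i j (1 : F) by simp [Matrix.smul_single],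
      Matrix.single_eq_single_vecMulVec_single]
    obtain ⟨x, hx⟩ := (Finite.injective_iff_surjective.1 (Unit.fVec_injective S.unit))
      (Pi.single j 1 : Fin k → F)
    rw [← hx]
    refine W.smul_mem _ ?_
    let L : (Fin k → F) →ₗ[F] Matrix (Fin k) (Fin k) F :=
      { toFun := fun v => vecMulVec v (fVec f x)
        map_add' := fun u v => add_vecMulVec _ _ _
        map_smul' := fun r v => smul_vecMulVec _ _ _ }
    have htop := Unit.span_isotropic S.unit (W := W.comap L)
      (by rw [Fintype.card_fin]; exact le_trans (by norm_num) S.three_le) fun v hv => ha v hv x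
    exact (htop ▸ Submodule.mem_top : (Pi.single i 1 : Fin k → F) ∈ W.comap L)

theorem span_pm {W : Submodule F (Matrix (Idx k t) (Idx k t) F)} {s : Set (Matrix (Fin k) (Fin k) F)}
    (hs : Submodule.span F s = ⊤) (h : ∀ as : Fin t → Matrix (Fin k) (Fin k) F, (∀ l, as l ∈ s) → pm as ∈ W) :
    W = ⊤ := by
  classical
  have step : ∀ U : Finset (Fin t), ∀ as : Fin t → Matrix (Fin k) (Fin k) F, (∀ l, l ∉ U → as l ∈ s) → pm as ∈ W := by
    intro U
    induction U using Finset.induction with
    | empty => exact fun as hs => h as fun l => hs l (Finset.notMem_empty l)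
    | @insert l U hl ih =>
      intro as has
      let L : Matrix (Fin k) (Fin k) F →ₗ[F] Matrix (Idx k t) (Idx k t) F :=
        (LinearMap.mulLeft F (pm (Function.update as l 1))).comp (slot l)
      have hL : ∀ X, L X = pm (Function.update as l X) := fun X => by
        show pm (Function.update as l 1) * slot l X = _
        rw [slot_apply, pm_mul]
        congr 1
        funext p
        rcases eq_or_ne p l with rfl | hp
        · simp
        · simp [hp]
      have hle : Submodule.span F s ≤ W.comap L := Submodule.span_le.2 fun X hX => by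
        show L X ∈ W
        rw [hL]
        refine ih _ fun p hp => ?_
        rcases eq_or_ne p l with rfl | hpl
        · rwa [Function.update_self]
        · rw [Function.update_of_ne hpl]
          exact has p (by simp [hpl, hp])
      rw [hs] at hle
      have h1 : L (as l) ∈ W := hle trivial
      rwa [hL, Function.update_eq_self] at h1
  refine eq_top_iff.2 fun X _ => ?_
  induction X using Matrix.induction_on' with
  | h_zero => exact W.zero_mem
  | h_add p q hp hq => exact W.add_mem (hp trivial) (hq trivial)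
  | h_std_basis a b c =>
    have e : Matrix.single a b c = c • pm (fun i => Matrix.single (a i) (b i) (1 : F)) := by
      ext x y
      rw [Matrix.smul_apply, pm]
      rcases eq_or_ne x a with rfl | hx
      · rcases eq_or_ne y b with rfl | hy
        · simp
        · obtain ⟨i, hi⟩ := Function.ne_iff.1 hy
          rw [Matrix.single_apply_of_col_ne _ _ (Ne.symm hy), Finset.prod_eq_zero (Finset.mem_univ i) (by
            simp [Matrix.single, Ne.symm hi]), smul_zero]
      · obtain ⟨i, hi⟩ := Function.ne_iff.1 hx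
        rw [Matrix.single_apply_of_row_ne (Ne.symm hx), Finset.prod_eq_zero (Finset.mem_univ i) (by
          simp [Matrix.single, Ne.symm hi]), smul_zero]
    rw [e]
    exact W.smul_mem _ (step Finset.univ _ fun l hl => absurd (Finset.mem_univ l) hl)

set_option maxHeartbeats 800000 in
/-- All self-adjoint matrices are coefficients. -/
theorem Full.good_of_adj (ht : 1 ≤ t) {M : Subgroup (GL (Idx k (t + 1)) F)} (hF : Full σ f M)
    (hR : RootsOn σ f M Finset.univ) (i : Fin (t + 1)) {Y : Matrix (Idx k t) (Idx k t) F}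
    (hY : Adj (fog σ (Gm f t)) Y Y) : Good σ f (Ms i M) Y := by
  classical
  have S := hF.sp
  have hu := S.unit
  have G := hF.grp i
  obtain ⟨p₀⟩ : Nonempty (Fin t) := ⟨⟨0, ht⟩⟩
  -- short root elements with product coefficients
  have hT : ∀ a, f a a = 0 → ∀ w, f w a = 0 → ∀ cs : Fin t → Fin k → F, (∀ l, f (cs l) (cs l) = 0) → ∀ l : F,
      In (Ms i M) (1 + (l • vecMulVec w (fVec f a) - σ l • vecMulVec a (fVec f w)) ⊗ₖ pm fun p => pj f (cs p)) := by
    intro a ha w hwa cs hcs l
    obtain ⟨δ, hδ0, hδ⟩ := Unit.exists_skew hu.ne_refl S.invol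
    let P : Matrix (Fin k) (Fin k) F → Prop := fun X =>
      In (Ms i M) (1 + δ • (X ⊗ₖ pm fun p => pj f (cs p)))
    have hmul : ∀ X X' : Matrix (Fin k) (Fin k) F, (δ • (X ⊗ₖ pm fun p => pj f (cs p))) * (δ • (X' ⊗ₖ pm fun p => pj f (cs p))) = 0 := fun X X' => by
      rw [smul_mul_smul_comm, ← Matrix.mul_kronecker_mul, pm_mul,
        CfsgLib.TensorWreathMax.pm_eq_zero_of (j := p₀) (S.pj_mul_self (hcs p₀)), kronecker_zero, smul_zero]
    have hgen : ∀ X ∈ {X | ∃ c, f c c = 0 ∧ X = pj f c}, ∃ X', Adj f X X' ∧ ∀ θ : F, P (θ • X + σ θ • X') := by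
      rintro X ⟨c, hc, rfl⟩
      refine ⟨pj f c, S.pj_adj c, fun θ => ?_⟩
      have hs : σ (θ + σ θ) = θ + σ θ := by rw [map_add, S.invol, add_comm]
      have h1 := hR (i.insertNth c cs) (fun q _ => by
        rcases Fin.eq_self_or_eq_succAbove i q with rfl | ⟨q, rfl⟩
        · simpa using hc
        · simpa using hcs q) (δ * (θ + σ θ)) (by rw [map_mul, hs, ← add_mul, hδ, zero_mul])
      rw [← in_ms_rx (i := i), map_add, map_one, map_smul, pS, rx_pm] at h1
      show In (Ms i M) _
      convert h1 using 2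
      rw [← add_smul, smul_kronecker, smul_smul]
      congr 2
      · simp
      · congr 1
        funext q
        simp [Fin.removeNth]
    obtain ⟨X', hX', hP⟩ := herm_span hu (P := P) (by simp only [P, zero_kronecker, smul_zero, add_zero]; exact In.one)
      (fun {X X'} hX hX' => by
        simp only [P, add_kronecker, smul_add]
        exact In.add (hmul X X') hX hX') hgen
      (S.vm_mem (W := Submodule.span F {X | ∃ c, f c c = 0 ∧ X = pj f c}) (fun c hc => Submodule.subset_span ⟨c, hc, rfl⟩) hwa)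
    rw [adj_unique hu hX' (S.adj_vm w a)] at hP
    have h1 := hP (l / δ)
    simp only [P] at h1
    convert h1 using 2
    rw [map_div₀, eq_neg_of_add_eq_zero_right hδ, div_neg, neg_smul, ← sub_eq_add_neg, ← smul_kronecker, smul_sub,
      smul_smul, smul_smul, mul_div_cancel₀ _ hδ0, mul_div_cancel₀ _ hδ0]
  -- products of two products of projections
  have hprod : ∀ cs ds : Fin t → Fin k → F, (∀ l, f (cs l) (cs l) = 0) → (∀ l, f (ds l) (ds l) = 0) → ∀ θ : F,
      Good σ f (Ms i M) (θ • ((pm fun p => pj f (cs p)) * pm fun p => pj f (ds p)) +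
        σ θ • ((pm fun p => pj f (ds p)) * pm fun p => pj f (cs p))) := by
    intro cs ds hcs hds θ
    obtain ⟨a, ha0, ha⟩ := S.exists_iso
    obtain ⟨w, hwa, hww⟩ := S.exists_aniso a ha
    obtain ⟨δ, hδ0, hδ⟩ := Unit.exists_skew hu.ne_refl S.invol
    set Y₁ := pm fun p => pj f (cs p)
    set Y₂ := pm fun p => pj f (ds p)
    set l := σ (-(δ * θ) / f w w)
    have hσl : σ l * f w w = -(δ * θ) := by rw [S.invol, div_mul_cancel₀ _ hww]
    have hll : l * f w w = δ * σ θ := by
      simp only [l, map_div₀, map_neg, map_mul, eq_neg_of_add_eq_zero_right hδ, Unit.self_fixed hu]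
      field_simp
    have hA := hT a ha w hwa cs hcs l
    have hB := hT a ha w hwa ds hds 1
    rw [map_one, one_smul, one_smul] at hB
    have haw := Unit.eq_zero_comm hu hwa
    have m11 : vecMulVec w (fVec f a) * vecMulVec w (fVec f a) = 0 := by rw [S.vm_mul, hwa, zero_smul]
    have m12 : vecMulVec w (fVec f a) * vecMulVec a (fVec f w) = 0 := by rw [S.vm_mul, ha, zero_smul]
    have m22 : vecMulVec a (fVec f w) * vecMulVec a (fVec f w) = 0 := by rw [S.vm_mul, haw, zero_smul]
    have m21 : vecMulVec a (fVec f w) * vecMulVec w (fVec f a) = f w w • pj f a := S.vm_mul a w w a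
    set W := l • vecMulVec w (fVec f a) - σ l • vecMulVec a (fVec f w)
    set W' := vecMulVec w (fVec f a) - vecMulVec a (fVec f w)
    have hWW' : W * W' = (-(σ l * f w w)) • pj f a := by
      simp only [W, W', sub_mul, mul_sub, smul_mul_assoc, m11, m12, m22, m21, smul_zero, sub_zero, zero_sub, smul_smul,
        neg_smul]
    have hW'W : W' * W = (-(l * f w w)) • pj f a := by
      simp only [W, W', sub_mul, mul_sub, mul_smul_comm, m11, m12, m22, m21, smul_zero, sub_zero, zero_sub, smul_neg,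
        smul_smul, neg_smul]
    have hPW : pj f a * W = 0 := by
      simp only [W, mul_sub, mul_smul_comm, pj, S.vm_mul, hwa, ha, zero_smul, smul_zero, sub_zero]
    have hPW' : pj f a * W' = 0 := by
      simp only [W', mul_sub, pj, S.vm_mul, hwa, ha, zero_smul, sub_zero]
    have e : W ⊗ₖ Y₁ * W' ⊗ₖ Y₂ - W' ⊗ₖ Y₂ * W ⊗ₖ Y₁ = δ • (pj f a ⊗ₖ (θ • (Y₁ * Y₂) + σ θ • (Y₂ * Y₁))) := by
      rw [← Matrix.mul_kronecker_mul, ← Matrix.mul_kronecker_mul, hWW', hW'W, hσl, hll, neg_neg, smul_kronecker,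
        smul_kronecker, kronecker_add, kronecker_smul, kronecker_smul, smul_add, smul_smul, smul_smul, neg_smul,
        sub_neg_eq_add]
    have h := in_comm hA hB
      (by rw [e, smul_mul_assoc, ← Matrix.mul_kronecker_mul, hPW, zero_kronecker, smul_zero])
      (by rw [e, smul_mul_assoc, ← Matrix.mul_kronecker_mul, hPW', zero_kronecker, smul_zero])
    rw [e] at h
    exact G.good_of_one ha0 ha hδ0 hδ h
  let gs : Set (Matrix (Idx k t) (Idx k t) F) := {Z | ∃ cs ds : Fin t → Fin k → F, (∀ l, f (cs l) (cs l) = 0) ∧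
    (∀ l, f (ds l) (ds l) = 0) ∧ Z = (pm fun p => pj f (cs p)) * pm fun p => pj f (ds p)}
  have htop : Submodule.span F gs = ⊤ := span_pm S.span_mul_pj fun as has => by
    choose cs ds hcs hds hx using has
    rw [show as = fun l => pj f (cs l) * pj f (ds l) from funext hx, ← pm_mul]
    exact Submodule.subset_span ⟨cs, ds, hcs, hds, rfl⟩
  have hadj : ∀ cs : Fin t → Fin k → F,
      Adj (fog σ (Gm f t)) (pm fun p => pj f (cs p)) (pm fun p => pj f (cs p)) := fun cs =>
    S.adj_pm fun l => S.pj_adj (cs l)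
  obtain ⟨Y', hY', hP⟩ := herm_span G.unitary (P := Good σ f (Ms i M))
    (fun a _ δ _ => by rw [kronecker_zero, smul_zero, add_zero]; exact In.one) G.good_add
    (s := gs) (fun Z ⟨cs, ds, hcs, hds, hZ⟩ => by
      subst hZ
      exact ⟨_, adj_mul (hadj cs) (hadj ds), hprod cs ds hcs hds⟩)
    (Z := Y) (htop ▸ Submodule.mem_top)
  rw [adj_unique G.unitary hY' hY] at hP
  obtain ⟨θ, hθ⟩ := Unit.exists_trace hu.ne_refl S.invol (b := (1 : F)) (map_one σ)
  have h := hP θ
  rwa [← add_smul, hθ, one_smul] at h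

/-! ### Transvections of the product -/

namespace Grp

variable {μ : Type} [Fintype μ] [DecidableEq μ] {G : Matrix μ μ F} {M : Subgroup (GL (Fin k × μ) F)}

/-- All transvections at a vector. -/
def Tv (σ : F ≃+* F) (f : (Fin k → F) → (Fin k → F) → F) (G : Matrix μ μ F) (M : Subgroup (GL (Fin k × μ) F))
    (v : Fin k × μ → F) : Prop :=
  ∀ δ : F, δ + σ δ = 0 → In M (1 + δ • vecMulVec v (fVec (hp σ f G) v))

variable (S : Grp σ f G M)
include S

theorem tv_move {g : GL (Fin k × μ) F} (hg : g ∈ M) {v : Fin k × μ → F}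
    (h : Tv σ f G M ((g : Matrix (Fin k × μ) (Fin k × μ) F) *ᵥ v)) : Tv σ f G M v := fun δ hδ => by
  have h1 := In.conj (M.inv_mem hg) (h δ hδ)
  rw [mul_smul_comm, smul_mul_assoc, conj_vm_form S.hp_unitary (S.iso _ (M.inv_mem hg)), gl_inv_mulVec_mulVec] at h1
  exact h1

theorem exists_adj {r u : μ → F} (hr : r ≠ 0) (h : σ (fog σ G u r) = fog σ G u r) :
    ∃ Y : Matrix μ μ F, Adj (fog σ G) Y Y ∧ Y *ᵥ r = u := by
  have hg := S.unitary
  obtain ⟨y, hy⟩ : ∃ y, fog σ G r y = 1 := by
    obtain ⟨y, hy⟩ := (hg.nondegenerate r hr).2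
    exact ⟨σ (fog σ G r y)⁻¹ • y, by rw [Unit.smul_right hg, S.sp.invol, inv_mul_cancel₀ hy]⟩
  refine ⟨vecMulVec u (fVec (fog σ G) y) + vecMulVec y (fVec (fog σ G) u) -
    fog σ G r u • vecMulVec y (fVec (fog σ G) y), fun x z => ?_, ?_⟩
  · simp only [Matrix.sub_mulVec, Matrix.add_mulVec, Matrix.smul_mulVec, vecMulVec_mulVec, op_smul_eq_smul,
      (Unit.sesq hg).fVec_dot, Unit.sub_left hg, Unit.sub_right hg, Unit.add_left hg, Unit.add_right hg,
      Unit.smul_left hg, Unit.smul_right hg, map_mul, Unit.conj_form hg]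
    rw [show fog σ G u r = fog σ G r u by rw [← h, Unit.conj_form hg]]
    ring
  · simp only [Matrix.sub_mulVec, Matrix.add_mulVec, Matrix.smul_mulVec, vecMulVec_mulVec, op_smul_eq_smul,
      (Unit.sesq hg).fVec_dot, hy, one_smul, add_sub_cancel_right]

/-- Changing one coordinate in a hyperbolic plane. -/
theorem plane_step (hall : ∀ Y, Adj (fog σ G) Y Y → Good σ f M Y) {a b : Fin k → F} (ha : f a a = 0)
    (hba : f b a = 1) {p p' r : μ → F} (hr : r ≠ 0) (h : fog σ G (p' - p) r + σ (fog σ G (p' - p) r) = 0)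
    {R : Fin k × μ → F} (hR : ct (fVec f a) R = 0) :
    ∃ g ∈ M, (g : Matrix (Fin k × μ) (Fin k × μ) F) *ᵥ (pl a p + pl b r + R) = pl a p' + pl b r + R := by
  obtain ⟨δ, hδ0, hδ⟩ := Unit.exists_skew S.sp.unit.ne_refl S.sp.invol
  obtain ⟨Y, hY, hYr⟩ := S.exists_adj hr (u := δ⁻¹ • (p' - p)) (by
    rw [Unit.smul_left S.unitary, map_mul, map_inv₀, eq_neg_of_add_eq_zero_right h,
      eq_neg_of_add_eq_zero_right hδ, inv_neg, neg_mul_neg])
  obtain ⟨g, hg, hgX⟩ := hall Y hY a ha δ hδ
  refine ⟨g, hg, ?_⟩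
  rw [hgX, Matrix.add_mulVec, Matrix.one_mulVec, Matrix.smul_mulVec, S.kron_pj_mulVec, map_add, map_add, ct_pl, ct_pl,
    S.sp.fdot, S.sp.fdot, ha, hba, hR, zero_smul, one_smul, zero_add, add_zero, hYr, map_smul, smul_smul,
    mul_inv_cancel₀ hδ0, one_smul, map_sub]
  abel

theorem vm_pl (a : Fin k → F) (u : μ → F) :
    vecMulVec (pl a u) (fVec (hp σ f G) (pl a u)) = pj f a ⊗ₖ vecMulVec u (fVec (fog σ G) u) := by
  refine Matrix.ext_of_mulVec_single fun i => ?_
  rw [vecMulVec_mulVec, op_smul_eq_smul, (Unit.sesq S.hp_unitary).fVec_dot, S.kron_pj_mulVec, vecMulVec_mulVec,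
    op_smul_eq_smul, (Unit.sesq S.unitary).fVec_dot, map_smul, S.adj]

theorem tv_pl (hall : ∀ Y, Adj (fog σ G) Y Y → Good σ f M Y) {a : Fin k → F} (ha : f a a = 0) (u : μ → F) :
    Tv σ f G M (pl a u) := fun δ hδ => by
  rw [S.vm_pl]
  refine hall _ (fun x y => ?_) a ha δ hδ
  rw [vecMulVec_mulVec, vecMulVec_mulVec, op_smul_eq_smul, op_smul_eq_smul, (Unit.sesq S.unitary).fVec_dot,
    (Unit.sesq S.unitary).fVec_dot, Unit.smul_left S.unitary, Unit.smul_right S.unitary, Unit.conj_form S.unitary,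
    mul_comm]

theorem hp_plane {a b : Fin k → F} (ha : f a a = 0) (hb : f b b = 0) (hba : f b a = 1) (p r : μ → F) :
    hp σ f G (pl a p + pl b r) (pl a p + pl b r) = fog σ G p r + σ (fog σ G p r) := by
  rw [Unit.add_left S.hp_unitary, Unit.add_right S.hp_unitary, Unit.add_right S.hp_unitary, S.hp_pl, S.hp_pl, S.hp_pl,
    S.hp_pl, ha, hb, hba, show f a b = 1 by rw [← Unit.conj_form S.sp.unit, hba, map_one],
    Unit.conj_form S.unitary]
  ring

/-- An isotropic vector of a hyperbolic plane times the right factor. -/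
theorem tv_plane (hall : ∀ Y, Adj (fog σ G) Y Y → Good σ f M Y) {a b : Fin k → F} (ha : f a a = 0) (hb : f b b = 0)
    (hba : f b a = 1) (p r : μ → F) (h : hp σ f G (pl a p + pl b r) (pl a p + pl b r) = 0) :
    Tv σ f G M (pl a p + pl b r) := by
  rcases eq_or_ne r 0 with rfl | hr
  · rw [map_zero, add_zero]
    exact S.tv_pl hall ha p
  rw [S.hp_plane ha hb hba] at h
  obtain ⟨g, hg, hgv⟩ := S.plane_step hall ha hba hr (p := p) (p' := 0) (R := 0)
    (by rw [zero_sub, (Unit.sesq S.unitary).neg_left, map_neg, ← neg_add, h, neg_zero]) (map_zero _)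
  simp only [add_zero, map_zero, zero_add] at hgv
  refine S.tv_move hg ?_
  rw [hgv]
  exact S.tv_pl hall hb r

/-- A vector of a hyperbolic plane times the right factor is moved to a pure vector with anisotropic factor. -/
theorem compress (h3 : 3 ≤ Fintype.card μ) (hall : ∀ Y, Adj (fog σ G) Y Y → Good σ f M Y) {a b : Fin k → F}
    (ha : f a a = 0) (hb : f b b = 0) (hba : f b a = 1) (p r : μ → F) :
    ∃ (α β : F) (w : μ → F), f (α • a + β • b) (α • a + β • b) ≠ 0 ∧
      ∀ R : Fin k × μ → F, ct (fVec f a) R = 0 → ct (fVec f b) R = 0 →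
        ∃ g ∈ M, (g : Matrix (Fin k × μ) (Fin k × μ) F) *ᵥ (pl a p + pl b r + R) =
          pl (α • a + β • b) w + R := by
  classical
  have hg := S.unitary
  have hu := S.sp.unit
  have hab : f a b = 1 := by rw [← Unit.conj_form hu, hba, map_one]
  have hee : ∀ l : F, f (l • a + (1 : F) • b) (l • a + (1 : F) • b) = l + σ l := fun l => by
    rw [one_smul, Unit.add_left hu, Unit.add_right hu, Unit.add_right hu, Unit.smul_left hu, Unit.smul_left hu,
      Unit.smul_right hu, Unit.smul_right hu, ha, hb, hab, hba]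
    ring
  obtain ⟨e, he⟩ := Unit.exists_trace_ne_zero hu.ne_refl
  have stepA : ∀ {p p' r : μ → F}, r ≠ 0 → fog σ G (p' - p) r + σ (fog σ G (p' - p) r) = 0 →
      ∀ R : Fin k × μ → F, ct (fVec f a) R = 0 → ct (fVec f b) R = 0 →
        ∃ g ∈ M, (g : Matrix (Fin k × μ) (Fin k × μ) F) *ᵥ (pl a p + pl b r + R) = pl a p' + pl b r + R :=
    fun hr h R h1 _ => S.plane_step hall ha hba hr h h1
  have stepB : ∀ {r r' p : μ → F}, p ≠ 0 → fog σ G (r' - r) p + σ (fog σ G (r' - r) p) = 0 →
      ∀ R : Fin k × μ → F, ct (fVec f a) R = 0 → ct (fVec f b) R = 0 →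
        ∃ g ∈ M, (g : Matrix (Fin k × μ) (Fin k × μ) F) *ᵥ (pl a p + pl b r + R) = pl a p + pl b r' + R := by
    intro r r' p hp h R _ h2
    obtain ⟨g, hg, hgv⟩ := S.plane_step hall hb hab hp h h2
    exact ⟨g, hg, by rw [add_comm (pl a p), hgv, add_comm (pl b r')]⟩
  have hperp : ∀ {p : μ → F}, p ≠ 0 → ∃ r', r' ≠ 0 ∧ fog σ G r' r' = 0 ∧ fog σ G r' p = 0 := fun {p} hp => by
    obtain ⟨r', hr', hr'0, hr'r'⟩ := exists_iso_in hg (X := Unit.perp hg (Submodule.span F {p})) (by
      have := Unit.finrank_perp hg (Submodule.span F {p})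
      rw [finrank_span_singleton hp] at this
      omega)
    exact ⟨r', hr'0, hr'r', (Unit.mem_perp hg).1 hr' p (Submodule.mem_span_singleton_self p)⟩
  have htrans : ∀ {u v w : Fin k × μ → F}, (∃ g ∈ M, (g : Matrix (Fin k × μ) (Fin k × μ) F) *ᵥ u = v) →
      (∃ g ∈ M, (g : Matrix (Fin k × μ) (Fin k × μ) F) *ᵥ v = w) →
      ∃ g ∈ M, (g : Matrix (Fin k × μ) (Fin k × μ) F) *ᵥ u = w := by
    rintro u v w ⟨g, hg, hgu⟩ ⟨g', hg', hgv⟩
    exact ⟨g' * g, M.mul_mem hg' hg, by rw [gl_mul_mulVec, hgu, hgv]⟩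
  have hpl : ∀ (l : F) (r : μ → F), pl a (l • r) + pl b r = pl (l • a + (1 : F) • b) r := fun l r => by
    rw [pl_add_left, pl_smul_left, pl_smul_left, one_smul, map_smul]
  by_cases hN : fog σ G p r + σ (fog σ G p r) = 0
  swap
  · -- the vector is anisotropic
    have hpr : fog σ G p r ≠ 0 := fun h => hN (by rw [h, map_zero, add_zero])
    have hrp := Unit.ne_zero_comm hg hpr
    have hp0 : p ≠ 0 := fun h => hpr (by rw [h, Unit.zero_left hg])
    obtain ⟨r', hr', hN'⟩ : ∃ r', fog σ G r' r' ≠ 0 ∧ fog σ G (r' - r) p + σ (fog σ G (r' - r) p) = 0 := by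
      by_cases hrr : fog σ G r r = 0
      swap
      · exact ⟨r, hrr, by simp [Unit.zero_left hg]⟩
      by_contra hcon
      push Not at hcon
      set X := Submodule.span F (↑({p, r} : Finset (μ → F)) : Set (μ → F))
      have hiso : ∀ z ∈ Unit.perp hg X, fog σ G z z = 0 := by
        intro z hz
        rw [Unit.mem_perp hg] at hz
        have hzp := hz p (Submodule.subset_span (by simp))
        have hzr := hz r (Submodule.subset_span (by simp))
        by_contra hzz
        refine hcon (r + z) ?_ (by rw [add_sub_cancel_left, hzp, map_zero, add_zero])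
        rwa [Unit.add_left hg, Unit.add_right hg, Unit.add_right hg, hrr, hzr, Unit.eq_zero_comm hg hzr, zero_add,
          zero_add, zero_add]
      have h1 := Unit.le_perp_of_isotropic hg hiso
      rw [Unit.perp_perp hg X] at h1
      have h2 : Unit.perp hg X = ⊥ := (Submodule.eq_bot_iff _).2 fun x hx => by
        have hxX := h1 hx
        simp only [X, Finset.coe_pair, Submodule.mem_span_pair] at hxX
        obtain ⟨α, β, rfl⟩ := hxX
        rw [Unit.mem_perp hg] at hx
        have e1 := hx r (Submodule.subset_span (by simp))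
        rw [Unit.add_left hg, Unit.smul_left hg, Unit.smul_left hg, hrr, mul_zero, add_zero, mul_eq_zero] at e1
        have e2 := hx p (Submodule.subset_span (by simp))
        rw [e1.resolve_right hpr, zero_smul, zero_add, Unit.smul_left hg, mul_eq_zero] at e2
        rw [e1.resolve_right hpr, e2.resolve_right hrp, zero_smul, zero_smul, add_zero]
      have h3' := Unit.finrank_perp hg X
      have h4 : Module.finrank F X ≤ 2 := (finrank_span_finset_le_card (R := F) _).trans Finset.card_le_two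
      rw [h2, finrank_bot] at h3'
      omega
    have hr'0 : r' ≠ 0 := fun h => hr' (by rw [h, Unit.zero_left hg])
    set N := fog σ G p r + σ (fog σ G p r) with hNdef
    have hNσ : σ N = N := by rw [hNdef, map_add, S.sp.invol, add_comm]
    obtain ⟨l, hl⟩ := Unit.exists_trace hu.ne_refl S.sp.invol (b := N / fog σ G r' r')
      (by rw [map_div₀, hNσ, Unit.self_fixed hg])
    refine ⟨l, 1, r', by rw [hee, hl]; exact div_ne_zero hN hr', fun R h1 h2 => ?_⟩
    rw [← hpl]
    refine htrans (stepB hp0 hN' R h1 h2) (stepA hr'0 ?_ R h1 h2)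
    rw [Unit.sub_left hg, Unit.smul_left hg, map_sub, map_mul, Unit.self_fixed hg]
    rw [Unit.sub_left hg, map_sub, Unit.conj_form hg, Unit.conj_form hg] at hN'
    rw [hNdef, eq_div_iff hr', Unit.conj_form hg] at hl
    rw [Unit.conj_form hg]
    linear_combination hl - hN'
  by_cases h0 : p = 0 ∧ r = 0
  · refine ⟨e, 1, 0, by rw [hee]; exact he, fun R _ _ => ⟨1, M.one_mem, ?_⟩⟩
    rw [h0.1, h0.2, Units.val_one, Matrix.one_mulVec]
    simp
  obtain ⟨p₁, hp₁, hN₁, hmove⟩ : ∃ p₁, p₁ ≠ 0 ∧ fog σ G p₁ r + σ (fog σ G p₁ r) = 0 ∧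
      ∀ R : Fin k × μ → F, ct (fVec f a) R = 0 → ct (fVec f b) R = 0 →
        ∃ g ∈ M, (g : Matrix (Fin k × μ) (Fin k × μ) F) *ᵥ (pl a p + pl b r + R) = pl a p₁ + pl b r + R := by
    rcases eq_or_ne p 0 with rfl | hp
    · have hr : r ≠ 0 := fun h => h0 ⟨rfl, h⟩
      obtain ⟨p₁, hp₁, -, hp₁r⟩ := hperp hr
      exact ⟨p₁, hp₁, by simp [hp₁r], stepA hr (by simp [hp₁r])⟩
    · exact ⟨p, hp, hN, fun R _ _ => ⟨1, M.one_mem, by rw [Units.val_one, Matrix.one_mulVec]⟩⟩
  obtain ⟨r', hr'0, hr'r', hr'p⟩ := hperp hp₁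
  refine ⟨e, 1, r', by rw [hee]; exact he, fun R h1 h2 => ?_⟩
  rw [← hpl]
  refine htrans (hmove R h1 h2) (htrans (stepB hp₁ ?_ R h1 h2) (stepA hr'0 ?_ R h1 h2))
  · rw [Unit.sub_left hg, hr'p, zero_sub, map_neg, ← Unit.conj_form hg p₁ r, S.sp.invol, ← neg_add]
    rw [neg_eq_zero, add_comm]
    exact hN₁
  · rw [Unit.sub_left hg, Unit.smul_left hg, hr'r', mul_zero, Unit.eq_zero_comm hg hr'p, sub_zero, map_zero, add_zero]

/-- All transvections. -/
theorem tv_all (h3 : 3 ≤ Fintype.card μ) (hall : ∀ Y, Adj (fog σ G) Y Y → Good σ f M Y) (v : Fin k × μ → F)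
    (hv : hp σ f G v v = 0) : Tv σ f G M v := by
  classical
  have hu := S.sp.unit
  suffices key : ∀ n, ∀ s : Finset (Fin k), s.card = n → 2 ≤ n → ∀ (e : Fin k → Fin k → F) (u : Fin k → μ → F),
      (∀ l ∈ s, f (e l) (e l) ≠ 0) → (∀ l ∈ s, ∀ q ∈ s, l ≠ q → f (e l) (e q) = 0) →
      hp σ f G (∑ l ∈ s, pl (e l) (u l)) (∑ l ∈ s, pl (e l) (u l)) = 0 → Tv σ f G M (∑ l ∈ s, pl (e l) (u l)) by
    obtain ⟨z, hz, hzx⟩ := S.sp.exists_basis
    have e : v = ∑ l, pl (z l) (ct (fVec f (z l)) v) := by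
      conv_lhs => rw [eq_sum_pl v]
      simp only [ct_eq_sum (fVec f _) v, map_sum, map_smul]
      rw [Finset.sum_comm]
      refine Finset.sum_congr rfl fun r _ => ?_
      nth_rw 1 [hzx (Pi.single r 1)]
      ext ⟨p, x⟩
      simp [pl, Finset.sum_apply, Finset.sum_mul, fVec, mul_assoc]
    rw [e]
    refine key _ Finset.univ rfl (by rw [Finset.card_univ, Fintype.card_fin]; exact le_trans (by norm_num) S.sp.three_le)
      z _ (fun l _ => by rw [hz, if_pos rfl]; exact one_ne_zero) (fun l _ q _ h => by rw [hz, if_neg h]) (e ▸ hv)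
  intro n
  induction n using Nat.strong_induction_on with
  | _ n ih =>
    intro s hs h2 e u hd ho hv
    obtain ⟨l, hl, m, hm, hlm⟩ := Finset.one_lt_card.1 (show 1 < s.card by omega)
    obtain ⟨x, hx⟩ := S.sp.exists_norm (b := - f (e l) (e l) / f (e m) (e m))
      (by rw [map_div₀, map_neg, Unit.self_fixed hu, Unit.self_fixed hu])
    have hx0 : x ≠ 0 := fun h => by
      rw [h, zero_mul, eq_comm, div_eq_zero_iff, neg_eq_zero] at hx
      exact hx.elim (hd l hl) (hd m hm)
    set d := f (e l) (e l)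
    set a := e l + x • e m with hadef
    have ha : f a a = 0 := by
      rw [hadef, Unit.self_add_smul hu, hx, ho m hm l hl hlm.symm, mul_zero, map_zero,
        div_mul_cancel₀ _ (hd m hm)]
      ring
    have hla : f (d⁻¹ • e l) a = 1 := by
      rw [Unit.smul_left hu, hadef, Unit.add_right hu, Unit.smul_right hu, ho l hl m hm hlm, mul_zero, add_zero,
        inv_mul_cancel₀ (hd l hl)]
    obtain ⟨c, hb⟩ := Unit.exists_isotropic_add hu ha (x := d⁻¹ • e l) (by rw [hla]; exact one_ne_zero)
    set b := d⁻¹ • e l + c • a with hbdef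
    have hba : f b a = 1 := by rw [hbdef, Unit.add_left hu, Unit.smul_left hu c, hla, ha, mul_zero, add_zero]
    have hel : e l = d • b - (d * c) • a := by
      rw [hbdef, smul_add, smul_smul, smul_smul, mul_inv_cancel₀ (hd l hl), one_smul, add_sub_cancel_right]
    have hem : e m = x⁻¹ • (a - e l) := by
      rw [hadef, add_sub_cancel_left, smul_smul, inv_mul_cancel₀ hx0, one_smul]
    set p := -(d * c) • u l + (x⁻¹ * (1 + d * c)) • u m
    set r := d • u l - (x⁻¹ * d) • u m
    set R := ∑ q ∈ (s.erase l).erase m, pl (e q) (u q) with hRdef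
    have hsum : ∑ q ∈ s, pl (e q) (u q) = pl a p + pl b r + R := by
      rw [← Finset.add_sum_erase s _ hl, ← Finset.add_sum_erase (s.erase l) _ (Finset.mem_erase.2 ⟨hlm.symm, hm⟩),
        ← add_assoc]
      congr 1
      rw [hem, hel]
      simp only [p, r, pl_smul_left, pl_sub_left, map_add, map_sub, map_smul]
      module
    have hRq : ∀ y, (∃ α β : F, y = α • e l + β • e m) → ct (fVec f y) R = 0 := by
      rintro y ⟨α, β, rfl⟩
      rw [map_sum]
      refine Finset.sum_eq_zero fun q hq => ?_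
      simp only [Finset.mem_erase] at hq
      rw [ct_pl, S.sp.fdot, Unit.add_right hu, Unit.smul_right hu, Unit.smul_right hu, ho q hq.2.2 l hl hq.2.1,
        ho q hq.2.2 m hm hq.1, mul_zero, mul_zero, add_zero, zero_smul]
    have hRa : ct (fVec f a) R = 0 := hRq a ⟨1, x, by rw [hadef, one_smul]⟩
    have hRb : ct (fVec f b) R = 0 := hRq b ⟨d⁻¹ + c, c * x, by rw [hbdef, hadef]; module⟩
    rw [hsum] at hv ⊢
    rcases Nat.lt_or_ge 2 n with hn | hn
    swap
    · have hR0 : R = 0 := by
        rw [hRdef]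
        refine Finset.sum_eq_zero fun q hq => absurd hq ?_
        have : ((s.erase l).erase m).card = 0 := by
          rw [Finset.card_erase_of_mem (Finset.mem_erase.2 ⟨hlm.symm, hm⟩), Finset.card_erase_of_mem hl]
          omega
        rw [Finset.card_eq_zero.1 this]
        exact Finset.notMem_empty q
      rw [hR0, add_zero] at hv ⊢
      exact S.tv_plane hall ha hb hba p r hv
    obtain ⟨α, β, w, hne, hmv⟩ := S.compress h3 hall ha hb hba p r
    obtain ⟨g, hg, hgv⟩ := hmv R hRa hRb
    refine S.tv_move hg ?_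
    rw [hgv]
    set e' := Function.update e l (α • a + β • b)
    set u' := Function.update u l w
    have hsum' : ∑ q ∈ s.erase m, pl (e' q) (u' q) = pl (α • a + β • b) w + R := by
      rw [← Finset.add_sum_erase (s.erase m) _ (Finset.mem_erase.2 ⟨hlm, hl⟩), Finset.erase_right_comm, hRdef]
      congr 1
      · simp [e', u']
      · refine Finset.sum_congr rfl fun q hq => ?_
        simp only [Finset.mem_erase] at hq
        simp [e', u', hq.2.1]
    have horth : ∀ q ∈ s.erase m, q ≠ l → f (α • a + β • b) (e q) = 0 := fun q hq hql => by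
      obtain ⟨hqm, hq⟩ := Finset.mem_erase.1 hq
      simp only [hbdef, hadef, Unit.add_left hu, Unit.smul_left hu, ho l hl q hq (Ne.symm hql),
        ho m hm q hq (Ne.symm hqm), mul_zero, add_zero]
    rw [← hsum']
    refine ih (n - 1) (by omega) (s.erase m) (by rw [Finset.card_erase_of_mem hm, hs]) (by omega) e' u'
      (fun q hq => ?_) (fun q hq q' hq' hne' => ?_) ?_
    · rcases eq_or_ne q l with rfl | hql
      · simpa [e'] using hne
      · simpa [e', hql] using hd q (Finset.mem_erase.1 hq).2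
    · rcases eq_or_ne q l with rfl | hql
      · simpa [e', hne'.symm] using horth q' hq' hne'.symm
      · rcases eq_or_ne q' l with rfl | hql'
        · simpa [e', hql] using Unit.eq_zero_comm hu (horth q hq hql)
        · simpa [e', hql, hql'] using ho q (Finset.mem_erase.1 hq).2 q' (Finset.mem_erase.1 hq').2 hne'
    · rw [hsum', ← hgv, S.iso g hg, hv]

end Grp

/-- All products of root elements give all transvections. -/
theorem Full.tv_mem (ht : 1 ≤ t) {M : Subgroup (GL (Idx k (t + 1)) F)} (hF : Full σ f M)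
    (hR : RootsOn σ f M Finset.univ) {v : Idx k (t + 1) → F} (hv : tf σ f (t + 1) v v = 0) {c : F}
    (hc : c + σ c = 0) : In M (1 + c • vecMulVec v (fVec (tf σ f (t + 1)) v)) := by
  have G := hF.grp 0
  have h3 : 3 ≤ Fintype.card (Idx k t) := by
    rw [Fintype.card_fun, Fintype.card_fin, Fintype.card_fin]
    exact le_trans hF.sp.three_le (le_self_pow (by have := hF.sp.three_le; omega) (by omega))
  have h := G.tv_all h3 (fun Y hY => hF.good_of_adj ht hR 0 hY) (tvec 0 v) (by rw [tf_tvec]; exact hv) c hc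
  rw [← in_ms_rx (i := 0), map_add, map_one, map_smul]
  convert h using 3
  refine Matrix.ext_of_mulVec_single fun r => ?_
  obtain ⟨x, hx⟩ := (tvec (F := F) (m := k) (0 : Fin (t + 1))).surjective (Pi.single r 1)
  rw [← hx, rx_mulVec_tvec, vecMulVec_mulVec, vecMulVec_mulVec, op_smul_eq_smul, op_smul_eq_smul,
    (Unit.sesq (hF.sp.tf_unitary (t + 1))).fVec_dot, (Unit.sesq G.hp_unitary).fVec_dot, tf_tvec, map_smul]

end CfsgLib.UnitWreathMax
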