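import Mathlib
import Cfsg.Agent.Lib.UnitWreathMax.Scalar

/-!
Axes of the factors, and the detection of monomial similitudes by conjugates of root elements.
-/

set_option autoImplicit false
set_option linter.unusedSectionVars false
set_option linter.unusedSimpArgs false

namespace CfsgLib.UnitWreathMax

open Matrix Module
open scoped Kronecker
open CfsgLib.GeomClasses
open CfsgLib.Maximal.TensorPower
open CfsgLib.TensorWreathMax (In Idx split rx rx_pm Ms in_ms_rx Gam in_gam pl ct ct_pl nm nm_mulVec tvec tvec_tp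
  rx_mulVec_tvec rx_slot_same rx_slot_succAbove Mon permM permM_mulVec permM_mul_pm kronecker_mulVec_pl)

attribute [-simp] Matrix.coe_units_inv

variable {F : Type*} [Field F] {σ : F ≃+* F} {k t : ℕ} {f : (Fin k → F) → (Fin k → F) → F}

/-- The conjugates of the special unitary groups of the factors lie in the group. -/
def ConjS (f : (Fin k → F) → (Fin k → F) → F) (M : Subgroup (GL (Idx k t) F)) (g : GL (Idx k t) F) : Prop :=
  ∀ i : Fin t, ∀ A ∈ su f,
    In M ((g : Matrix (Idx k t) (Idx k t) F) * slot i (A : Matrix (Fin k) (Fin k) F) *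
      ((g⁻¹ : GL (Idx k t) F) : Matrix (Idx k t) (Idx k t) F))

/-- What is to be proved for `t` factors. -/
def Rigid (σ : F ≃+* F) (f : (Fin k → F) → (Fin k → F) → F) (t : ℕ) : Prop :=
  ∀ M : Subgroup (GL (Idx k t) F), Full σ f M → ¬ RootsOn σ f M Finset.univ →
    ∀ g : GL (Idx k t) F, Sim (tf σ f t) (g : Matrix (Idx k t) (Idx k t) F) → ConjS f M g → IsMonomial g

theorem ConjS.of_mem {M : Subgroup (GL (Idx k t) F)} (hF : Full σ f M) {g : GL (Idx k t) F} (hg : g ∈ M) :
    ConjS f M g := fun i A hA => by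
  obtain ⟨x, hx, hxA⟩ := hF.su_mem i A hA
  exact ⟨g * x * g⁻¹, M.mul_mem (M.mul_mem hg hx) (M.inv_mem hg), by simp [hxA]⟩

/-! ### Swapping factors -/

theorem transpose_permM (π : Equiv.Perm (Fin t)) :
    (permM π : Matrix (Idx k t) (Idx k t) F)ᵀ = permM π⁻¹ := by
  ext x y
  simp only [Matrix.transpose_apply, permM, Equiv.Perm.inv_def, Equiv.symm_symm]
  congr 1
  exact propext ⟨fun h => by rw [h, Function.comp_assoc, Equiv.symm_comp_self, Function.comp_id],
    fun h => by rw [h, Function.comp_assoc, Equiv.self_comp_symm, Function.comp_id]⟩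

theorem map_permM (π : Equiv.Perm (Fin t)) :
    (permM π : Matrix (Idx k t) (Idx k t) F).map σ = permM π := by
  ext x y
  simp [permM, apply_ite σ]

theorem Sp.pres_permM (S : Sp σ f) (π : Equiv.Perm (Fin t)) : Pres (tf σ f t) (permM π) := by
  rw [tf, pres_iff, transpose_permM, map_permM, permM_mul_pm, mul_assoc,
    show (permM π⁻¹ : Matrix (Idx k t) (Idx k t) F) * permM π = 1 from ext_tp fun xs => by
      rw [← Matrix.mulVec_mulVec, permM_mulVec, permM_mulVec, Matrix.one_mulVec]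
      simp, mul_one]

theorem permM_slot (π : Equiv.Perm (Fin t)) (l : Fin t) (X : Matrix (Fin k) (Fin k) F) :
    (permM π : Matrix (Idx k t) (Idx k t) F) * slot l X = slot (π.symm l) X * permM π := by
  rw [slot_apply, slot_apply, permM_mul_pm]
  congr 2
  funext q
  rcases eq_or_ne q (π.symm l) with rfl | hq
  · simp
  · rw [Function.update_of_ne hq, Function.update_of_ne fun h => hq (by rw [← h, Equiv.symm_apply_apply])]
    rfl

/-- Moving a slot and acting on it. -/
theorem exists_step_map (S : Sp σ f) {A : GL (Fin k) F} (hA : Pres f (A : Matrix (Fin k) (Fin k) F)) (i j : Fin t) :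
    ∃ h : GL (Idx k t) F, IsMonomial h ∧ Pres (tf σ f t) (h : Matrix (Idx k t) (Idx k t) F) ∧
      (h : Matrix (Idx k t) (Idx k t) F) = slot j (A : Matrix (Fin k) (Fin k) F) * permM (Equiv.swap i j) := by
  obtain ⟨h, hh⟩ := TensorWreathMax.exists_monomial (Equiv.swap i j) (Function.update (1 : Fin t → GL (Fin k) F) j A)
  have e : (h : Matrix (Idx k t) (Idx k t) F) = slot j (A : Matrix (Fin k) (Fin k) F) * permM (Equiv.swap i j) :=
    ext_tp fun xs => by
      rw [hh, ← Matrix.mulVec_mulVec, permM_mulVec, slot_mulVec]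
      congr 1
      funext q
      rcases eq_or_ne q j with rfl | hq
      · simp
      · simp [hq]
  exact ⟨h, ⟨_, _, hh⟩, e ▸ (S.pres_slot hA j).mul (S.pres_permM _), e⟩

theorem ConjS.mul_step {M : Subgroup (GL (Idx k t) F)} {g h : GL (Idx k t) F} (hg : ConjS f M g)
    {A : GL (Fin k) F} (hA : A ∈ su f) {i j : Fin t}
    (hh : (h : Matrix (Idx k t) (Idx k t) F) = slot j (A : Matrix (Fin k) (Fin k) F) * permM (Equiv.swap i j)) :
    ConjS f M (g * h) := by
  intro l B hB
  obtain ⟨C, hC, hC'⟩ : ∃ C ∈ su f, slot j (A : Matrix (Fin k) (Fin k) F) * slot (Equiv.swap i j l) (B : Matrix (Fin k) (Fin k) F) =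
      slot (Equiv.swap i j l) (C : Matrix (Fin k) (Fin k) F) * slot j (A : Matrix (Fin k) (Fin k) F) := by
    rcases eq_or_ne (Equiv.swap i j l) j with e | e
    · refine ⟨A * B * A⁻¹, Subgroup.mul_mem _ (Subgroup.mul_mem _ hA hB) (Subgroup.inv_mem _ hA), ?_⟩
      rw [e, slot_mul, slot_mul, ← Units.val_mul, ← Units.val_mul, inv_mul_cancel_right]
    · exact ⟨B, hB, slot_comm e.symm _ _⟩
  have h1 : (h : Matrix (Idx k t) (Idx k t) F) * slot l (B : Matrix (Fin k) (Fin k) F) =
      slot (Equiv.swap i j l) (C : Matrix (Fin k) (Fin k) F) * (h : Matrix (Idx k t) (Idx k t) F) := by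
    rw [hh, mul_assoc, permM_slot, Equiv.symm_swap, ← mul_assoc, hC', mul_assoc]
  convert hg (Equiv.swap i j l) C hC using 1
  rw [Units.val_mul, _root_.mul_inv_rev, Units.val_mul, mul_assoc (g : Matrix (Idx k t) (Idx k t) F), h1]
  simp [mul_assoc]

/-! ### Axes -/

section axes

/-- The vectors with a given factor at a slot. -/
def ax (i : Fin (t + 1)) (a : Fin k → F) : Submodule F (Idx k (t + 1) → F) :=
  LinearMap.range ((tvec (F := F) (m := k) i).symm.toLinearMap ∘ₗ pl (μ := Idx k t) a)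

theorem mem_ax {i : Fin (t + 1)} {a : Fin k → F} {v : Idx k (t + 1) → F} :
    v ∈ ax i a ↔ ∃ u, tvec i v = pl a u := by
  refine ⟨fun ⟨u, hu⟩ => ⟨u, by rw [← hu]; simp⟩, fun ⟨u, hu⟩ => ⟨u, ?_⟩⟩
  show (tvec i).symm (pl a u) = v
  rw [← hu, LinearEquiv.symm_apply_apply]

theorem ax_pl (i : Fin (t + 1)) (a : Fin k → F) (u : Idx k t → F) : (tvec i).symm (pl a u) ∈ ax i a :=
  mem_ax.2 ⟨u, LinearEquiv.apply_symm_apply _ _⟩

theorem finrank_ax (i : Fin (t + 1)) {a : Fin k → F} (ha : a ≠ 0) : finrank F (ax i a) = k ^ t := by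
  rw [ax, LinearMap.finrank_range_of_inj]
  · simp
  · exact (tvec i).symm.injective.comp
      (LinearMap.ker_eq_bot.1 (LinearMap.ker_eq_bot'.2 fun u h => TensorWreathMax.pl_eq_zero ha h))

theorem tvec_slot (i : Fin (t + 1)) (X : Matrix (Fin k) (Fin k) F) (v : Idx k (t + 1) → F) :
    tvec i (slot i X *ᵥ v) = (X ⊗ₖ (1 : Matrix (Idx k t) (Idx k t) F)) *ᵥ tvec i v := by
  rw [← rx_mulVec_tvec, rx_slot_same]

theorem slot_vm_mem_ax (i : Fin (t + 1)) (a φ : Fin k → F) (v : Idx k (t + 1) → F) :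
    slot i (vecMulVec a φ) *ᵥ v ∈ ax i a :=
  mem_ax.2 ⟨_, by rw [tvec_slot]; exact nm_mulVec a φ 1 (tvec i v)⟩

theorem slot_vm_fix {i : Fin (t + 1)} {a θ : Fin k → F} (hθ : θ ⬝ᵥ a = 1) {v : Idx k (t + 1) → F}
    (hv : v ∈ ax i a) : slot i (vecMulVec a θ) *ᵥ v = v := by
  obtain ⟨u, hu⟩ := mem_ax.1 hv
  refine (tvec i).injective ?_
  rw [tvec_slot, hu, kronecker_mulVec_pl, Matrix.one_mulVec, vecMulVec_mulVec, op_smul_eq_smul, hθ, one_smul]

variable (S : Sp σ f)
include S

theorem tf_ax {i : Fin (t + 1)} {a : Fin k → F} (ha : f a a = 0) {v w : Idx k (t + 1) → F} (hv : v ∈ ax i a)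
    (hw : w ∈ ax i a) : tf σ f (t + 1) v w = 0 := by
  obtain ⟨u, hu⟩ := mem_ax.1 hv
  obtain ⟨u', hu'⟩ := mem_ax.1 hw
  rw [← tf_tvec i, hu, hu', hp, show Cfsg.Geo.gramMatrix f ⊗ₖ Gm f t = Cfsg.Geo.gramMatrix f ⊗ₖ Gm f t from rfl]
  have G : Cfsg.Geo.IsUnitaryForm σ (fog σ (Cfsg.Geo.gramMatrix f ⊗ₖ Gm f t)) :=
    (S.herm_gram.kron S.herm_gram.pm).unitary S.unit.ne_refl S.invol
  have h1 : fog σ (Cfsg.Geo.gramMatrix f ⊗ₖ Gm f t) (pl a u) (pl a u') = f a a * fog σ (Gm f t) u u' := by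
    rw [eq_fog S.unit a a, fog_eq, fog_eq, fog_eq,
      show (fun b => σ (pl a u' b)) = pl (fun b => σ (a b)) (fun b => σ (u' b)) from funext fun b => by simp [pl],
      kronecker_mulVec_pl, pl_dot]
  show fog σ _ _ _ = 0
  rw [h1, ha, zero_mul]

theorem aniso_of_isotropic_ax {i : Fin (t + 1)} {a : Fin k → F}
    (h : ∀ v ∈ ax i a, ∀ w ∈ ax i a, tf σ f (t + 1) v w = 0) : f a a = 0 := by
  haveI : NeZero k := ⟨by have := S.three_le; omega⟩
  have hU : Cfsg.Geo.IsUnitaryForm σ (fog σ (Gm f t)) := (S.herm_gram.pm).unitary S.unit.ne_refl S.invol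
  obtain ⟨u', hu'⟩ := (hU.nondegenerate (Pi.single (0 : Idx k t) 1) (by simp)).1
  have h1 := h _ (ax_pl i a u') _ (ax_pl i a (Pi.single (0 : Idx k t) 1))
  rw [← tf_tvec i, LinearEquiv.apply_symm_apply, LinearEquiv.apply_symm_apply, hp] at h1
  have h2 : fog σ (Cfsg.Geo.gramMatrix f ⊗ₖ Gm f t) (pl a u') (pl a (Pi.single (0 : Idx k t) 1)) =
      f a a * fog σ (Gm f t) u' (Pi.single (0 : Idx k t) 1) := by
    rw [eq_fog S.unit a a, fog_eq, fog_eq, fog_eq,
      show (fun b => σ (pl a (Pi.single (0 : Idx k t) (1 : F)) b)) =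
          pl (fun b => σ (a b)) (fun b => σ ((Pi.single (0 : Idx k t) (1 : F) : Idx k t → F) b)) from
        funext fun b => by simp [pl],
      kronecker_mulVec_pl, pl_dot]
  rw [h2, mul_eq_zero] at h1
  exact h1.resolve_right hu'

variable [Fintype F]

theorem exists_slot_pj {i : Fin (t + 1)} {a : Fin k → F} (ha : a ≠ 0) {v : Idx k (t + 1) → F} (hv : v ∈ ax i a) :
    ∃ w, slot i (pj f a) *ᵥ w = v := by
  obtain ⟨u, hu⟩ := mem_ax.1 hv
  obtain ⟨c, hc, -⟩ := S.exists_one ha
  refine ⟨(tvec i).symm (pl c u), (tvec i).injective ?_⟩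
  rw [tvec_slot, LinearEquiv.apply_symm_apply, kronecker_mulVec_pl, S.pj_mulVec, Matrix.one_mulVec, hc, one_smul, hu]

omit [Fintype F] in
theorem slot_pj_mem_ax (i : Fin (t + 1)) (a : Fin k → F) (v : Idx k (t + 1) → F) :
    slot i (pj f a) *ᵥ v ∈ ax i a :=
  slot_vm_mem_ax i a _ v

end axes

variable [Fintype F]

/-- A similitude conjugating the special unitary groups into the group and moving an axis to an axis. -/
theorem isMonomial_of_maps (ht : 1 ≤ t) (IH : Rigid σ f t) {M : Subgroup (GL (Idx k (t + 1)) F)} (hF : Full σ f M)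
    (hP : ¬ RootsOn σ f M Finset.univ) {g : GL (Idx k (t + 1)) F}
    (hsim : Sim (tf σ f (t + 1)) (g : Matrix (Idx k (t + 1)) (Idx k (t + 1)) F)) (hg : ConjS f M g)
    {i j : Fin (t + 1)} {a b : Fin k → F} (ha0 : a ≠ 0) (ha : f a a = 0) (hb0 : b ≠ 0) (hb : f b b = 0)
    (hmap : ∀ v ∈ ax j b, (g : Matrix (Idx k (t + 1)) (Idx k (t + 1)) F) *ᵥ v ∈ ax i a) : IsMonomial g := by
  classical
  have S := hF.sp
  obtain ⟨A, hA, hAa⟩ := S.exists_su_map ha0 ha hb0 hb
  obtain ⟨h, hhm, hhp, hhe⟩ := exists_step_map S (mem_su.1 hA).1 i j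
  suffices hgh : IsMonomial (g * h) by
    simpa using TensorWreathMax.isMonomial_mul hgh (TensorWreathMax.isMonomial_inv hhm)
  set g' := g * h with hg'def
  have hg' : ConjS f M g' := hg.mul_step hA hhe
  have hsim' : Sim (tf σ f (t + 1)) (g' : Matrix (Idx k (t + 1)) (Idx k (t + 1)) F) := by
    rw [hg'def, Units.val_mul]
    exact hsim.mul hhp.sim
  obtain ⟨θ, hθ⟩ := TensorWreathMax.exists_dot_eq_one ha0
  have hfix : ∀ v ∈ ax i a, (g' : Matrix (Idx k (t + 1)) (Idx k (t + 1)) F) *ᵥ v ∈ ax i a := by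
    intro v hv
    rw [hg'def, Units.val_mul, ← Matrix.mulVec_mulVec]
    refine hmap _ ?_
    rw [← slot_vm_fix hθ hv, Matrix.mulVec_mulVec, hhe, mul_assoc, permM_slot, Equiv.symm_swap,
      Equiv.swap_apply_left, ← mul_assoc, slot_mul, mul_vecMulVec, hAa, ← Matrix.mulVec_mulVec]
    exact slot_vm_mem_ax _ _ _ _
  set gs := Cfsg.Geo.glReindex (F := F) (split i) g' with hgs
  have hgsv : (gs : Matrix _ _ F) = rx i (g' : Matrix (Idx k (t + 1)) (Idx k (t + 1)) F) := rfl
  have hgsi : ((gs⁻¹ : GL (Fin k × Idx k t) F) : Matrix _ _ F) =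
      rx i ((g'⁻¹ : GL (Idx k (t + 1)) F) : Matrix (Idx k (t + 1)) (Idx k (t + 1)) F) := rfl
  obtain ⟨c, hc0, hc⟩ := hsim'
  obtain ⟨B, τ, hBτ, hτsim⟩ := (hF.grp i).stab (hF.onlyScalar hP i) (g := gs)
    ⟨c, hc0, fun x y => by
      obtain ⟨x, rfl⟩ := (tvec i).surjective x
      obtain ⟨y, rfl⟩ := (tvec i).surjective y
      rw [hgsv, rx_mulVec_tvec, rx_mulVec_tvec, tf_tvec, tf_tvec, hc]⟩
    (fun C hC => by
      have h1 := in_ms_rx (i := i).2 (hg' i C hC)
      rwa [map_mul, map_mul, rx_slot_same, ← hgsv, ← hgsi] at h1)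
    ha0 ha (fun u => by
      obtain ⟨u', hu'⟩ := mem_ax.1 (hfix _ (ax_pl i a u))
      exact ⟨u', by rw [hgsv, ← (tvec i).apply_symm_apply (pl a u), rx_mulVec_tvec, hu']⟩)
  have hinv : ((gs⁻¹ : GL (Fin k × Idx k t) F) : Matrix _ _ F) =
      ((B⁻¹ : GL (Fin k) F) : Matrix (Fin k) (Fin k) F) ⊗ₖ Units.val (τ⁻¹ : GL (Idx k t) F) := by
    refine Units.inv_eq_of_mul_eq_one_right ?_
    rw [hBτ, ← Matrix.mul_kronecker_mul, Units.mul_inv, Units.mul_inv, one_kronecker_one]
  have hτm : IsMonomial τ := by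
    rcases eq_or_lt_of_le ht with rfl | ht2
    · exact TensorWreathMax.isMonomial_of_one τ
    refine IH (Gam i M) (hF.gam i) (hF.gam_proper ht2 hP i) τ hτsim fun l C hC => in_gam S.three_le ?_
    have h1 := in_ms_rx (i := i).2 (hg' (i.succAbove l) C hC)
    rw [map_mul, map_mul, rx_slot_succAbove, ← hgsv, ← hgsi, hinv, hBτ, ← Matrix.mul_kronecker_mul,
      ← Matrix.mul_kronecker_mul, Matrix.mul_one, Units.mul_inv] at h1
    exact h1
  obtain ⟨π, as, hπ⟩ := hτm
  let π' : Equiv.Perm (Fin (t + 1)) := ((finSuccEquiv' i).trans π.optionCongr).trans (finSuccEquiv' i).symm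
  have hπi : π' i = i := by simp [π', finSuccEquiv'_at]
  have hπs : ∀ l, π' (i.succAbove l) = i.succAbove (π l) := fun l => by simp [π']
  refine ⟨π', i.insertNth B as, fun xs => (tvec i).injective ?_⟩
  rw [← rx_mulVec_tvec, ← hgsv, hBτ, tvec_tp, tvec_tp, kronecker_mulVec_pl]
  congr 1
  · congr 1
    simp [hπi]
  · rw [hπ]
    congr 1
    funext l
    simp [Fin.removeNth, hπs]

/-! ### Conjugates of root elements -/

omit [Fintype F] in
/-- The rank of a monomial involution moving exactly two factors. -/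
theorem swap_rank {m : ℕ} (hm : 3 ≤ m) {z : Matrix (Idx m (t + 1)) (Idx m (t + 1)) F}
    {π : Equiv.Perm (Fin (t + 1))} {as : Fin (t + 1) → GL (Fin m) F} (hz : Mon z π as) (hπ : π.IsSwap)
    (hz2 : z * z = 1) : (m - 1) * m ^ t ≤ 2 * (z - 1).rank := by
  classical
  haveI : NeZero m := ⟨by omega⟩
  obtain ⟨j, l, hjl, rfl⟩ := hπ
  have hsq : ∀ i, ∃ c : F, (as i : Matrix (Fin m) (Fin m) F) * (as (Equiv.swap j l i) : Matrix (Fin m) (Fin m) F) =
      c • 1 := by
    have h1 := hz.mul hz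
    rw [hz2, Equiv.swap_mul_self] at h1
    have h2 : pm (fun i => ((as i * as (Equiv.swap j l i) : GL (Fin m) F) : Matrix (Fin m) (Fin m) F)) = 1 :=
      ext_tp fun xs => by rw [h1 xs, pm_mulVec]; rfl
    intro i
    obtain ⟨c, hc⟩ := TensorWreathMax.exists_smul_of_pm_eq hm (c := (1 : F)) one_ne_zero (by simpa using h2) i
    exact ⟨c, hc⟩
  let C : Fin (t + 1) → GL (Fin m) F := fun i => if i = l then as i else 1
  let P : Matrix (Idx m (t + 1)) (Idx m (t + 1)) F := pm fun i => (C i : Matrix (Fin m) (Fin m) F)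
  let P' : Matrix (Idx m (t + 1)) (Idx m (t + 1)) F := pm fun i => (((C i)⁻¹ : GL (Fin m) F) : Matrix (Fin m) (Fin m) F)
  let cs : Fin (t + 1) → GL (Fin m) F := fun i => (C i)⁻¹ * as i * C (Equiv.swap j l i)
  set y := P' * z * P with hy
  have hyc : ∀ x' x, y x' x = ∏ i, (cs i : Matrix (Fin m) (Fin m) F) (x' i) (x (Equiv.swap j l i)) := by
    intro x' x
    have h1 : y *ᵥ Pi.single x 1 = tp fun i => (cs i : Matrix (Fin m) (Fin m) F) *ᵥ Pi.single (x (Equiv.swap j l i)) 1 := by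
      rw [← tp_single, hy, ← Matrix.mulVec_mulVec, ← Matrix.mulVec_mulVec, pm_mulVec, hz, pm_mulVec]
      congr 1
      funext i
      simp only [cs, Units.val_mul, ← Matrix.mulVec_mulVec]
    have h2 := congrFun h1 x'
    simpa [tp, Matrix.mulVec_single_one] using h2
  have hcs : ∀ i, (i = j ∨ i = l) → ∃ c : F, (cs i : Matrix (Fin m) (Fin m) F) = c • 1 := by
    rintro i (rfl | rfl)
    · obtain ⟨c, hc⟩ := hsq i
      rw [Equiv.swap_apply_left] at hc
      exact ⟨c, by simp [cs, C, hjl, hc]⟩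
    · exact ⟨1, by simp [cs, C, hjl]⟩
  have hsupp : ∀ x' x, y x' x ≠ 0 → x' j = x l ∧ x' l = x j := by
    intro x' x h
    rw [hyc, Finset.prod_ne_zero_iff] at h
    have hh : ∀ i, (i = j ∨ i = l) → x' i = x (Equiv.swap j l i) := fun i hi => by
      obtain ⟨c, hc⟩ := hcs i hi
      by_contra hne
      exact h i (Finset.mem_univ i) (by rw [hc, Matrix.smul_apply, Matrix.one_apply_ne hne, smul_zero])
    exact ⟨by simpa using hh j (by simp), by simpa using hh l (by simp)⟩
  let U : Finset (Idx m (t + 1)) := Finset.univ.filter fun x => x j < x l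
  let V : Finset (Idx m (t + 1)) := Finset.univ.filter fun x => x l < x j
  let E : Finset (Idx m (t + 1)) := Finset.univ.filter fun x => x j = x l
  have hUV : V.card ≤ U.card := by
    refine Finset.card_le_card_of_injOn (fun x => x ∘ Equiv.swap j l) (fun x hx => ?_) (fun x _ x' _ h => ?_)
    · simp only [Finset.mem_coe, U, V, Finset.mem_filter, Finset.mem_univ, true_and] at hx ⊢
      simpa using hx
    · funext i
      simpa using congrFun h (Equiv.swap j l i)
  have hE : E.card * m ≤ m ^ (t + 1) := by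
    have h1 := Finset.card_le_card_of_injOn (s := E ×ˢ (Finset.univ : Finset (Fin m)))
      (t := (Finset.univ : Finset (Idx m (t + 1)))) (fun q => Function.update q.1 l q.2)
      (fun q _ => Finset.mem_univ _) (fun q hq q' hq' h => ?_)
    · simpa using h1
    · simp only [Finset.mem_coe, Finset.mem_product, E, Finset.mem_filter, Finset.mem_univ, and_true, true_and] at hq hq'
      refine Prod.ext (funext fun i => ?_) (by simpa using congrFun h l)
      rcases eq_or_ne i l with rfl | hil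
      · rw [← hq, ← hq']
        simpa [hjl] using congrFun h j
      · simpa [hil] using congrFun h i
  have htot : m ^ (t + 1) ≤ U.card + V.card + E.card := by
    calc m ^ (t + 1) = (Finset.univ : Finset (Idx m (t + 1))).card := by simp
      _ ≤ (U ∪ V ∪ E).card := Finset.card_le_card fun x _ => by
          simp only [U, V, E, Finset.mem_union, Finset.mem_filter, Finset.mem_univ, true_and]
          omega
      _ ≤ _ := (Finset.card_union_le _ _).trans (by have := Finset.card_union_le U V; omega)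
  have hU : U.card ≤ (y - 1).rank := by
    let L : (U → F) →ₗ[F] (Idx m (t + 1) → F) := Function.ExtendByZero.linearMap F Subtype.val
    have hinj : Function.Injective ((y - 1).mulVecLin ∘ₗ L) := by
      rw [← LinearMap.ker_eq_bot, LinearMap.ker_eq_bot']
      intro v hv
      funext ⟨x, hx⟩
      have h1 := congrFun hv x
      simp only [LinearMap.comp_apply, Matrix.mulVecLin_apply, Matrix.sub_mulVec, Matrix.one_mulVec, Pi.sub_apply,
        Pi.zero_apply, sub_eq_zero] at h1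
      have h2 : (y *ᵥ L v) x = 0 := by
        simp only [Matrix.mulVec, dotProduct]
        refine Finset.sum_eq_zero fun x₁ _ => ?_
        by_cases hx₁ : x₁ ∈ U
        · by_cases hy0 : y x x₁ = 0
          · rw [hy0, zero_mul]
          obtain ⟨e1, e2⟩ := hsupp x x₁ hy0
          simp only [U, Finset.mem_filter, Finset.mem_univ, true_and] at hx hx₁
          omega
        · have : L v x₁ = 0 := Function.extend_apply' _ _ _ fun ⟨⟨a, ha⟩, e⟩ => hx₁ (e ▸ ha)
          rw [this, mul_zero]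
      rw [h2] at h1
      have h3 : L v x = v ⟨x, hx⟩ := Subtype.val_injective.extend_apply v 0 ⟨x, hx⟩
      rw [Pi.zero_apply, ← h3, h1]
    have h4 := LinearMap.finrank_range_of_inj hinj
    rw [Module.finrank_fintype_fun_eq_card, Fintype.card_coe] at h4
    rw [← h4, Matrix.rank]
    exact Submodule.finrank_mono (LinearMap.range_comp_le_range _ _)
  have hyz : (y - 1).rank ≤ (z - 1).rank := by
    have e : y - 1 = P' * (z - 1) * P := by
      rw [Matrix.mul_sub, Matrix.sub_mul, Matrix.mul_one, hy, show P' * P = 1 by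
        simp only [P, P', pm_mul, ← Units.val_mul, inv_mul_cancel, Units.val_one]; exact pm_one]
    rw [e]
    exact (Matrix.rank_mul_le_left _ _).trans (Matrix.rank_mul_le_right _ _)
  have hE' : E.card ≤ m ^ t := by
    rw [pow_succ] at hE
    exact Nat.le_of_mul_le_mul_right hE (by omega)
  rw [pow_succ, mul_comm] at htot
  rw [Nat.sub_mul, one_mul]
  omega

theorem rank_slot_pj (S : Sp σ f) (i : Fin (t + 1)) {a : Fin k → F} (ha : a ≠ 0) :
    (slot i (pj f a) : Matrix (Idx k (t + 1)) (Idx k (t + 1)) F).rank = k ^ t :=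
  TensorWreathMax.rank_root ha ((Unit.sesq S.unit).fVec_ne_zero S.unit.nondegenerate ha)

/-- A similitude which is not monomial conjugates some root element to an element which is not monomial. -/
theorem exists_not_mon (ht : 1 ≤ t) (IH : Rigid σ f t) {M : Subgroup (GL (Idx k (t + 1)) F)} (hF : Full σ f M)
    (hP : ¬ RootsOn σ f M Finset.univ) {g : GL (Idx k (t + 1)) F}
    (hsim : Sim (tf σ f (t + 1)) (g : Matrix (Idx k (t + 1)) (Idx k (t + 1)) F)) (hg : ConjS f M g)
    (hng : ¬ IsMonomial g) (j : Fin (t + 1)) {b : Fin k → F} (hb0 : b ≠ 0) (hb : f b b = 0) :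
    ∃ δ : F, δ ≠ 0 ∧ δ + σ δ = 0 ∧ ∃ z ∈ M, (z : Matrix (Idx k (t + 1)) (Idx k (t + 1)) F) =
      1 + (g : Matrix _ _ F) * (δ • slot j (pj f b)) * ((g⁻¹ : GL (Idx k (t + 1)) F) : Matrix _ _ F) ∧
        ¬ IsMonomial z := by
  classical
  have S := hF.sp
  have hk := S.three_le
  by_contra hcon
  push Not at hcon
  set G := (g : Matrix (Idx k (t + 1)) (Idx k (t + 1)) F)
  set G' := ((g⁻¹ : GL (Idx k (t + 1)) F) : Matrix (Idx k (t + 1)) (Idx k (t + 1)) F)
  have hG'G : G' * G = 1 := Units.inv_mul g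
  set P := G * slot j (pj f b) * G' with hPdef
  have hPP : P * P = 0 := by
    rw [hPdef, show G * slot j (pj f b) * G' * (G * slot j (pj f b) * G') =
        G * (slot j (pj f b) * (G' * G) * slot j (pj f b)) * G' by simp only [mul_assoc], hG'G, mul_one, slot_mul,
      S.pj_mul_self hb, map_zero, mul_zero, zero_mul]
  have hmono : ∀ δ : F, δ ≠ 0 → δ + σ δ = 0 → ∃ π as, Mon (1 + δ • P) π as := by
    intro δ hδ0 hδ
    obtain ⟨z, hz, hze⟩ := hg j _ (S.formTv_mem hb hδ)
    have e : (z : Matrix (Idx k (t + 1)) (Idx k (t + 1)) F) = 1 + G * (δ • slot j (pj f b)) * G' := by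
      rw [hze, S.formTv_val hb, map_add, slot_one, map_smul, mul_add, mul_one, add_mul, Units.mul_inv]
    obtain ⟨π, as, h⟩ := hcon δ hδ0 hδ z hz e
    exact ⟨π, as, by rw [hPdef, ← smul_mul_assoc, ← mul_smul_comm, ← e]; exact h⟩
  have hsq : ∀ δ : F, (1 + δ • P - 1) * (1 + δ • P - 1) = 0 := fun δ => by
    rw [add_sub_cancel_left, smul_mul_assoc, mul_smul_comm, hPP, smul_zero, smul_zero]
  have hrk : ∀ δ : F, δ ≠ 0 → (1 + δ • P - 1).rank = k ^ t := fun δ hδ0 => by
    rw [add_sub_cancel_left, ← rank_slot_pj S j hb0, ← TensorWreathMax.rank_conj g (slot j (pj f b)), ← hPdef]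
    refine le_antisymm ?_ ?_
    · rw [← one_mul P, ← smul_mul_assoc]
      exact (Matrix.rank_mul_le_right _ _).trans (le_of_eq (by rw [one_mul]))
    · calc P.rank = ((δ⁻¹ • (1 : Matrix (Idx k (t + 1)) (Idx k (t + 1)) F)) * (δ • P)).rank := by
            rw [smul_mul_assoc, one_mul, smul_smul, inv_mul_cancel₀ hδ0, one_smul]
        _ ≤ _ := Matrix.rank_mul_le_right _ _
  have hswap : ∀ δ : F, δ ≠ 0 → ∀ π as, Mon (1 + δ • P) π as → π.IsSwap := by
    intro δ hδ0 π as hmon
    rcases hmon.classify hk (hsq δ) (hrk δ hδ0) with ⟨i, a, φ, ha0, -, -, he⟩ | h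
    swap
    · exact h
    have hin : ∀ v ∈ ax j b, G *ᵥ v ∈ ax i a := by
      intro v hv
      obtain ⟨w, rfl⟩ := exists_slot_pj S hb0 hv
      have e : G *ᵥ (slot j (pj f b) *ᵥ w) = δ⁻¹ • (slot i (vecMulVec a φ) *ᵥ (G *ᵥ w)) := by
        rw [← add_left_cancel he, Matrix.smul_mulVec, smul_smul, inv_mul_cancel₀ hδ0, one_smul, hPdef,
          Matrix.mulVec_mulVec, Matrix.mulVec_mulVec, mul_assoc, mul_assoc, hG'G, mul_one]
      rw [e]
      exact Submodule.smul_mem _ _ (slot_vm_mem_ax i a φ _)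
    have heq : Submodule.map G.mulVecLin (ax j b) = ax i a := by
      refine Submodule.eq_of_le_of_finrank_le (by rintro _ ⟨v, hv, rfl⟩; exact hin v hv) ?_
      rw [← (Submodule.equivMapOfInjective _ (gl_mulVec_injective g) _).finrank_eq, finrank_ax _ ha0, finrank_ax _ hb0]
    have ha : f a a = 0 := by
      refine aniso_of_isotropic_ax S (i := i) fun v hv w hw => ?_
      rw [← heq, Submodule.mem_map] at hv hw
      obtain ⟨v, hv, rfl⟩ := hv
      obtain ⟨w, hw, rfl⟩ := hw
      obtain ⟨c, -, hc⟩ := hsim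
      rw [Matrix.mulVecLin_apply, Matrix.mulVecLin_apply, hc, tf_ax S hb hv hw, mul_zero]
    exact absurd (isMonomial_of_maps ht IH hF hP hsim hg ha0 ha hb0 hb hin) hng
  obtain ⟨δ, hδ0, hδ⟩ := Unit.exists_skew S.unit.ne_refl S.invol
  obtain ⟨π, as, hmon⟩ := hmono δ hδ0 hδ
  have hsw := hswap δ hδ0 π as hmon
  rcases S.small with ⟨s, hs, hs0, hs1⟩ | hk4
  · have h1 : -(s * δ) ≠ 0 := neg_ne_zero.2 (mul_ne_zero hs0 hδ0)
    have h1' : -(s * δ) + σ (-(s * δ)) = 0 := by
      rw [map_neg, map_mul, hs, ← neg_add, ← mul_add, hδ, mul_zero, neg_zero]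
    have h2 : δ + -(s * δ) ≠ 0 := by
      rw [← sub_eq_add_neg, ← one_sub_mul]
      exact mul_ne_zero (sub_ne_zero.2 hs1.symm) hδ0
    obtain ⟨π₂, as₂, hmon₂⟩ := hmono _ h1 h1'
    have h3 := hmon.mul hmon₂
    rw [add_mul, one_mul, mul_add, mul_one, smul_mul_assoc, mul_smul_comm, hPP, smul_zero, smul_zero, add_zero,
      add_assoc, ← add_smul, add_comm (-(s * δ))] at h3
    have s1 := hsw.sign_eq
    have s2 := (hswap _ h1 π₂ as₂ hmon₂).sign_eq
    have s3 := (hswap _ h2 _ _ h3).sign_eq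
    rw [Equiv.Perm.sign_mul, s1, s2] at s3
    exact absurd s3 (by decide)
  · -- at least four letters: no swap has this rank
    obtain ⟨p, hp⟩ := CharP.exists F
    haveI : Fact p.Prime := ⟨CharP.char_is_prime F p⟩
    have hp2 : 2 ≤ p := (Fact.out : p.Prime).two_le
    haveI : NeZero k := ⟨by omega⟩
    haveI : CharP (Matrix (Idx k (t + 1)) (Idx k (t + 1)) F) p := inferInstance
    have hzp : (1 + δ • P) ^ p = 1 := by
      have h1 : (1 + δ • P - 1) ^ p = 0 := pow_eq_zero_of_le hp2 (by rw [pow_two, hsq])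
      rwa [sub_pow_char_of_commute p (Commute.one_right (1 + δ • P)), one_pow, sub_eq_zero] at h1
    obtain ⟨bs, hbs⟩ := hmon.pow p
    rw [hzp, ← one_smul F (1 : Matrix (Idx k (t + 1)) _ F)] at hbs
    have hπp := hbs.perm_eq_one hk one_ne_zero
    have h2 : p = 2 := by
      rw [← orderOf_dvd_iff_pow_eq_one, hsw.orderOf] at hπp
      exact ((Nat.prime_dvd_prime_iff_eq Nat.prime_two Fact.out).1 hπp).symm
    subst h2
    rw [pow_two] at hzp
    have h3 := swap_rank hk hmon hsw hzp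
    rw [hrk δ hδ0] at h3
    have h4 : 3 * k ^ t ≤ (k - 1) * k ^ t := Nat.mul_le_mul_right _ (by omega)
    have : 0 < k ^ t := pow_pos (by omega) t
    omega

end CfsgLib.UnitWreathMax
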