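import Mathlib
import Cfsg.Agent.Lib.UnitWreathMax.Classify

/-!
Perpendiculars of axes, and the largest meeting of an axis with a moved axis.
-/

set_option autoImplicit false
set_option linter.unusedSectionVars false
set_option linter.unusedSimpArgs false

namespace CfsgLib.UnitWreathMax

open Matrix Module
open scoped Kronecker
open CfsgLib.GeomClasses
open CfsgLib.Maximal.TensorPower
open CfsgLib.TensorWreathMax (In Idx split rx Ms pl ct ct_pl nm nm_mulVec tvec rx_slot_same kronecker_mulVec_pl)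

attribute [-simp] Matrix.coe_units_inv

variable {F : Type*} [Field F] {σ : F ≃+* F} {k t : ℕ} {f : (Fin k → F) → (Fin k → F) → F}

/-- The image of a subspace. -/
abbrev mp (g : GL (Idx k t) F) (W : Submodule F (Idx k t → F)) : Submodule F (Idx k t → F) :=
  W.map (g : Matrix (Idx k t) (Idx k t) F).mulVecLin

theorem mem_mp {g : GL (Idx k t) F} {W : Submodule F (Idx k t → F)} {v : Idx k t → F} :
    v ∈ mp g W ↔ ((g⁻¹ : GL (Idx k t) F) : Matrix (Idx k t) (Idx k t) F) *ᵥ v ∈ W := by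
  refine ⟨?_, fun h => ⟨_, h, gl_mulVec_inv_mulVec g v⟩⟩
  rintro ⟨w, hw, rfl⟩
  rwa [Matrix.mulVecLin_apply, gl_inv_mulVec_mulVec]

theorem mulVec_mem_mp {g : GL (Idx k t) F} {W : Submodule F (Idx k t → F)} {v : Idx k t → F} (hv : v ∈ W) :
    (g : Matrix (Idx k t) (Idx k t) F) *ᵥ v ∈ mp g W :=
  ⟨v, hv, rfl⟩

theorem finrank_mp (g : GL (Idx k t) F) (W : Submodule F (Idx k t → F)) : finrank F (mp g W) = finrank F W :=
  (Submodule.equivMapOfInjective _ (gl_mulVec_injective g) W).finrank_eq.symm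

theorem mp_inf (g : GL (Idx k t) F) (U W : Submodule F (Idx k t → F)) : mp g (U ⊓ W) = mp g U ⊓ mp g W :=
  Submodule.map_inf _ (gl_mulVec_injective g)

theorem mp_mp (g h : GL (Idx k t) F) (W : Submodule F (Idx k t → F)) : mp g (mp h W) = mp (g * h) W := by
  ext v
  rw [mem_mp, mem_mp, mem_mp, _root_.mul_inv_rev, gl_mul_mulVec]

theorem mp_inv_mp (g : GL (Idx k t) F) (W : Submodule F (Idx k t → F)) : mp g (mp g⁻¹ W) = W := by
  ext v
  rw [mem_mp, mem_mp, inv_inv, gl_mulVec_inv_mulVec]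

variable [Fintype F]

/-- The perpendicular in the tensor power. -/
abbrev pp (S : Sp σ f) (W : Submodule F (Idx k t → F)) : Submodule F (Idx k t → F) :=
  Unit.perp (S.tf_unitary t) W

variable (S : Sp σ f)
include S

theorem mem_pp {W : Submodule F (Idx k t → F)} {v : Idx k t → F} :
    v ∈ pp S W ↔ ∀ w ∈ W, tf σ f t v w = 0 :=
  Unit.mem_perp _

theorem pp_pp (W : Submodule F (Idx k t → F)) : pp S (pp S W) = W :=
  Unit.perp_perp _ W

theorem pp_anti {U W : Submodule F (Idx k t → F)} (h : U ≤ W) : pp S W ≤ pp S U := fun _ hv =>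
  (mem_pp S).2 fun w hw => (mem_pp S).1 hv w (h hw)

theorem le_pp_comm {U W : Submodule F (Idx k t → F)} (h : U ≤ pp S W) : W ≤ pp S U :=
  (pp_pp S W).ge.trans (pp_anti S h)

theorem pp_sup (U W : Submodule F (Idx k t → F)) : pp S (U ⊔ W) = pp S U ⊓ pp S W := by
  refine le_antisymm (le_inf (pp_anti S le_sup_left) (pp_anti S le_sup_right)) fun v hv => (mem_pp S).2 fun w hw => ?_
  obtain ⟨u, hu, w, hw', rfl⟩ := Submodule.mem_sup.1 hw
  rw [Unit.add_right (S.tf_unitary t), (mem_pp S).1 hv.1 u hu, (mem_pp S).1 hv.2 w hw', add_zero]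

theorem pp_inf (U W : Submodule F (Idx k t → F)) : pp S (U ⊓ W) = pp S U ⊔ pp S W := by
  rw [← pp_pp S (pp S U ⊔ pp S W), pp_sup, pp_pp, pp_pp]

theorem finrank_pp (W : Submodule F (Idx k t → F)) : finrank F (pp S W) + finrank F W = k ^ t := by
  rw [Unit.finrank_perp]
  simp

theorem pp_mp {g : GL (Idx k t) F} (hg : Sim (tf σ f t) (g : Matrix (Idx k t) (Idx k t) F))
    (W : Submodule F (Idx k t → F)) : pp S (mp g W) = mp g (pp S W) := by
  obtain ⟨c, hc0, hc⟩ := hg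
  ext v
  rw [mem_pp, mem_mp, mem_pp]
  refine ⟨fun h w hw => ?_, ?_⟩
  · have h1 := h _ (mulVec_mem_mp (g := g) hw)
    rw [← gl_mulVec_inv_mulVec g v, hc] at h1
    exact (mul_eq_zero.1 h1).resolve_left hc0
  · rintro h _ ⟨w, hw, rfl⟩
    rw [Matrix.mulVecLin_apply, ← gl_mulVec_inv_mulVec g v, hc, h w hw, mul_zero]

variable {T : Submodule F (Idx k (t + 1) → F)}

theorem ax_le_pp_self {i : Fin (t + 1)} {a : Fin k → F} (ha : f a a = 0) : ax i a ≤ pp S (ax i a) := fun _ hv =>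
  (mem_pp S).2 fun _ hw => tf_ax S ha hv hw

theorem slot_pj_eq_zero {i : Fin (t + 1)} {a : Fin k → F} (ha : a ≠ 0) {v : Idx k (t + 1) → F} :
    slot i (pj f a) *ᵥ v = 0 ↔ ct (fVec f a) (tvec i v) = 0 :=
  TensorWreathMax.slot_mulVec_eq_zero ha v

theorem mem_pp_ax {i : Fin (t + 1)} {a : Fin k → F} (ha : a ≠ 0) {v : Idx k (t + 1) → F} :
    v ∈ pp S (ax i a) ↔ slot i (pj f a) *ᵥ v = 0 := by
  have hadj : Adj (tf σ f (t + 1)) (slot i (pj f a)) (slot i (pj f a)) := by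
    rw [slot_apply]
    refine S.adj_pm fun l => ?_
    rcases eq_or_ne l i with rfl | hl
    · simpa using S.pj_adj a
    · rw [Function.update_of_ne hl]
      intro x y
      simp
  refine ⟨fun h => ?_, fun h => (mem_pp S).2 fun w hw => ?_⟩
  · by_contra hne
    obtain ⟨y, hy⟩ := ((S.tf_unitary (t + 1)).nondegenerate _ hne).2
    rw [hadj] at hy
    exact hy ((mem_pp S).1 h _ (slot_pj_mem_ax S i a y))
  · obtain ⟨y, rfl⟩ := exists_slot_pj S ha hw
    rw [← hadj, h, Unit.zero_left (S.tf_unitary (t + 1))]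

theorem root_fix {i : Fin (t + 1)} {a : Fin k → F} (ha : a ≠ 0) {v : Idx k (t + 1) → F} (hv : v ∈ pp S (ax i a))
    (δ : F) : (1 + δ • slot i (pj f a) : Matrix (Idx k (t + 1)) (Idx k (t + 1)) F) *ᵥ v = v := by
  rw [Matrix.add_mulVec, Matrix.one_mulVec, Matrix.smul_mulVec, (mem_pp_ax S ha).1 hv, smul_zero, add_zero]

omit S
variable {M : Subgroup (GL (Idx k (t + 1)) F)}

/-- An element of the group whose root conjugate fixes an axis. -/
theorem mono_of_perp (ht : 1 ≤ t) (IH : Rigid σ f t) (hF : Full σ f M) (hP : ¬ RootsOn σ f M Finset.univ)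
    {g : GL (Idx k (t + 1)) F} (hg : g ∈ M) {i j : Fin (t + 1)} {a b : Fin k → F} (ha0 : a ≠ 0) (ha : f a a = 0)
    (hb0 : b ≠ 0) (hb : f b b = 0) (h : mp g (ax j b) ≤ pp hF.sp (ax i a)) : IsMonomial g := by
  by_contra hng
  have S := hF.sp
  obtain ⟨δ, -, -, z, hz, hze, hnz⟩ :=
    exists_not_mon ht IH hF hP (hF.iso g hg).sim (ConjS.of_mem hF hg) hng j hb0 hb
  refine hnz (isMonomial_of_maps (i := i) (j := i) ht IH hF hP (hF.iso z hz).sim (ConjS.of_mem hF hz) ha0 ha ha0 ha fun v hv => ?_)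
  have h1 : v ∈ mp g (pp S (ax j b)) := by
    rw [← pp_mp S (hF.iso g hg).sim]
    exact le_pp_comm S h hv
  rw [mem_mp] at h1
  rwa [hze, Matrix.add_mulVec, Matrix.one_mulVec, ← Matrix.mulVec_mulVec, ← Matrix.mulVec_mulVec,
    Matrix.smul_mulVec, (mem_pp_ax S hb0).1 h1, smul_zero, Matrix.mulVec_zero, add_zero]

/-- A bound for the meeting of an axis and a moved axis. -/
structure Top (σ : F ≃+* F) (f : (Fin k → F) → (Fin k → F) → F) (M : Subgroup (GL (Idx k (t + 1)) F)) (d : ℕ) :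
    Prop where
  ht : 1 ≤ t
  IH : Rigid σ f t
  full : Full σ f M
  proper : ¬ RootsOn σ f M Finset.univ
  max : ∀ g ∈ M, ¬ IsMonomial g → ∀ (i j : Fin (t + 1)) (a b : Fin k → F), a ≠ 0 → f a a = 0 → b ≠ 0 → f b b = 0 →
    finrank F ↥(ax i a ⊓ mp g (ax j b)) ≤ d

variable {d : ℕ}

/-- A moved axis meets the perpendicular of an axis in a small space. -/
theorem Top.inf_pp_le (T : Top σ f M d) {g : GL (Idx k (t + 1)) F} (hg : g ∈ M) (hng : ¬ IsMonomial g)
    {l j : Fin (t + 1)} {c b : Fin k → F} (hc0 : c ≠ 0) (hc : f c c = 0) (hb0 : b ≠ 0) (hb : f b b = 0) :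
    finrank F ↥(mp g (ax j b) ⊓ pp T.full.sp (ax l c)) ≤ d := by
  have S := T.full.sp
  obtain ⟨δ, -, -, z, hz, hze, hnz⟩ := exists_not_mon T.ht T.IH T.full T.proper (T.full.iso _ (M.inv_mem hg)).sim
    (ConjS.of_mem T.full (M.inv_mem hg)) (fun h => hng (by simpa using TensorWreathMax.isMonomial_inv h)) l hc0 hc
  have hle : mp g⁻¹ (mp g (ax j b) ⊓ pp S (ax l c)) ≤ ax j b ⊓ mp z (ax j b) := by
    rintro _ ⟨v, ⟨hv1, hv2⟩, rfl⟩
    rw [Matrix.mulVecLin_apply]
    have h1 := mem_mp.1 hv1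
    refine ⟨h1, ?_⟩
    have h2 : (z : Matrix (Idx k (t + 1)) (Idx k (t + 1)) F) *ᵥ
        (((g⁻¹ : GL (Idx k (t + 1)) F) : Matrix (Idx k (t + 1)) (Idx k (t + 1)) F) *ᵥ v) =
        ((g⁻¹ : GL (Idx k (t + 1)) F) : Matrix (Idx k (t + 1)) (Idx k (t + 1)) F) *ᵥ v := by
      rw [hze, Matrix.add_mulVec, Matrix.one_mulVec, ← Matrix.mulVec_mulVec, inv_inv, gl_mulVec_inv_mulVec,
        ← Matrix.mulVec_mulVec, Matrix.smul_mulVec, (mem_pp_ax S hc0).1 hv2, smul_zero, Matrix.mulVec_zero,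
        add_zero]
    rw [← h2]
    exact mulVec_mem_mp h1
  have h3 := (Submodule.finrank_mono hle).trans (T.max z hz hnz j j b b hb0 hb hb0 hb)
  rwa [finrank_mp] at h3

end CfsgLib.UnitWreathMax
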