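import Mathlib
import Cfsg.Agent.Lib.UnitWreathMax.Geometry
import Cfsg.Agent.Lib.Frobenius.Theorem
import Cfsg.Agent.Lib.Frobenius.Action
import Cfsg.Agent.Lib.Frobenius.QuadraticAbelian

/-!
The elements fixing the common perpendicular of an axis and a moved axis form a Frobenius group; this excludes odd
characteristic, and more than one root element at an axis in characteristic two.
-/

set_option autoImplicit false
set_option linter.unusedSectionVars false
set_option linter.unusedSimpArgs false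

namespace CfsgLib.UnitWreathMax

open Matrix Module
open scoped Kronecker
open CfsgLib.GeomClasses
open CfsgLib.Maximal.TensorPower
open CfsgLib.TensorWreathMax (In Idx split rx Ms in_ms_rx pl ct ct_pl nm nm_mulVec tvec tvec_tp rx_mulVec_tvec
  rx_slot_same rx_slot_succAbove kronecker_mulVec_pl fixer pl_sub_left pl_smul_left)

attribute [-simp] Matrix.coe_units_inv

variable {F : Type*} [Field F] {σ : F ≃+* F} {k t : ℕ} {f : (Fin k → F) → (Fin k → F) → F}

theorem tp_ne_zero {xs : Fin t → Fin k → F} (h : ∀ i, xs i ≠ 0) : tp xs ≠ 0 := by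
  choose θ hθ using fun i => TensorWreathMax.exists_dot_eq_one (h i)
  intro h0
  have h1 := TensorWreathMax.dot_tp θ xs
  rw [h0, dotProduct_zero, Finset.prod_eq_one fun i _ => hθ i] at h1
  exact zero_ne_one h1

variable [Fintype F] {M : Subgroup (GL (Idx k (t + 1)) F)} {d : ℕ}

section witness

variable {g : GL (Idx k (t + 1)) F} {i j : Fin (t + 1)} {a b : Fin k → F}

/-- An axis and a moved axis with the largest meeting. -/
structure Wit (σ : F ≃+* F) (f : (Fin k → F) → (Fin k → F) → F) (M : Subgroup (GL (Idx k (t + 1)) F)) (d : ℕ)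
    (g : GL (Idx k (t + 1)) F) (i j : Fin (t + 1)) (a b : Fin k → F) : Prop where
  top : Top σ f M d
  mem : g ∈ M
  nmono : ¬ IsMonomial g
  ha0 : a ≠ 0
  ha : f a a = 0
  hb0 : b ≠ 0
  hb : f b b = 0
  hd : finrank F ↥(ax i a ⊓ mp g (ax j b)) = d

variable (W : Wit σ f M d g i j a b)
include W

theorem Wit.moved_le_pp : mp g (ax j b) ≤ pp W.top.full.sp (mp g (ax j b)) := by
  rw [pp_mp W.top.full.sp (W.top.full.iso g W.mem).sim]
  exact Submodule.map_mono (ax_le_pp_self W.top.full.sp W.hb)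

theorem Wit.inf_pp_left : mp g (ax j b) ⊓ pp W.top.full.sp (ax i a) = ax i a ⊓ mp g (ax j b) := by
  refine (Submodule.eq_of_le_of_finrank_le
    (le_inf inf_le_right (inf_le_left.trans (ax_le_pp_self W.top.full.sp W.ha))) ?_).symm
  rw [W.hd]
  exact W.top.inf_pp_le W.mem W.nmono W.ha0 W.ha W.hb0 W.hb

theorem Wit.inf_pp_right : ax i a ⊓ pp W.top.full.sp (mp g (ax j b)) = ax i a ⊓ mp g (ax j b) := by
  have S := W.top.full.sp
  refine (Submodule.eq_of_le_of_finrank_le (le_inf inf_le_left (inf_le_right.trans W.moved_le_pp)) ?_).symm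
  rw [W.hd]
  have h := W.top.inf_pp_le (M.inv_mem W.mem)
    (fun h => W.nmono (by simpa using TensorWreathMax.isMonomial_inv h)) (l := j) (j := i) W.hb0 W.hb W.ha0 W.ha
  rwa [← finrank_mp g, mp_inf, mp_inv_mp, ← pp_mp S (W.top.full.iso g W.mem).sim] at h

theorem Wit.sup_eq : pp W.top.full.sp (ax i a ⊔ mp g (ax j b)) ⊔ ax i a = pp W.top.full.sp (ax i a) := by
  have S := W.top.full.sp
  have hle : pp S (ax i a ⊔ mp g (ax j b)) ⊔ ax i a ≤ pp S (ax i a) :=
    sup_le (pp_anti S le_sup_left) (ax_le_pp_self S W.ha)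
  refine Submodule.eq_of_le_of_finrank_le hle ?_
  have hi : pp S (ax i a ⊔ mp g (ax j b)) ⊓ ax i a = ax i a ⊓ mp g (ax j b) := by
    rw [pp_sup, inf_comm, ← inf_assoc, inf_of_le_left (ax_le_pp_self S W.ha), W.inf_pp_right]
  have e1 := Submodule.finrank_sup_add_finrank_inf_eq (pp S (ax i a ⊔ mp g (ax j b))) (ax i a)
  have e2 := Submodule.finrank_sup_add_finrank_inf_eq (ax i a) (mp g (ax j b))
  have e3 := finrank_pp S (ax i a ⊔ mp g (ax j b))
  have e4 := finrank_pp S (ax i a)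
  rw [hi, W.hd, finrank_ax i W.ha0] at e1
  rw [W.hd, finrank_mp, finrank_ax i W.ha0, finrank_ax j W.hb0] at e2
  rw [finrank_ax i W.ha0] at e4
  omega

set_option maxHeartbeats 400000 in
/-- No further axis lies in the span. -/
theorem Wit.axis_eq {l : Fin (t + 1)} {c : Fin k → F} (hc0 : c ≠ 0) (hc : f c c = 0)
    (h : ax l c ≤ ax i a ⊔ mp g (ax j b)) : ax l c = ax i a := by
  classical
  have S := W.top.full.sp
  have hk := S.three_le
  have hin : ∀ v ∈ ax i a ⊔ mp g (ax j b), v ∈ pp S (ax i a) → v ∈ ax i a := by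
    intro v hv hp
    have h1 : (ax i a ⊔ mp g (ax j b)) ⊓ pp S (ax i a) ≤ ax i a := by
      rw [sup_inf_assoc_of_le _ (ax_le_pp_self S W.ha), W.inf_pp_left, sup_of_le_left inf_le_left]
    exact h1 ⟨hv, hp⟩
  rcases Fin.eq_self_or_eq_succAbove i l with rfl | ⟨p, rfl⟩
  swap
  · exfalso
    obtain ⟨z, hza, hzz⟩ := S.exists_aniso a W.ha
    have hz0 : z ≠ 0 := fun h => hzz (by rw [h, Unit.zero_left S.unit])
    obtain ⟨ψ, hψa, hψz⟩ := TensorWreathMax.exists_perp_eq_one (x := a) (y := z) fun s hs => hzz (by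
      rw [hs, Unit.smul_left S.unit, Unit.smul_right S.unit, W.ha, mul_zero, mul_zero])
    set xs : Fin (t + 1) → Fin k → F := i.insertNth z (Function.update (fun _ => a) p c)
    have hv : tp xs ∈ ax (i.succAbove p) c := mem_ax.2 ⟨_, by rw [tvec_tp]; simp [xs]; rfl⟩
    have hvp : tp xs ∈ pp S (ax i a) := by
      rw [mem_pp_ax S W.ha0, slot_pj_eq_zero S W.ha0, tvec_tp, ct_pl, S.fdot]
      simp [xs, hza]
    obtain ⟨u, hu⟩ := mem_ax.1 (hin _ (h hv) hvp)
    have h1 := congrArg (ct ψ) hu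
    rw [tvec_tp, ct_pl, ct_pl, hψa, zero_smul] at h1
    simp only [xs, Fin.insertNth_apply_same, hψz, one_smul] at h1
    refine tp_ne_zero (fun q => ?_) h1
    simp only [Fin.removeNth, Fin.insertNth_apply_succAbove]
    rcases eq_or_ne q p with rfl | hq
    · simpa using hc0
    · simpa [hq] using W.ha0
  by_cases hca : f c a = 0
  · refine Submodule.eq_of_le_of_finrank_le (fun v hv => hin v (h hv) ?_)
      (by rw [finrank_ax l W.ha0, finrank_ax l hc0])
    obtain ⟨u, hu⟩ := mem_ax.1 hv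
    rw [mem_pp_ax S W.ha0, slot_pj_eq_zero S W.ha0, hu, ct_pl, S.fdot, hca, zero_smul]
  exfalso
  have hdis : ax l a ⊓ ax l c = ⊥ := (Submodule.eq_bot_iff _).2 fun v ⟨hv, hv'⟩ => by
    obtain ⟨u, hu⟩ := mem_ax.1 hv
    obtain ⟨u', hu'⟩ := mem_ax.1 hv'
    have h1 := congrArg (ct (fVec f a)) (hu.symm.trans hu')
    rw [ct_pl, ct_pl, S.fdot, S.fdot, W.ha, zero_smul] at h1
    refine (tvec l).injective ?_
    rw [hu', (smul_eq_zero.1 h1.symm).resolve_left hca, map_zero, map_zero]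
  have e1 := Submodule.finrank_sup_add_finrank_inf_eq (ax l a) (ax l c)
  rw [hdis, finrank_bot, finrank_ax l W.ha0, finrank_ax l hc0] at e1
  have e2 := Submodule.finrank_sup_add_finrank_inf_eq (ax l a) (mp g (ax j b))
  rw [W.hd, finrank_mp, finrank_ax l W.ha0, finrank_ax j W.hb0] at e2
  have hle : ax l a ⊔ ax l c ≤ ax l a ⊔ mp g (ax j b) := sup_le le_sup_left h
  have e3 := Submodule.finrank_mono hle
  have heq := Submodule.eq_of_le_of_finrank_le hle (by omega)
  obtain ⟨s, rfl⟩ : ∃ s, t = s + 1 := ⟨t - 1, by have := W.top.ht; omega⟩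
  set q : Fin (s + 1 + 1) := l.succAbove 0
  set φ := (slot q (pj f a) : Matrix (Idx k (s + 1 + 1)) (Idx k (s + 1 + 1)) F).mulVecLin with hφ
  have him : ∀ e, finrank F ↥((ax l e).map φ) ≤ k ^ s := fun e => by
    let L := ((tvec (F := F) (m := k) l).symm.toLinearMap ∘ₗ pl (μ := Idx k (s + 1)) e) ∘ₗ
      (slot (0 : Fin (s + 1)) (pj f a) : Matrix (Idx k (s + 1)) (Idx k (s + 1)) F).mulVecLin
    have hL : (ax l e).map φ ≤ LinearMap.range L := by
      rintro _ ⟨v, hv, rfl⟩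
      obtain ⟨u, hu⟩ := mem_ax.1 hv
      refine ⟨u, (tvec l).injective ?_⟩
      simp only [L, LinearMap.comp_apply, LinearEquiv.coe_coe, LinearEquiv.apply_symm_apply, hφ,
        Matrix.mulVecLin_apply]
      rw [← rx_mulVec_tvec, rx_slot_succAbove, hu, kronecker_mulVec_pl, Matrix.one_mulVec]
    refine (Submodule.finrank_mono hL).trans ?_
    rw [LinearMap.range_comp]
    refine (Submodule.finrank_map_le _ _).trans (le_of_eq ?_)
    exact rank_slot_pj S 0 W.ha0
  have hinj : Function.Injective (φ.domRestrict (mp g (ax j b))) := by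
    rw [← LinearMap.ker_eq_bot, LinearMap.ker_eq_bot']
    rintro ⟨v, hv⟩ hv0
    have h0 : (v : Idx k (s + 1 + 1) → F) ∈ mp g (ax j b) ⊓ pp S (ax q a) := ⟨hv, (mem_pp_ax S W.ha0).2 hv0⟩
    have hbot : mp g (ax j b) ⊓ pp S (ax q a) = ⊥ := by
      rw [← Submodule.finrank_eq_zero]
      have := W.top.inf_pp_le W.mem W.nmono (l := q) (j := j) W.ha0 W.ha W.hb0 W.hb
      omega
    rw [hbot, Submodule.mem_bot] at h0
    exact Subtype.ext h0
  have e4 := LinearMap.finrank_range_of_inj hinj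
  rw [finrank_mp, finrank_ax j W.hb0] at e4
  have e5 : LinearMap.range (φ.domRestrict (mp g (ax j b))) ≤ (ax l a).map φ ⊔ (ax l c).map φ := by
    rw [← Submodule.map_sup, heq]
    rintro _ ⟨v, rfl⟩
    exact ⟨v, le_sup_right (α := Submodule F (Idx k (s + 1 + 1) → F)) v.2, rfl⟩
  have e6 := Submodule.finrank_mono e5
  have e7 := Submodule.finrank_add_le_finrank_add_finrank ((ax l a).map φ) ((ax l c).map φ)
  have := him a
  have := him c
  have h3 : 3 * k ^ s ≤ k ^ (s + 1) := by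
    rw [pow_succ, mul_comm (k ^ s)]
    exact Nat.mul_le_mul_right _ hk
  have : 0 < k ^ s := pow_pos (by omega) s
  omega

omit W

/-- The tensor form of an element of the group stabilising an isotropic axis. -/
theorem Top.stab_axis (T : Top σ f M d) {s : GL (Idx k (t + 1)) F} (hs : s ∈ M) (ha0 : a ≠ 0) (ha : f a a = 0)
    (hL : ∀ v ∈ ax i a, (s : Matrix (Idx k (t + 1)) (Idx k (t + 1)) F) *ᵥ v ∈ ax i a) :
    ∃ (A : GL (Fin k) F) (τ : GL (Idx k t) F), rx i (s : Matrix (Idx k (t + 1)) (Idx k (t + 1)) F) =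
      (A : Matrix (Fin k) (Fin k) F) ⊗ₖ (τ : Matrix (Idx k t) (Idx k t) F) := by
  set gs := Cfsg.Geo.glReindex (F := F) (split i) s
  have hgs : (gs : Matrix _ _ F) = rx i (s : Matrix (Idx k (t + 1)) (Idx k (t + 1)) F) := rfl
  have hgsi : ((gs⁻¹ : GL (Fin k × Idx k t) F) : Matrix _ _ F) =
      rx i ((s⁻¹ : GL (Idx k (t + 1)) F) : Matrix (Idx k (t + 1)) (Idx k (t + 1)) F) := rfl
  obtain ⟨A, τ, h, -⟩ := (T.full.grp i).stab (T.full.onlyScalar T.proper i) (g := gs)
    ⟨1, one_ne_zero, fun x y => by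
      obtain ⟨x, rfl⟩ := (tvec i).surjective x
      obtain ⟨y, rfl⟩ := (tvec i).surjective y
      rw [hgs, rx_mulVec_tvec, rx_mulVec_tvec, tf_tvec, tf_tvec, T.full.iso s hs, one_mul]⟩
    (fun C hC => by
      have h1 := in_ms_rx (i := i).2 (ConjS.of_mem T.full hs i C hC)
      rwa [map_mul, map_mul, rx_slot_same, ← hgs, ← hgsi] at h1)
    ha0 ha (fun u => by
      obtain ⟨u', hu'⟩ := mem_ax.1 (hL _ (ax_pl i a u))
      exact ⟨u', by rw [hgs, ← (tvec i).apply_symm_apply (pl a u), rx_mulVec_tvec, hu']⟩)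
  exact ⟨A, τ, hgs ▸ h⟩

theorem Top.scalar_right (T : Top σ f M d) {A : Matrix (Fin k) (Fin k) F} {τ : Matrix (Idx k t) (Idx k t) F}
    (ha0 : a ≠ 0) (ha : f a a = 0)
    (h : ∀ c, f c a = 0 → ∀ u, ∃ u', pl (A *ᵥ c) (τ *ᵥ u) - pl c u = pl a u') :
    ∃ A' : Matrix (Fin k) (Fin k) F, A ⊗ₖ τ = A' ⊗ₖ (1 : Matrix (Idx k t) (Idx k t) F) := by
  haveI : NeZero k := ⟨by have := T.full.sp.three_le; omega⟩
  obtain ⟨z, hza, hzz⟩ := T.full.sp.exists_aniso a ha
  obtain ⟨ψ, hψa, hψz⟩ := TensorWreathMax.exists_perp_eq_one (x := a) (y := z) fun s hs => hzz (by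
    rw [hs, Unit.smul_left T.full.sp.unit, Unit.smul_right T.full.sp.unit, ha, mul_zero, mul_zero])
  have hτ : ∀ u, (ψ ⬝ᵥ (A *ᵥ z)) • (τ *ᵥ u) = u := fun u => by
    obtain ⟨u', hu'⟩ := h z hza u
    have h1 := congrArg (ct ψ) hu'
    rw [map_sub, ct_pl, ct_pl, ct_pl, hψz, hψa, one_smul, zero_smul, sub_eq_zero] at h1
    exact h1
  set e := ψ ⬝ᵥ (A *ᵥ z)
  have he : e ≠ 0 := fun h0 => by
    have := congrFun (hτ (Pi.single (0 : Idx k t) 1)) 0
    simp [h0] at this
  refine ⟨e⁻¹ • A, ?_⟩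
  rw [smul_kronecker, ← kronecker_smul]
  congr 1
  refine Matrix.ext_of_mulVec_single fun x => ?_
  rw [Matrix.smul_mulVec, Matrix.one_mulVec]
  conv_rhs => rw [← hτ (Pi.single x 1)]
  rw [smul_smul, inv_mul_cancel₀ he, one_smul]

/-- A map vanishing on the perpendicular of a vector. -/
theorem eq_vm_of_perp (S : Sp σ f) (ha0 : a ≠ 0) {B : Matrix (Fin k) (Fin k) F}
    (h : ∀ c, f c a = 0 → B *ᵥ c = 0) : ∃ w, B = vecMulVec w (fVec f a) := by
  obtain ⟨y, hy, -⟩ := S.exists_one ha0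
  refine ⟨B *ᵥ y, Matrix.ext_of_mulVec_single fun m => ?_⟩
  set x : Fin k → F := Pi.single m 1
  have h1 := h (x - f x a • y) (by rw [Unit.sub_left S.unit, Unit.smul_left S.unit, hy, mul_one, sub_self])
  rw [Matrix.mulVec_sub, Matrix.mulVec_smul, sub_eq_zero] at h1
  rw [vecMulVec_mulVec, op_smul_eq_smul, S.fdot, h1]

include W

/-- An element fixing the common perpendicular and stabilising the axis fixes its perpendicular. -/
theorem Wit.fix_of_stab {s : GL (Idx k (t + 1)) F} (hs : s ∈ M)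
    (hsD : ∀ v ∈ pp W.top.full.sp (ax i a ⊔ mp g (ax j b)),
      (s : Matrix (Idx k (t + 1)) (Idx k (t + 1)) F) *ᵥ v = v)
    (hL : ∀ v ∈ ax i a, (s : Matrix (Idx k (t + 1)) (Idx k (t + 1)) F) *ᵥ v ∈ ax i a) :
    ∀ v ∈ pp W.top.full.sp (ax i a), (s : Matrix (Idx k (t + 1)) (Idx k (t + 1)) F) *ᵥ v = v := by
  haveI : NeZero k := ⟨by have := W.top.full.sp.three_le; omega⟩
  have S := W.top.full.sp
  have hdiff : ∀ v ∈ pp S (ax i a), (s : Matrix (Idx k (t + 1)) (Idx k (t + 1)) F) *ᵥ v - v ∈ ax i a := by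
    intro v hv
    rw [← W.sup_eq, Submodule.mem_sup] at hv
    obtain ⟨x, hx, y, hy, rfl⟩ := hv
    rw [Matrix.mulVec_add, hsD x hx, add_sub_add_left_eq_sub]
    exact sub_mem (hL y hy) hy
  obtain ⟨A, τ, hAτ⟩ := W.top.stab_axis hs W.ha0 W.ha hL
  have hmem : ∀ c, f c a = 0 → ∀ u, (tvec i).symm (pl c u) ∈ pp S (ax i a) := fun c hc u => by
    rw [mem_pp_ax S W.ha0, slot_pj_eq_zero S W.ha0, LinearEquiv.apply_symm_apply, ct_pl, S.fdot, hc, zero_smul]
  have hc1 : ∀ c, f c a = 0 → ∀ u, ∃ u',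
      pl ((A : Matrix (Fin k) (Fin k) F) *ᵥ c) ((τ : Matrix (Idx k t) (Idx k t) F) *ᵥ u) - pl c u = pl a u' := by
    intro c hc u
    obtain ⟨u', hu'⟩ := mem_ax.1 (hdiff _ (hmem c hc u))
    rw [map_sub, ← rx_mulVec_tvec, hAτ, LinearEquiv.apply_symm_apply, kronecker_mulVec_pl] at hu'
    exact ⟨u', hu'⟩
  obtain ⟨A', hA'⟩ := W.top.scalar_right W.ha0 W.ha hc1
  obtain ⟨θ, hθ⟩ := TensorWreathMax.exists_dot_eq_one W.ha0
  set ζ : Fin k → F := θ ᵥ* (A' - 1)
  have hB : ∀ c, f c a = 0 → (A' - 1 - vecMulVec a ζ) *ᵥ c = 0 := by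
    intro c hc
    obtain ⟨u', hu'⟩ := hc1 c hc (Pi.single 0 1)
    rw [← kronecker_mulVec_pl, hA', kronecker_mulVec_pl, Matrix.one_mulVec] at hu'
    have h1 := congrArg (ct θ) hu'
    rw [← pl_sub_left, ct_pl, ct_pl, hθ, one_smul] at h1
    rw [← h1] at hu'
    funext m
    have h2 := congrFun hu' (m, 0)
    simp only [pl, LinearMap.coe_mk, AddHom.coe_mk, Pi.sub_apply, Pi.smul_apply, Pi.single_eq_same, smul_eq_mul,
      mul_one] at h2
    simp only [ζ, Matrix.sub_mulVec, Matrix.one_mulVec, vecMulVec_mulVec, op_smul_eq_smul, Pi.sub_apply,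
      Pi.smul_apply, smul_eq_mul, Pi.zero_apply, ← dotProduct_mulVec]
    rw [h2]
    ring
  obtain ⟨w₀, hw₀⟩ := eq_vm_of_perp S W.ha0 hB
  have hact : ∀ v, ct (fVec f a) (tvec i v) = 0 →
      tvec i ((s : Matrix (Idx k (t + 1)) (Idx k (t + 1)) F) *ᵥ v) = tvec i v + pl a (ct ζ (tvec i v)) := by
    intro v hv
    rw [← rx_mulVec_tvec, hAτ, hA', show A' = 1 + vecMulVec a ζ + vecMulVec w₀ (fVec f a) by rw [← hw₀]; abel,
      add_kronecker, add_kronecker, one_kronecker_one, Matrix.add_mulVec, Matrix.add_mulVec, Matrix.one_mulVec,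
      show vecMulVec a ζ ⊗ₖ (1 : Matrix (Idx k t) (Idx k t) F) = nm a ζ 1 from rfl,
      show vecMulVec w₀ (fVec f a) ⊗ₖ (1 : Matrix (Idx k t) (Idx k t) F) = nm w₀ (fVec f a) 1 from rfl,
      nm_mulVec, nm_mulVec, Matrix.one_mulVec, Matrix.one_mulVec, hv, map_zero, add_zero]
  by_cases hζa : ζ ⬝ᵥ a = 0
  · intro v hv
    rw [← W.sup_eq, Submodule.mem_sup] at hv
    obtain ⟨x, hx, y, hy, rfl⟩ := hv
    rw [Matrix.mulVec_add, hsD x hx]
    congr 1
    obtain ⟨u, hu⟩ := mem_ax.1 hy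
    refine (tvec i).injective ?_
    rw [hact y (by rw [hu, ct_pl, S.fdot, W.ha, zero_smul]), hu, ct_pl, hζa, zero_smul, map_zero, add_zero]
  exfalso
  obtain ⟨w, hw⟩ := (W.top.full.grp i).exists_fvec ζ
  have hwa : f w a ≠ 0 := Unit.ne_zero_comm S.unit (by rwa [← S.fdot, hw])
  obtain ⟨l, hl⟩ := Unit.exists_isotropic_add S.unit W.ha (x := w) hwa
  have hca : f (w + l • a) a ≠ 0 := by
    rwa [Unit.add_left S.unit, Unit.smul_left S.unit, W.ha, mul_zero, add_zero]
  have hc0 : w + l • a ≠ 0 := fun h => hca (by rw [h, Unit.zero_left S.unit])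
  have hle : ax i (w + l • a) ≤ ax i a ⊔ mp g (ax j b) := by
    rw [← pp_pp S (ax i a ⊔ mp g (ax j b))]
    refine le_pp_comm S fun v hv => ?_
    have hφv : ct (fVec f a) (tvec i v) = 0 :=
      (slot_pj_eq_zero S W.ha0).1 ((mem_pp_ax S W.ha0).1 (pp_anti S le_sup_left hv))
    have h1 := hact v hφv
    rw [hsD v hv, left_eq_add] at h1
    rw [mem_pp_ax S hc0, slot_pj_eq_zero S hc0, (Unit.sesq S.unit).fVec_add, S.fvec_smul, ct_add_left, ct_smul_left,
      hφv, hw, TensorWreathMax.pl_eq_zero W.ha0 h1, smul_zero, add_zero]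
  have heq := W.axis_eq hc0 hl hle
  have hv := ax_pl i (w + l • a) (Pi.single (0 : Idx k t) 1)
  rw [heq] at hv
  obtain ⟨u, hu⟩ := mem_ax.1 hv
  rw [LinearEquiv.apply_symm_apply] at hu
  have h2 := congrArg (ct (fVec f a)) hu
  rw [ct_pl, ct_pl, S.fdot, S.fdot, W.ha, zero_smul, smul_eq_zero] at h2
  exact h2.elim hca (by simp)

omit W

/-- The elements fixing the perpendicular of an axis. -/
theorem Top.root_of_fix (T : Top σ f M d) {s : GL (Idx k (t + 1)) F} (hs : s ∈ M) (ha0 : a ≠ 0) (ha : f a a = 0)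
    (hfix : ∀ v ∈ pp T.full.sp (ax i a), (s : Matrix (Idx k (t + 1)) (Idx k (t + 1)) F) *ᵥ v = v) :
    ∃ γ : F, γ + σ γ = 0 ∧
      (s : Matrix (Idx k (t + 1)) (Idx k (t + 1)) F) = 1 + γ • slot i (pj f a) := by
  haveI : NeZero k := ⟨by have := T.full.sp.three_le; omega⟩
  have S := T.full.sp
  obtain ⟨A, τ, hAτ⟩ := T.stab_axis hs ha0 ha fun v hv => by rw [hfix v (ax_le_pp_self S ha hv)]; exact hv
  have hc1 : ∀ c, f c a = 0 → ∀ u,
      pl ((A : Matrix (Fin k) (Fin k) F) *ᵥ c) ((τ : Matrix (Idx k t) (Idx k t) F) *ᵥ u) = pl c u := by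
    intro c hc u
    have h1 := hfix ((tvec i).symm (pl c u)) (by
      rw [mem_pp_ax S ha0, slot_pj_eq_zero S ha0, LinearEquiv.apply_symm_apply, ct_pl, S.fdot, hc, zero_smul])
    have h2 := congrArg (tvec i) h1
    rwa [← rx_mulVec_tvec, hAτ, LinearEquiv.apply_symm_apply, kronecker_mulVec_pl] at h2
  obtain ⟨A', hA'⟩ := T.scalar_right ha0 ha fun c hc u => ⟨0, by rw [hc1 c hc u, sub_self, map_zero]⟩
  have hB : ∀ c, f c a = 0 → (A' - 1) *ᵥ c = 0 := by
    intro c hc
    funext m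
    have h1 := hc1 c hc (Pi.single 0 1)
    rw [← kronecker_mulVec_pl, hA', kronecker_mulVec_pl, Matrix.one_mulVec] at h1
    have h2 := congrFun h1 (m, 0)
    simp only [pl, LinearMap.coe_mk, AddHom.coe_mk, Pi.single_eq_same, mul_one] at h2
    rw [Matrix.sub_mulVec, Matrix.one_mulVec, Pi.sub_apply, h2, sub_self, Pi.zero_apply]
  obtain ⟨w, hw⟩ := eq_vm_of_perp S ha0 hB
  have hx : ∀ x, A' *ᵥ x = x + f x a • w := fun x => by
    rw [show A' = 1 + vecMulVec w (fVec f a) by rw [← hw]; abel, Matrix.add_mulVec, Matrix.one_mulVec,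
      vecMulVec_mulVec, op_smul_eq_smul, S.fdot]
  have G := T.full.grp i
  obtain ⟨u, u', hu⟩ : ∃ u u', fog σ (Gm f t) u u' = 1 := by
    obtain ⟨u', hu'⟩ := (G.unitary.nondegenerate (Pi.single (0 : Idx k t) 1) (by simp)).2
    exact ⟨(fog σ (Gm f t) (Pi.single 0 1) u')⁻¹ • Pi.single 0 1, u', by
      rw [Unit.smul_left G.unitary, inv_mul_cancel₀ hu']⟩
  have hpres : ∀ x y, f (A' *ᵥ x) (A' *ᵥ y) = f x y := by
    intro x y
    have h1 := G.iso (Cfsg.Geo.glReindex (F := F) (split i) s) (by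
      obtain ⟨g', hg', hge⟩ := in_ms_rx (i := i).2 (⟨s, hs, rfl⟩ : In M (s : Matrix _ _ F))
      convert hg'
      exact Units.ext hge.symm) (pl x u) (pl y u')
    rw [show ((Cfsg.Geo.glReindex (F := F) (split i) s : GL (Fin k × Idx k t) F) : Matrix _ _ F) =
      rx i (s : Matrix (Idx k (t + 1)) (Idx k (t + 1)) F) from rfl, hAτ, hA', kronecker_mulVec_pl,
      kronecker_mulVec_pl, Matrix.one_mulVec, Matrix.one_mulVec, G.hp_pl, G.hp_pl, hu, mul_one, mul_one] at h1
    exact h1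
  obtain ⟨b₀, hb₀, hb₀a, hab₀⟩ := S.exists_partner ha0 ha
  have hxw : ∀ x, f x a = 0 → f x w = 0 := fun x hxa => by
    have h1 := hpres x b₀
    rw [hx, hx, hxa, hb₀a, zero_smul, add_zero, one_smul, Unit.add_right S.unit, add_eq_left] at h1
    exact h1
  have hwe : w = f w b₀ • a := by
    by_contra hne
    obtain ⟨y, hy⟩ := (S.unit.nondegenerate _ (sub_ne_zero.2 hne)).1
    refine hy ?_
    have h1 := hxw (y - f y a • b₀) (by rw [Unit.sub_left S.unit, Unit.smul_left S.unit, hb₀a, mul_one, sub_self])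
    rw [Unit.sub_left S.unit, Unit.smul_left S.unit, ← Unit.conj_form S.unit w b₀] at h1
    rw [Unit.sub_right S.unit, Unit.smul_right S.unit, mul_comm]
    exact h1
  refine ⟨f w b₀, ?_, (rx i).injective ?_⟩
  · have h1 := hpres b₀ b₀
    rw [hx, hb₀a, one_smul, hwe, Unit.self_add_smul S.unit, hb₀, ha, hab₀, mul_zero, zero_add, zero_add, mul_one] at h1
    exact h1
  · rw [hAτ, hA', map_add, map_one, map_smul, rx_slot_same, ← smul_kronecker, ← one_kronecker_one, ← add_kronecker,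
      pj, ← smul_vecMulVec, ← hwe, ← hw, add_sub_cancel]

include W

set_option maxHeartbeats 800000 in
/-- There is no such pair in odd characteristic, nor in characteristic two with further fixed scalars. -/
theorem Wit.false_of_frobenius (hF : (2 : F) ≠ 0 ∨ ∃ s : F, σ s = s ∧ s ≠ 0 ∧ s ≠ 1) : False := by
  classical
  have S := W.top.full.sp
  have hFull := W.top.full
  set D := pp S (ax i a ⊔ mp g (ax j b))
  set G := M ⊓ fixer D with hG
  set S' := M ⊓ fixer (pp S (ax i a))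
  have hDL : D ≤ pp S (ax i a) := pp_anti S le_sup_left
  have hSG : S' ≤ G := fun s hs => ⟨hs.1, fun w hw => hs.2 w (hDL hw)⟩
  have hroot : ∀ {c : Fin k → F}, c ≠ 0 → f c c = 0 → ∀ (l : Fin (t + 1)) (δ : F), δ + σ δ = 0 →
      ∃ x ∈ M, (x : Matrix (Idx k (t + 1)) (Idx k (t + 1)) F) = 1 + δ • slot l (pj f c) := by
    intro c _ hc l δ hδ
    obtain ⟨x, hx, hxe⟩ := hFull.su_mem l _ (S.formTv_mem hc hδ)
    exact ⟨x, hx, by rw [hxe, S.formTv_val hc, map_add, slot_one, map_smul]⟩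
  have hrootS : ∀ δ : F, δ + σ δ = 0 → ∃ x ∈ S', (x : Matrix (Idx k (t + 1)) (Idx k (t + 1)) F) =
      1 + δ • slot i (pj f a) := fun δ hδ => by
    obtain ⟨x, hx, hxe⟩ := hroot W.ha0 W.ha i δ hδ
    exact ⟨x, ⟨hx, fun v hv => by rw [hxe]; exact root_fix S W.ha0 hv δ⟩, hxe⟩
  obtain ⟨δ, hδ0, hδ⟩ := Unit.exists_skew S.unit.ne_refl S.invol
  have hP0 : (slot i (pj f a) : Matrix (Idx k (t + 1)) (Idx k (t + 1)) F) ≠ 0 := fun h =>
    S.pj_ne_zero W.ha0 (TensorWreathMax.slot_eq_zero S.three_le h)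
  have hinjr : ∀ γ γ' : F, (1 : Matrix (Idx k (t + 1)) (Idx k (t + 1)) F) + γ • slot i (pj f a) =
      1 + γ' • slot i (pj f a) → γ = γ' := fun γ γ' h => by
    have h1 := add_left_cancel h
    rw [← sub_eq_zero, ← sub_smul, smul_eq_zero, sub_eq_zero] at h1
    exact h1.resolve_right hP0
  let H : Subgroup G := S'.subgroupOf G
  obtain ⟨x, hxS, hxe⟩ := hrootS δ hδ
  have hx1 : x ≠ 1 := fun h => hδ0 (hinjr δ 0 (by rw [← hxe, h, zero_smul, add_zero]; rfl))
  have hFrob : Cfsg.IsFrobeniusComplement H := by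
    refine ⟨?_, ?_, ?_⟩
    · intro hbot
      have h1 : (⟨x, hSG hxS⟩ : G) = 1 := Subgroup.mem_bot.1 (hbot ▸ (hxS : (⟨x, hSG hxS⟩ : G) ∈ H))
      exact hx1 (congrArg Subtype.val h1)
    · intro htop
      obtain ⟨y, hy, hye⟩ := hroot W.hb0 W.hb j δ hδ
      set x' := g * y * g⁻¹
      have hx'M : x' ∈ M := M.mul_mem (M.mul_mem W.mem hy) (M.inv_mem W.mem)
      have hx'v : ∀ v, (x' : Matrix (Idx k (t + 1)) (Idx k (t + 1)) F) *ᵥ v =
          v + δ • ((g : Matrix _ _ F) *ᵥ (slot j (pj f b) *ᵥ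
            (((g⁻¹ : GL (Idx k (t + 1)) F) : Matrix (Idx k (t + 1)) (Idx k (t + 1)) F) *ᵥ v))) := fun v => by
        simp only [x', gl_mul_mulVec, hye, Matrix.add_mulVec, Matrix.one_mulVec, Matrix.smul_mulVec,
          Matrix.mulVec_add, Matrix.mulVec_smul, gl_mulVec_inv_mulVec]
      have hx'G : x' ∈ G := ⟨hx'M, fun v hv => by
        have h1 : v ∈ mp g (pp S (ax j b)) := by
          rw [← pp_mp S (hFull.iso g W.mem).sim]
          exact pp_anti S le_sup_right hv
        rw [hx'v, (mem_pp_ax S W.hb0).1 (mem_mp.1 h1), Matrix.mulVec_zero, smul_zero, add_zero]⟩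
      have hx'S : x' ∈ S' := (htop ▸ Subgroup.mem_top (⟨x', hx'G⟩ : G) : (⟨x', hx'G⟩ : G) ∈ H)
      obtain ⟨γ, -, hγ⟩ := W.top.root_of_fix hx'M W.ha0 W.ha hx'S.2
      refine W.nmono (isMonomial_of_maps (i := i) (j := j) W.top.ht W.top.IH hFull W.top.proper
        (hFull.iso g W.mem).sim (ConjS.of_mem hFull W.mem) W.ha0 W.ha W.hb0 W.hb fun v hv => ?_)
      obtain ⟨w, rfl⟩ := exists_slot_pj S W.hb0 hv
      have h1 := hx'v ((g : Matrix _ _ F) *ᵥ w)
      rw [hγ, gl_inv_mulVec_mulVec, Matrix.add_mulVec, Matrix.one_mulVec, add_right_inj] at h1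
      have h2 : (g : Matrix (Idx k (t + 1)) (Idx k (t + 1)) F) *ᵥ (slot j (pj f b) *ᵥ w) =
          δ⁻¹ • ((γ • slot i (pj f a) : Matrix (Idx k (t + 1)) (Idx k (t + 1)) F) *ᵥ
            ((g : Matrix (Idx k (t + 1)) (Idx k (t + 1)) F) *ᵥ w)) := by
        rw [h1, smul_smul, inv_mul_cancel₀ hδ0, one_smul]
      rw [h2, Matrix.smul_mulVec, smul_smul]
      exact Submodule.smul_mem _ _ (slot_pj_mem_ax S i a _)
    · intro y hy
      rw [eq_bot_iff]
      rintro s ⟨hs1, hs2⟩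
      rw [Subgroup.mem_bot]
      by_contra hs0
      obtain ⟨s', hs', rfl⟩ := Subgroup.mem_map.1 (by simpa [Subgroup.pointwise_smul_def] using hs2 :
        s ∈ H.map (MulAut.conj y).toMonoidHom)
      obtain ⟨γ, -, hγ⟩ := W.top.root_of_fix (Subgroup.mem_subgroupOf.1 hs1).1 W.ha0 W.ha
        (Subgroup.mem_subgroupOf.1 hs1).2
      obtain ⟨γ', -, hγ'⟩ := W.top.root_of_fix (Subgroup.mem_subgroupOf.1 hs').1 W.ha0 W.ha
        (Subgroup.mem_subgroupOf.1 hs').2
      have hγ'0 : γ' ≠ 0 := fun h => hs0 (by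
        have e : s' = 1 := Subtype.ext (Units.ext (by rw [hγ', h, zero_smul, add_zero]; rfl))
        rw [e, map_one])
      refine hy (Subgroup.mem_subgroupOf.2 ⟨y.2.1, W.fix_of_stab y.2.1 y.2.2 fun v hv => ?_⟩)
      obtain ⟨w, rfl⟩ := exists_slot_pj S W.ha0 hv
      have hconj : ((MulAut.conj y).toMonoidHom s' : G) * y = y * s' := by
        show y * s' * y⁻¹ * y = y * s'
        group
      have h1 := congrArg (fun z : G => ((z : GL (Idx k (t + 1)) F) : Matrix (Idx k (t + 1)) (Idx k (t + 1)) F) *ᵥ w)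
        hconj
      simp only [Subgroup.coe_mul, gl_mul_mulVec, hγ, hγ', Matrix.add_mulVec, Matrix.one_mulVec, Matrix.mulVec_add,
        Matrix.smul_mulVec, Matrix.mulVec_smul, add_right_inj] at h1
      rw [← one_smul F (_ *ᵥ (slot i (pj f a) *ᵥ w)), ← inv_mul_cancel₀ hγ'0, ← smul_smul, ← h1, smul_smul]
      exact Submodule.smul_mem _ _ (slot_pj_mem_ax S i a _)
  obtain ⟨N, -, hN, hNH⟩ := Frobenius.exists_normal_kernel hFrob
  obtain ⟨p, hpc⟩ := CharP.exists F
  haveI : Fact p.Prime := ⟨CharP.char_is_prime F p⟩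
  by_cases h2 : (2 : F) = 0
  · -- the complement is elementary abelian of order at least three
    obtain ⟨s, hs, hs0, hs1⟩ := hF.resolve_left (fun h => h h2)
    haveI : IsMulCommutative H := ⟨⟨fun y z => by
      obtain ⟨γ, -, hγ⟩ := W.top.root_of_fix (Subgroup.mem_subgroupOf.1 y.2).1 W.ha0 W.ha (Subgroup.mem_subgroupOf.1 y.2).2
      obtain ⟨γ', -, hγ'⟩ := W.top.root_of_fix (Subgroup.mem_subgroupOf.1 z.2).1 W.ha0 W.ha (Subgroup.mem_subgroupOf.1 z.2).2
      apply Subtype.ext; apply Subtype.ext; apply Units.ext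
      simp only [Subgroup.coe_mul, Units.val_mul, Subgroup.coe_subtype] at hγ hγ' ⊢
      rw [hγ, hγ']
      simp only [add_mul, mul_add, one_mul, mul_one, smul_mul_assoc, mul_smul_comm, slot_mul, S.pj_mul_self W.ha,
        map_zero, smul_zero, add_zero]
      abel⟩⟩
    obtain ⟨y₀, hy₀⟩ := (Frobenius.isCyclic_le_complement_of_commutative hFrob (K := N) hNH (L := H)
      le_rfl).exists_generator
    have hsq : y₀ ^ 2 = 1 := by
      obtain ⟨γ, -, hγ⟩ := W.top.root_of_fix (Subgroup.mem_subgroupOf.1 y₀.2).1 W.ha0 W.ha (Subgroup.mem_subgroupOf.1 y₀.2).2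
      apply Subtype.ext; apply Subtype.ext; apply Units.ext
      simp only [pow_two, Subgroup.coe_mul, Units.val_mul, OneMemClass.coe_one, Units.val_one, hγ]
      simp only [add_mul, mul_add, one_mul, mul_one, smul_mul_assoc, mul_smul_comm, slot_mul, S.pj_mul_self W.ha,
        map_zero, smul_zero, add_zero]
      rw [add_assoc, ← two_smul F, h2, zero_smul, add_zero]
    have hel : ∀ z : H, z = 1 ∨ z = y₀ := fun z => by
      obtain ⟨n, rfl⟩ := Subgroup.mem_zpowers_iff.1 (hy₀ z)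
      rcases Int.even_or_odd' n with ⟨m, rfl | rfl⟩
      · exact Or.inl (by rw [_root_.zpow_mul, show ((2 : ℤ)) = ((2 : ℕ) : ℤ) from rfl, zpow_natCast, hsq, _root_.one_zpow])
      · exact Or.inr (by
          rw [_root_.zpow_add, _root_.zpow_mul, show ((2 : ℤ)) = ((2 : ℕ) : ℤ) from rfl, zpow_natCast, hsq, _root_.one_zpow, one_mul,
            zpow_one])
    have h1σ : (1 : F) + σ 1 = 0 := by rw [map_one, one_add_one_eq_two, h2]
    have hsσ : s + σ s = 0 := by rw [hs, ← two_mul, h2, zero_mul]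
    obtain ⟨x1, hx1S, hx1e⟩ := hrootS 1 h1σ
    obtain ⟨x2, hx2S, hx2e⟩ := hrootS s hsσ
    have hne : ∀ {γ : F} {y : GL (Idx k (t + 1)) F} (hy : y ∈ S'), γ ≠ 0 →
        (y : Matrix (Idx k (t + 1)) (Idx k (t + 1)) F) = 1 + γ • slot i (pj f a) →
        (⟨⟨y, hSG hy⟩, hy⟩ : H) ≠ 1 := fun {γ y} hy hγ0 hye h => hγ0 (hinjr _ 0 (by
          rw [← hye, congrArg (fun z : H => ((z : G) : GL (Idx k (t + 1)) F)) h |>.trans rfl |> fun e : y = 1 => e,
            zero_smul, add_zero]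
          rfl))
    have e1 := (hel _).resolve_left (hne hx1S one_ne_zero hx1e)
    have e2 := (hel _).resolve_left (hne hx2S hs0 hx2e)
    refine hs1 (hinjr _ _ ?_).symm
    rw [← hx1e, ← hx2e,
      show x1 = x2 from congrArg (fun z : H => ((z : G) : GL (Idx k (t + 1)) F)) (e1.trans e2.symm)]
  · -- quadratic elements centralise in odd characteristic
    have hp2 : p ≠ 2 := fun h => h2 (by subst h; exact_mod_cast CharP.cast_eq_zero F 2)
    haveI : Nontrivial N := Finite.one_lt_card_iff_nontrivial.1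
      (by rw [← hNH.index_eq_card]; exact Frobenius.one_lt_index hFrob)
    letI : MulDistribMulAction H N :=
      MulDistribMulAction.compHom N ((MulAut.conjNormal (H := N)).comp H.subtype)
    have hfpf : Frobenius.IsFPF H N := Frobenius.fpf_of_complement hFrob hNH.disjoint
    haveI : NeZero k := ⟨by have := S.three_le; omega⟩
    set xH : H := ⟨⟨x, hSG hxS⟩, hxS⟩
    have hA2 : δ • slot i (pj f a) * (δ • slot i (pj f a) : Matrix (Idx k (t + 1)) (Idx k (t + 1)) F) = 0 := by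
      rw [smul_mul_assoc, mul_smul_comm, slot_mul, S.pj_mul_self W.ha, map_zero, smul_zero, smul_zero]
    have hxH1 : xH ≠ 1 := fun h => hx1 (congrArg (fun z : H => ((z : G) : GL (Idx k (t + 1)) F)) h)
    have hxp : xH ^ p = 1 := by
      haveI : CharP (Matrix (Idx k (t + 1)) (Idx k (t + 1)) F) p := inferInstance
      apply Subtype.ext; apply Subtype.ext; apply Units.ext
      simp only [SubmonoidClass.coe_pow, Units.val_pow_eq_pow_val, OneMemClass.coe_one, Units.val_one, xH]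
      rw [hxe, add_pow_char_of_commute p (Commute.one_left _), one_pow,
        pow_eq_zero_of_le (Fact.out : p.Prime).two_le (by rw [pow_two, hA2]), add_zero]
    have hord : orderOf xH = p := orderOf_eq_prime hxp hxH1
    have hcop := hfpf.coprime_card
    obtain ⟨ℓ, hℓ, hℓd⟩ := Nat.exists_prime_and_dvd (Finite.one_lt_card (α := N)).ne'
    haveI : Fact ℓ.Prime := ⟨hℓ⟩
    obtain ⟨P, hP⟩ := hfpf.exists_invariant_sylow ℓ
    haveI : Nontrivial (P : Subgroup N) := Subgroup.nontrivial_iff_ne_bot _ |>.2 (P.ne_bot_of_dvd_card hℓd)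
    haveI := P.2.center_nontrivial
    obtain ⟨⟨⟨b₁, hb₁P⟩, hb₁c⟩, hb₁⟩ := exists_ne (1 : Subgroup.center (P : Subgroup N))
    have hb₁1 : b₁ ≠ 1 := fun h => hb₁ (by subst h; rfl)
    have hcomm : ∀ y ∈ P, y * b₁ = b₁ * y := fun y hy =>
      congrArg Subtype.val (Subgroup.mem_center_iff.1 hb₁c ⟨y, hy⟩)
    set B := (((b₁ : G) : GL (Idx k (t + 1)) F) : Matrix (Idx k (t + 1)) (Idx k (t + 1)) F) with hBdef
    set A := (δ • slot i (pj f a) : Matrix (Idx k (t + 1)) (Idx k (t + 1)) F)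
    have hXinv : ((x⁻¹ : GL (Idx k (t + 1)) F) : Matrix (Idx k (t + 1)) (Idx k (t + 1)) F) = 1 - A := by
      refine Units.inv_eq_of_mul_eq_one_right ?_
      rw [hxe, mul_sub, mul_one, add_mul, one_mul, hA2, add_zero, add_sub_cancel_right]
    have hN' : ∀ y : H, ∀ n ∈ P, Commute (((((y : G) * (n : N) * (y : G)⁻¹ : G)) : GL (Idx k (t + 1)) F) :
        Matrix (Idx k (t + 1)) (Idx k (t + 1)) F) B := by
      intro y n hn
      have h1 := hcomm _ (hP y n hn)
      have h2 := congrArg (fun z : N => (((z : G) : GL (Idx k (t + 1)) F) : Matrix (Idx k (t + 1)) (Idx k (t + 1)) F)) h1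
      simp only [Subgroup.coe_mul, Units.val_mul] at h2
      exact h2
    have hm : ∀ Z : Matrix (Idx k (t + 1)) (Idx k (t + 1)) F, orderOf b₁ • Z = 0 → Z = 0 := by
      intro Z hZ
      rw [← Nat.cast_smul_eq_nsmul F, smul_eq_zero] at hZ
      refine hZ.resolve_left fun h => ?_
      rw [CharP.cast_eq_zero_iff F p] at h
      have h3 : p ∣ Nat.card H := hord ▸ orderOf_dvd_natCard xH
      exact (Fact.out : p.Prime).not_dvd_one (hcop ▸ Nat.dvd_gcd h3 (h.trans (orderOf_dvd_natCard b₁)))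
    have hc := Frobenius.QuadAb.commute_of_conjugates (n := A) (b := B) (orderOf_pos b₁).ne'
      (by
        rw [hBdef, ← Units.val_pow_eq_pow_val, ← SubgroupClass.coe_pow, ← SubgroupClass.coe_pow,
          pow_orderOf_eq_one]
        rfl)
      (fun Z hZ => by
        rw [← Nat.cast_smul_eq_nsmul F, smul_eq_zero] at hZ
        exact hZ.resolve_left (by exact_mod_cast h2))
      hm
      (by
        have h1 := hN' xH b₁ hb₁P
        simp only [Subgroup.coe_mul, Subgroup.coe_inv, Units.val_mul, xH] at h1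
        rwa [hxe, hXinv] at h1)
      (by
        have h1 := hN' xH⁻¹ b₁ hb₁P
        simp only [Subgroup.coe_mul, Subgroup.coe_inv, Units.val_mul, inv_inv, xH] at h1
        rwa [hxe, hXinv] at h1)
    refine hb₁1 (hfpf xH hxH1 b₁ (Subtype.ext ?_))
    show (xH : G) * b₁ * (xH : G)⁻¹ = b₁
    apply Subtype.ext; apply Units.ext
    simp only [Subgroup.coe_mul, Subgroup.coe_inv, Units.val_mul, xH]
    rw [hxe, hXinv, ← hBdef, add_mul, one_mul, hc.eq, ← mul_one_add B, mul_assoc, mul_sub, mul_one, add_mul, one_mul, hA2,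
      add_zero, add_sub_cancel_right, mul_one]

end witness

end CfsgLib.UnitWreathMax
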