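import Mathlib
import Cfsg.Agent.Lib.UnitWreathMax.Involution

/-!
A proper group containing the special unitary groups of the factors and the permutations of the factors consists of
monomial operators.
-/

set_option autoImplicit false
set_option linter.unusedSectionVars false
set_option linter.unusedSimpArgs false

namespace CfsgLib.UnitWreathMax

open Matrix Module
open scoped Kronecker
open CfsgLib.GeomClasses
open CfsgLib.Maximal.TensorPower
open CfsgLib.TensorWreathMax (Idx)

attribute [-simp] Matrix.coe_units_inv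

variable {F : Type*} [Field F] [Fintype F] {σ : F ≃+* F} {k t : ℕ} {f : (Fin k → F) → (Fin k → F) → F}

/-- The group itself is monomial. -/
theorem forall_mem_isMonomial (ht : 1 ≤ t) (IH : Rigid σ f t) {M : Subgroup (GL (Idx k (t + 1)) F)}
    (hF : Full σ f M) (hP : ¬ RootsOn σ f M Finset.univ) : ∀ g ∈ M, IsMonomial g := by
  classical
  have S := hF.sp
  by_contra hcon
  push Not at hcon
  obtain ⟨g₀, hg₀, hng₀⟩ := hcon
  let P : ℕ → Prop := fun d => ∃ g ∈ M, ¬ IsMonomial g ∧ ∃ (i j : Fin (t + 1)) (a b : Fin k → F),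
    a ≠ 0 ∧ f a a = 0 ∧ b ≠ 0 ∧ f b b = 0 ∧ finrank F ↥(ax i a ⊓ mp g (ax j b)) = d
  have hbound : ∀ d, P d → d ≤ finrank F (Idx k (t + 1) → F) := by
    rintro d ⟨g, -, -, i, j, a, b, -, -, -, -, rfl⟩
    exact Submodule.finrank_le _
  obtain ⟨a₀, ha₀, ha₀a⟩ := S.exists_iso
  have hex : ∃ d, P d := ⟨_, g₀, hg₀, hng₀, 0, 0, a₀, a₀, ha₀, ha₀a, ha₀, ha₀a, rfl⟩
  obtain ⟨d, hPd, hmax⟩ : ∃ d, P d ∧ ∀ d', P d' → d' ≤ d :=
    ⟨Nat.findGreatest P (finrank F (Idx k (t + 1) → F)), Nat.findGreatest_spec (hbound _ hex.choose_spec) hex.choose_spec,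
      fun d' hd' => Nat.le_findGreatest (hbound d' hd') hd'⟩
  obtain ⟨g, hg, hng, i, j, a, b, ha0, ha, hb0, hb, hd⟩ := hPd
  have T : Top σ f M d := ⟨ht, IH, hF, hP, fun g hg hng i j a b ha0 ha hb0 hb =>
    hmax _ ⟨g, hg, hng, i, j, a, b, ha0, ha, hb0, hb, rfl⟩⟩
  have W : Wit σ f M d g i j a b := ⟨T, hg, hng, ha0, ha, hb0, hb, hd⟩
  by_cases h2 : (2 : F) = 0
  · rcases S.small with hs | hk
    · exact W.false_of_frobenius (Or.inr hs)
    · exact W.false_of_char_two h2 hk
  · exact W.false_of_frobenius (Or.inl h2)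

/-- Every similitude conjugating the special unitary groups of the factors into the group is monomial. -/
theorem rigidity (S : Sp σ f) : ∀ t, 1 ≤ t → Rigid σ f t := by
  intro t ht
  induction t with
  | zero => omega
  | succ t ih =>
    rcases Nat.eq_zero_or_pos t with rfl | ht'
    · exact fun M _ _ g _ _ => TensorWreathMax.isMonomial_of_one g
    intro M hF hP g hsim hg
    by_contra hng
    obtain ⟨a, ha0, ha⟩ := S.exists_iso
    obtain ⟨δ, -, -, z, hz, -, hnz⟩ := exists_not_mon ht' (ih ht') hF hP hsim hg hng 0 ha0 ha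
    exact hnz (forall_mem_isMonomial ht' (ih ht') hF hP z hz)

end CfsgLib.UnitWreathMax
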