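import Mathlib
import Cfsg.Agent.Lib.UnitWreathMax.Main
import Cfsg.Agent.Lib.UnitWreathMax.Full
import Cfsg.Agent.Lib.GeomClasses.UnitTensor.Main
import Cfsg.Agent.Lib.TensorWreathMax.Apply

/-!
The stabiliser of a tensor power decomposition of a unitary space is maximal in the special unitary group.
-/

set_option autoImplicit false
set_option linter.unusedSectionVars false
set_option linter.unusedSimpArgs false

namespace CfsgLib.UnitWreathMax

open Matrix Module
open scoped Kronecker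
open CfsgLib.GeomClasses
open CfsgLib.Maximal.TensorPower
open CfsgLib.TensorWreathMax (In Idx split rx pl ct ct_pl tvec tvec_tp permM permM_mulVec permM_mul_self)

attribute [-simp] Matrix.coe_units_inv

variable {F : Type*} [Field F] {σ : F ≃+* F} {k t : ℕ} {f : (Fin k → F) → (Fin k → F) → F}

theorem Sp.tf_tp (S : Sp σ f) (x y : Fin t → Fin k → F) : tf σ f t (tp x) (tp y) = ∏ i, f (x i) (y i) := by
  rw [tf, fog_eq, show (fun b => σ (tp y b)) = tp (fun i b => σ (y i b)) from funext fun b => by simp [tp, map_prod],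
    pm_mulVec, TensorWreathMax.dot_tp]
  exact Finset.prod_congr rfl fun i _ => by rw [eq_fog S.unit, fog_eq]

/-- A sign making the determinant of a transposition of factors trivial. -/
theorem exists_sign_smul_permM (hk : 3 ≤ k) (ht : 3 ≤ t) (j l : Fin t) (hjl : j ≠ l) :
    ∃ c : F, (c = 1 ∨ c = -1) ∧ (c • (permM (Equiv.swap j l) : Matrix (Idx k t) (Idx k t) F)).det = 1 := by
  classical
  obtain ⟨t, rfl⟩ : ∃ s, t = s + 1 := ⟨t - 1, by omega⟩
  have hsq := congrArg Matrix.det (permM_mul_self (F := F) (m := k) (Equiv.swap_mul_self j l))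
  rw [Matrix.det_mul, Matrix.det_one, mul_self_eq_one_iff] at hsq
  rcases hsq with h | h
  · exact ⟨1, Or.inl rfl, by rwa [one_smul]⟩
  rcases Nat.even_or_odd k with hk2 | hk2
  · refine ⟨1, Or.inl rfl, ?_⟩
    obtain ⟨o, hoj, hol⟩ : ∃ o : Fin (t + 1), o ≠ j ∧ o ≠ l := by
      by_contra hcon
      push Not at hcon
      have : (Finset.univ : Finset (Fin (t + 1))) ⊆ {j, l} := fun s _ => by
        by_cases h1 : s = j
        · simp [h1]
        · simp [hcon s h1]
      have := (Finset.card_le_card this).trans Finset.card_le_two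
      simp at this
      omega
    obtain ⟨j', rfl⟩ := Fin.exists_succAbove_eq hoj.symm
    obtain ⟨l', rfl⟩ := Fin.exists_succAbove_eq hol.symm
    have hjl' : j' ≠ l' := fun h => hjl (by rw [h])
    have hsq' := congrArg Matrix.det (permM_mul_self (F := F) (m := k) (Equiv.swap_mul_self j' l'))
    rw [Matrix.det_mul, Matrix.det_one, mul_self_eq_one_iff] at hsq'
    rw [one_smul, ← Matrix.det_reindex_self (split o), show ∀ X : Matrix (Idx k (t + 1)) (Idx k (t + 1)) F,
      Matrix.reindex (split o) (split o) X = rx o X from fun X => rfl, TensorWreathMax.rx_permM_swap,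
      Matrix.det_kronecker, Matrix.det_one, one_pow, one_mul, Fintype.card_fin]
    rcases hsq' with h' | h' <;> rw [h']
    · exact one_pow k
    · exact hk2.neg_one_pow
  · refine ⟨-1, Or.inr rfl, ?_⟩
    rw [Matrix.det_smul, h, Odd.neg_one_pow (by simp only [Fintype.card_fun, Fintype.card_fin]; exact hk2.pow),
      neg_one_mul, neg_neg]

variable [Fintype F]

/-- An isotropic vector whose transvections are not monomial. -/
theorem exists_entangled (S : Sp σ f) (ht : 1 ≤ t) :
    ∃ v : Idx k (t + 1) → F, tf σ f (t + 1) v v = 0 ∧ ∀ c : F, c ≠ 0 → ∀ g : GL (Idx k (t + 1)) F,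
      (∀ z, (g : Matrix (Idx k (t + 1)) (Idx k (t + 1)) F) *ᵥ z = z + (c * tf σ f (t + 1) z v) • v) →
        ¬ IsMonomial g := by
  classical
  obtain ⟨s, rfl⟩ : ∃ s, t = s + 1 := ⟨t - 1, by omega⟩
  have hu := S.unit
  have hU := S.tf_unitary (s + 1 + 1)
  obtain ⟨a, ha0, ha⟩ := S.exists_iso
  obtain ⟨b, hb, hba, hab⟩ := S.exists_partner ha0 ha
  obtain ⟨z, hza, hzb, hzz⟩ := S.exists_aniso_perp ha hb hab
  have haz := Unit.eq_zero_comm hu hza
  have hbz := Unit.eq_zero_comm hu hzb
  let w : (Fin k → F) → (Fin k → F) → Idx k (s + 1 + 1) → F := fun p q =>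
    tp (Fin.cons p (Fin.cons q fun _ : Fin s => z))
  set N := ∏ _ : Fin s, f z z
  have hN : N ≠ 0 := Finset.prod_ne_zero_iff.2 fun _ _ => hzz
  have hw : ∀ p q p' q', tf σ f (s + 1 + 1) (w p q) (w p' q') = f p p' * (f q q' * N) := fun p q p' q' => by
    rw [S.tf_tp, Fin.prod_univ_succ, Fin.prod_univ_succ]
    simp [N]
  refine ⟨w a a + w b z + w z b, ?_, fun c hc g hg hmon => ?_⟩
  · simp only [Unit.add_left hU, Unit.add_right hU, hw, ha, hb, hzz, hza, hzb, haz, hbz, hab, hba, zero_mul,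
      mul_zero, add_zero]
  obtain ⟨π, as, hmon⟩ := hmon
  set xs : Fin (s + 1 + 1) → Fin k → F := Fin.cons b (Fin.cons b fun _ : Fin s => z)
  set lam := c * tf σ f (s + 1 + 1) (tp xs) (w a a + w b z + w z b) with hlam
  have hlam0 : lam ≠ 0 := by
    rw [hlam, show tp xs = w b b from rfl]
    simp only [Unit.add_right hU, hw, hba, hb, hbz, zero_mul, mul_zero, add_zero, one_mul]
    exact mul_ne_zero hc hN
  have h1 := hg (tp xs)
  rw [hmon, ← hlam] at h1
  set ys : Fin (s + 1 + 1) → Fin k → F := fun i => (as i : Matrix (Fin k) (Fin k) F) *ᵥ xs (π i)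
  -- a functional killing both first factors
  let L : (Fin 3 → F) →ₗ[F] (Fin k → F) :=
    { toFun := fun r => r 0 • fVec f a + r 1 • fVec f b + r 2 • fVec f z
      map_add' := fun r r' => by simp only [Pi.add_apply, add_smul]; abel
      map_smul' := fun e r => by simp only [Pi.smul_apply, smul_eq_mul, mul_smul, smul_add, RingHom.id_apply] }
  obtain ⟨r, hr, hr0⟩ := (Submodule.ne_bot_iff _).1 (LinearMap.ker_ne_bot_of_finrank_lt
    (f := (((dotProductBilin F F).flip (xs 0)).prod ((dotProductBilin F F).flip (ys 0))).comp L)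
    (by rw [Module.finrank_prod, Module.finrank_self, Module.finrank_fintype_fun_eq_card, Fintype.card_fin]; omega))
  rw [LinearMap.mem_ker] at hr
  have hrx : L r ⬝ᵥ xs 0 = 0 := by simpa using congrArg Prod.fst hr
  have hry : L r ⬝ᵥ ys 0 = 0 := by simpa using congrArg Prod.snd hr
  have h2 := congrArg (fun v => ct (L r) (tvec 0 v)) h1
  simp only [map_add, map_smul, w, tvec_tp, ct_pl, Fin.cons_zero, hrx, hry, zero_smul, zero_add,
    Fin.removeNth_zero, Fin.tail_cons] at h2
  have h3 := (smul_eq_zero.1 h2.symm).resolve_left hlam0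
  have hL : ∀ x, L r ⬝ᵥ x = r 0 * f x a + r 1 * f x b + r 2 * f x z := fun x => by
    simp only [L, LinearMap.coe_mk, AddHom.coe_mk, add_dotProduct, smul_dotProduct, S.fdot, smul_eq_mul]
  have key : ∀ p : Fin k → F, (L r ⬝ᵥ a) * (f a p * N) + (L r ⬝ᵥ b) * (f z p * N) + (L r ⬝ᵥ z) * (f b p * N) = 0 := by
    intro p
    have h4 := congrArg (fun v => tf σ f (s + 1) v (tp (Fin.cons p fun _ : Fin s => z))) h3
    simp only [Unit.add_left (S.tf_unitary (s + 1)), Unit.smul_left (S.tf_unitary (s + 1)),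
      Unit.zero_left (S.tf_unitary (s + 1)), S.tf_tp, Fin.prod_univ_succ, Fin.cons_zero, Fin.cons_succ] at h4
    exact h4
  have e1 := key b
  have e2 := key z
  have e3 := key a
  simp only [hab, hba, ha, hb, hza, hzb, haz, hbz, zero_mul, mul_zero, add_zero, zero_add, one_mul, mul_eq_zero, hN,
    hzz, or_false] at e1 e2 e3
  rw [hL, ha, hab, haz, mul_zero, mul_zero, mul_one, zero_add, add_zero] at e1
  rw [hL, hb, hba, hbz, mul_zero, mul_zero, mul_one, add_zero, add_zero] at e2
  rw [hL, hza, hzb, mul_zero, mul_zero, zero_add, zero_add] at e3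
  refine hr0 (funext fun i => ?_)
  fin_cases i
  · exact e2
  · exact e1
  · exact (mul_eq_zero.1 e3).resolve_right hzz

/-- The stabiliser of a tensor power decomposition is maximal in the special unitary group. -/
theorem maximal_tensor_wreath_all {n q : ℕ} (hcard : Fintype.card F = q ^ 2) (hk : 3 ≤ k) (ht : 2 ≤ t)
    (hex : ¬ (q = 2 ∧ k = 3)) (e : Fin n ≃ (Fin t → Fin k)) (P : GL (Fin n) F)
    (hf : Cfsg.Geo.IsUnitaryFormPow q f)
    (hT : Cfsg.Geo.IsTensorPowerFormStructure (fun x : F => x ^ q) (Cfsg.hermForm n F q) f e P) :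
    Cfsg.Geo.IsMaximalIn (Cfsg.GU n F q ⊓ Cfsg.Geo.specialLinear (Fin n) F)
      (Cfsg.Geo.tensorWreathSubgroup k t e P ⊓ (Cfsg.GU n F q ⊓ Cfsg.Geo.specialLinear (Fin n) F)) := by
  classical
  obtain ⟨t, rfl⟩ : ∃ s, t = s + 1 := ⟨t - 1, by omega⟩
  have S : Sp (UnitPow.conj hcard) f := ⟨UnitPow.isUnitaryForm_of_pow hcard hf, hk, by
    by_cases hq : q = 2
    · exact Or.inr (by omega)
    · obtain ⟨s, hs, hs0, hs1⟩ := UnitTensor.exists_fixed hcard hq
      exact Or.inl ⟨s, hs, hs0, hs1⟩⟩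
  have hU := S.tf_unitary (t + 1)
  have hherm := UnitPow.isUnitaryForm_hermForm hcard n
  obtain ⟨c₀, hc₀, hform⟩ := hT
  let cd := CfsgLib.Maximal.TensorTools.coord e P
  have hval : ∀ x y, Cfsg.hermForm n F q (cd x) (cd y) = c₀ * tf (UnitPow.conj hcard) f (t + 1) x y := fun x y => by
    show Cfsg.hermForm n F q (CfsgLib.Maximal.TensorTools.coord e P x) _ = _
    rw [CfsgLib.Maximal.TensorTools.coord_apply, CfsgLib.Maximal.TensorTools.coord_apply, hform]
    rfl
  let Φ : GL (Idx k (t + 1)) F ≃* GL (Fin n) F := (Cfsg.Geo.glReindex e.symm).trans (MulAut.conj P)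
  have hΦ : ∀ g x, (Φ g : Matrix (Fin n) (Fin n) F) *ᵥ cd x =
      cd ((g : Matrix (Idx k (t + 1)) (Idx k (t + 1)) F) *ᵥ x) := fun g x =>
    CfsgLib.Maximal.TensorTools.conj_reindex_mulVec e P g x
  have hH : Cfsg.Geo.tensorWreathSubgroup k (t + 1) e P =
      (Cfsg.Geo.tensorWreathStandard k (t + 1) F).map Φ.toMonoidHom := by
    rw [Cfsg.Geo.tensorWreathSubgroup, Subgroup.map_map]
    rfl
  have hSL : ∀ g, Φ g ∈ Cfsg.Geo.specialLinear (Fin n) F ↔
      (g : Matrix (Idx k (t + 1)) (Idx k (t + 1)) F).det = 1 := fun g => by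
    rw [mem_specialLinear]
    show ((P * Cfsg.Geo.glReindex e.symm g * P⁻¹ : GL (Fin n) F) : Matrix (Fin n) (Fin n) F).det = 1 ↔ _
    rw [Units.val_mul, Units.val_mul, Matrix.coe_units_inv, Matrix.det_conj P.isUnit]
    show (Matrix.reindexAlgEquiv F F e.symm (g : Matrix (Idx k (t + 1)) (Idx k (t + 1)) F)).det = 1 ↔ _
    rw [Matrix.det_reindexAlgEquiv]
  have hmap : ∀ g, Φ g ∈ Cfsg.Geo.tensorWreathSubgroup k (t + 1) e P ↔
      g ∈ Cfsg.Geo.tensorWreathStandard k (t + 1) F :=
    fun g => by rw [hH]; exact Subgroup.mem_map_iff_mem Φ.injective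
  have hGU : ∀ g, Φ g ∈ Cfsg.GU n F q ↔
      Pres (tf (UnitPow.conj hcard) f (t + 1)) (g : Matrix (Idx k (t + 1)) (Idx k (t + 1)) F) := fun g => by
    rw [UnitPow.mem_GU]
    refine ⟨fun h x y => mul_left_cancel₀ hc₀ ?_, fun h u v => ?_⟩
    · rw [← hval, ← hval, ← hΦ, ← hΦ, h]
    · obtain ⟨x, rfl⟩ := cd.surjective u
      obtain ⟨y, rfl⟩ := cd.surjective v
      rw [hΦ, hΦ, hval, hval, h]
  have hc₀fix : UnitPow.conj hcard c₀ = c₀ := by
    obtain ⟨a, -, ha⟩ := S.exists_iso
    obtain ⟨z, -, hz⟩ := S.exists_aniso a ha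
    have h1 := Unit.self_fixed hherm (v := cd (tp fun _ : Fin (t + 1) => z))
    rw [hval, map_mul, Unit.self_fixed hU] at h1
    refine mul_right_cancel₀ ?_ h1
    rw [S.tf_tp]
    exact Finset.prod_ne_zero_iff.2 fun _ _ => hz
  refine ⟨lt_of_le_of_ne inf_le_right fun heq => ?_, fun M hM hMK => ?_⟩
  · obtain ⟨v, hv, hnot⟩ := exists_entangled S (t := t) (by omega)
    obtain ⟨c, hc0, hc⟩ := Unit.exists_skew S.unit.ne_refl S.invol
    obtain ⟨g, hg⟩ := Φ.surjective (formTv (Cfsg.hermForm n F q) (cd v) (c / c₀))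
    have hvv : Cfsg.hermForm n F q (cd v) (cd v) = 0 := by rw [hval, hv, mul_zero]
    have hcs : c / c₀ + UnitPow.conj hcard (c / c₀) = 0 := by rw [map_div₀, hc₀fix, ← add_div, hc, zero_div]
    refine hnot c hc0 g (fun z => cd.injective ?_) (isMonomial_of_mem ((hmap g).1 ?_))
    · rw [← hΦ, hg, Unit.formTv_mulVec hherm hvv, hval, map_add, map_smul, ← mul_assoc, div_mul_cancel₀ _ hc₀]
    · have h1 : formTv (Cfsg.hermForm n F q) (cd v) (c / c₀) ∈
          Cfsg.GU n F q ⊓ Cfsg.Geo.specialLinear (Fin n) F :=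
        ⟨UnitPow.mem_GU.2 (Unit.formTv_isometry hherm hvv hcs), formTv_mem_specialLinear _ _ _⟩
      rw [← heq, ← hg] at h1
      exact h1.1
  let H : Subgroup (GL (Idx k (t + 1)) F) := M.comap Φ.toMonoidHom
  have hmem : ∀ X : Matrix (Idx k (t + 1)) (Idx k (t + 1)) F, X.det = 1 → Pres (tf (UnitPow.conj hcard) f (t + 1)) X →
      (∃ π as, TensorWreathMax.Mon X π as) → In H X := by
    rintro X hX hpr ⟨π, as, h⟩
    let g : GL (Idx k (t + 1)) F := GeneralLinearGroup.mkOfDetNeZero X (by rw [hX]; exact one_ne_zero)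
    exact ⟨g, hM ⟨(hmap g).2 (TensorWreathMax.mem_standard ⟨π, as, h⟩), (hGU g).2 hpr, (hSL g).2 hX⟩, rfl⟩
  have hFull : Full (UnitPow.conj hcard) f H :=
    { sp := S
      iso := fun g hg => (hGU g).1 (hMK hg).1
      su_mem := fun i A hA => hmem _ (TensorWreathMax.det_slot i _ (mem_su.1 hA).2) (S.pres_slot (mem_su.1 hA).1 i)
        ⟨1, Function.update 1 i A, fun xs => by
          rw [slot_mulVec]
          congr 1
          funext l
          rcases eq_or_ne l i with rfl | hl
          · simp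
          · simp [hl]⟩
      perm := fun ht3 j l hjl => by
        obtain ⟨c, hc, hdet⟩ := exists_sign_smul_permM (F := F) hk ht3 j l hjl
        have hcc : UnitPow.conj hcard c * c = 1 := by rcases hc with rfl | rfl <;> simp [map_neg]
        have hc0 : c ≠ 0 := fun h => by rw [h, mul_zero] at hcc; exact zero_ne_one hcc
        refine ⟨c, hcc, hmem _ hdet (fun x y => ?_) ⟨Equiv.swap j l,
          fun i => if i = j then Units.map (Matrix.scalar (Fin k) : F →+* Matrix (Fin k) (Fin k) F).toMonoidHom (Units.mk0 c hc0)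
            else 1, fun xs => ?_⟩⟩
        · rw [Matrix.smul_mulVec, Matrix.smul_mulVec, Unit.smul_left hU, Unit.smul_right hU, S.pres_permM, ← mul_assoc,
            mul_comm c, hcc, one_mul]
        · rw [Matrix.smul_mulVec, permM_mulVec]
          funext a
          simp only [tp, Pi.smul_apply, smul_eq_mul]
          rw [← Finset.mul_prod_erase _ _ (Finset.mem_univ j), ← Finset.mul_prod_erase (s := Finset.univ) (a := j)
            (f := fun i => _) (Finset.mem_univ j), ← mul_assoc]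
          congr 1
          · simp [Matrix.scalar_apply, Matrix.mulVec_diagonal]
          · refine Finset.prod_congr rfl fun i hi => ?_
            simp [Finset.ne_of_mem_erase hi] }
  by_cases hR : RootsOn (UnitPow.conj hcard) f H Finset.univ
  · refine Or.inr (le_antisymm hMK ?_)
    have hn9 : 9 ≤ n := by
      have h1 := Fintype.card_congr e
      rw [Fintype.card_fun, Fintype.card_fin, Fintype.card_fin, Fintype.card_fin] at h1
      have h4 : 3 ^ 2 ≤ k ^ (t + 1) := (Nat.pow_le_pow_left hk 2).trans (Nat.pow_le_pow_right (by omega) (by omega))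
      omega
    refine UnitGen.specialUnitary_le_of_formTv_mem hcard (by omega) (by omega) fun v hv c hc => ?_
    obtain ⟨x, rfl⟩ := cd.surjective v
    rw [hval] at hv
    have hx := (mul_eq_zero.1 hv).resolve_left hc₀
    obtain ⟨g, hg, hge⟩ := hFull.tv_mem (by omega) hR hx (c := c * c₀)
      (by rw [map_mul, hc₀fix, UnitPow.conj_apply, ← add_mul, hc, zero_mul])
    have h1 : Φ g = formTv (Cfsg.hermForm n F q) (cd x) c := gl_ext fun u => by
      obtain ⟨z, rfl⟩ := cd.surjective u
      rw [Unit.formTv_mulVec hherm (by rw [hval, hx, mul_zero]), hΦ, hge, Matrix.add_mulVec, Matrix.one_mulVec,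
        Matrix.smul_mulVec, vecMulVec_mulVec, op_smul_eq_smul, (Unit.sesq hU).fVec_dot, map_add, map_smul, map_smul,
        hval, smul_smul, mul_assoc]
    exact h1 ▸ hg
  · refine Or.inl (le_antisymm (fun g hg => ?_) hM)
    obtain ⟨g, rfl⟩ := Φ.surjective g
    exact ⟨(hmap g).2 (TensorWreathMax.mem_standard
      (forall_mem_isMonomial (by omega) (rigidity S t (by omega)) hFull hR g hg)), hMK hg⟩

/-- The stabiliser of a tensor power decomposition is maximal in the special unitary group, large dimension. -/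
theorem maximal_tensor_wreath {n q : ℕ} (hcard : Fintype.card F = q ^ 2) (_hn : 13 ≤ n) (hk : 3 ≤ k) (ht : 2 ≤ t)
    (hex : ¬ (q = 2 ∧ k = 3)) (e : Fin n ≃ (Fin t → Fin k)) (P : GL (Fin n) F)
    (hf : Cfsg.Geo.IsUnitaryFormPow q f)
    (hT : Cfsg.Geo.IsTensorPowerFormStructure (fun x : F => x ^ q) (Cfsg.hermForm n F q) f e P) :
    Cfsg.Geo.IsMaximalIn (Cfsg.GU n F q ⊓ Cfsg.Geo.specialLinear (Fin n) F)
      (Cfsg.Geo.tensorWreathSubgroup k t e P ⊓ (Cfsg.GU n F q ⊓ Cfsg.Geo.specialLinear (Fin n) F)) :=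
  maximal_tensor_wreath_all hcard hk ht hex e P hf hT

end CfsgLib.UnitWreathMax
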